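import Mathlib

/-!
# Frobenius groups of automorphisms of an abelian 3-group

`ξ` of prime order `ℓ` without fixed points, `φ` of order dividing `n` inducing an automorphism of order `n` of `⟨ξ⟩`.
Minus the sum of `ξ ^ r` over representatives `r` of the orbits has relative trace one: the fixed points of `φ` are the
norms and an element of norm one is `φ c / c`.  If `n = e` is the order of `3` modulo `ℓ` and `φ` fixes at most three
elements, then `V` has order `3 ^ e`; if `n` is a power of three then `|V| = |C_V(φ)| ^ n`.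
-/

set_option autoImplicit false
set_option linter.unusedSectionVars false
set_option linter.style.haveILetI false

namespace Cfsg.Agent.Walter.JR.Res3

universe u

variable {V : Type u} [CommGroup V]

/-- `v ↦ φ v / v`. -/
def fdel (φ : MulAut V) : V →* V where
  toFun v := φ v * v⁻¹
  map_one' := by simp
  map_mul' a b := by rw [map_mul, mul_inv, mul_mul_mul_comm]

theorem fdel_apply (φ : MulAut V) (v : V) : fdel φ v = φ v * v⁻¹ := rfl

/-- The fixed points. -/
abbrev fixV (φ : MulAut V) : Subgroup V := (fdel φ).ker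

theorem mem_fixV {φ : MulAut V} {v : V} : v ∈ fixV φ ↔ φ v = v := by
  rw [MonoidHom.mem_ker, fdel_apply, mul_inv_eq_one]

/-- The norm. -/
def fnorm (φ : MulAut V) (n : ℕ) : V →* V where
  toFun v := ∏ k ∈ Finset.range n, (φ ^ k) v
  map_one' := Finset.prod_eq_one fun k _ => map_one _
  map_mul' a b := by rw [← Finset.prod_mul_distrib]; exact Finset.prod_congr rfl fun k _ => map_mul _ _ _

theorem fnorm_apply (φ : MulAut V) (n : ℕ) (v : V) : fnorm φ n v = ∏ k ∈ Finset.range n, (φ ^ k) v := rfl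

theorem pow_fix {φ : MulAut V} {v : V} (h : φ v = v) (k : ℕ) : (φ ^ k) v = v := by
  induction k with
  | zero => rfl
  | succ k ih => rw [pow_succ, MulAut.mul_apply, h, ih]

theorem fnorm_fix (φ : MulAut V) {n : ℕ} (hn : φ ^ n = 1) (v : V) : φ (fnorm φ n v) = fnorm φ n v := by
  rw [fnorm_apply, map_prod]
  have e1 := Finset.prod_range_succ (fun k => (φ ^ k) v) n
  have e2 := Finset.prod_range_succ' (fun k => (φ ^ k) v) n
  simp only [hn, pow_zero] at e1 e2
  rw [e1] at e2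
  refine (Finset.prod_congr rfl fun k _ => ?_).trans (mul_right_cancel e2).symm
  rw [pow_succ', MulAut.mul_apply]

/-- The configuration. -/
structure FrobAct (φ ξ : MulAut V) (ℓ n : ℕ) : Prop where
  prime : ℓ.Prime
  xpow : ξ ^ ℓ = 1
  fpf : ∀ v, ξ v = v → v = 1
  fpow : φ ^ n = 1
  pos : 0 < n
  conj : ∃ μ : ℕ, φ * ξ * φ⁻¹ = ξ ^ μ ∧ orderOf (μ : ZMod ℓ) = n

namespace FrobAct

variable {φ ξ : MulAut V} {ℓ n : ℕ} (h : FrobAct φ ξ ℓ n)

include h

theorem xmod {a b : ℕ} (e : (a : ZMod ℓ) = (b : ZMod ℓ)) : ξ ^ a = ξ ^ b := by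
  rw [ZMod.natCast_eq_natCast_iff] at e
  exact pow_eq_pow_iff_modEq.2 (e.of_dvd (orderOf_dvd_of_pow_eq_one h.xpow))

/-- `∏ ξ ^ i v = 1`. -/
theorem prod_orbit (v : V) [NeZero ℓ] : ∏ i : ZMod ℓ, (ξ ^ i.val) v = 1 := by
  haveI := Fact.mk h.prime
  refine h.fpf _ ?_
  rw [map_prod]
  refine Fintype.prod_equiv (Equiv.addRight (1 : ZMod ℓ)) _ _ fun i => ?_
  rw [← MulAut.mul_apply, ← pow_succ']
  refine congrArg (fun g : MulAut V => g v) (h.xmod ?_)
  simp

theorem conj_pow' : ∃ μ : (ZMod ℓ)ˣ, orderOf μ = n ∧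
    ∀ (k : ℕ) (i : ℕ) (v : V), (φ ^ k) ((ξ ^ i) v) = (ξ ^ (((μ ^ k : (ZMod ℓ)ˣ) : ZMod ℓ) * i).val) ((φ ^ k) v) := by
  haveI := Fact.mk h.prime
  obtain ⟨μ, hc, ho⟩ := h.conj
  have hμ : (μ : ZMod ℓ) ≠ 0 := fun e => by
    rw [e, orderOf_eq_zero_iff'.2 (fun j hj => by rw [zero_pow hj.ne']; exact zero_ne_one)] at ho
    exact h.pos.ne' ho.symm
  refine ⟨Units.mk0 _ hμ, by rw [← orderOf_units, Units.val_mk0, ho], fun k => ?_⟩
  induction k with
  | zero =>
    intro i v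
    simp only [pow_zero, Units.val_one, one_mul, MulAut.one_apply]
    exact congrArg (fun g : MulAut V => g v) (h.xmod (by simp))
  | succ k ih =>
    intro i v
    have e1 : ∀ w, φ ((ξ ^ i) w) = (ξ ^ (μ * i)) (φ w) := fun w => by
      have e := conj_pow (i := i) (a := φ) (b := ξ)
      rw [hc, ← pow_mul] at e
      have e' := congrArg (fun g : MulAut V => g (φ w)) e
      simpa using e'.symm
    rw [pow_succ φ k, MulAut.mul_apply, e1, ih, MulAut.mul_apply]
    refine congrArg (fun g : MulAut V => g ((φ ^ k) (φ v))) (h.xmod ?_)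
    simp [pow_succ]
    ring

/-- An element whose relative trace is one. -/
theorem exists_trace : ∃ g : V →* V, ∀ v : V, ∏ k ∈ Finset.range n, (φ ^ k) (g ((φ ^ (n - k)) v)) = v := by
  classical
  haveI := Fact.mk h.prime
  haveI : NeZero ℓ := ⟨h.prime.ne_zero⟩
  obtain ⟨μ, ho, hμ⟩ := h.conj_pow'
  set P := Subgroup.zpowers μ
  haveI := Fintype.ofFinite ((ZMod ℓ)ˣ ⧸ P)
  let g : V →* V :=
    { toFun := fun v => ∏ q : (ZMod ℓ)ˣ ⧸ P, ((ξ ^ ((q.out : (ZMod ℓ)ˣ) : ZMod ℓ).val) v)⁻¹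
      map_one' := Finset.prod_eq_one fun q _ => by rw [map_one, inv_one]
      map_mul' := fun a b => by
        rw [← Finset.prod_mul_distrib]
        exact Finset.prod_congr rfl fun q _ => by rw [map_mul, mul_inv] }
  refine ⟨g, fun v => ?_⟩
  let F : ((ZMod ℓ)ˣ ⧸ P) × Fin n → (ZMod ℓ)ˣ := fun p => μ ^ (p.2 : ℕ) * p.1.out
  have hF : Function.Bijective F := by
    constructor
    · rintro ⟨q, k⟩ ⟨q', k'⟩ e
      have hq : q = q' := by
        rw [← QuotientGroup.out_eq' q, ← QuotientGroup.out_eq' q', QuotientGroup.eq]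
        have e' : μ ^ (k : ℕ) * q.out = μ ^ (k' : ℕ) * q'.out := e
        have e2 : q.out⁻¹ * q'.out = (μ ^ (k' : ℕ))⁻¹ * μ ^ (k : ℕ) := by
          rw [inv_mul_eq_iff_eq_mul, ← mul_assoc, mul_comm (q.out) _, mul_assoc, mul_comm (q.out), e', inv_mul_cancel_left]
        rw [e2]
        exact mul_mem (inv_mem (pow_mem (Subgroup.mem_zpowers μ) _)) (pow_mem (Subgroup.mem_zpowers μ) _)
      subst hq
      have e' : μ ^ (k : ℕ) = μ ^ (k' : ℕ) := mul_right_cancel e
      rw [pow_eq_pow_iff_modEq, ho, Nat.ModEq, Nat.mod_eq_of_lt k.2, Nat.mod_eq_of_lt k'.2] at e'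
      rw [Fin.ext e']
    · intro c
      have hm : c * (QuotientGroup.mk (s := P) c).out⁻¹ ∈ P := by
        have := QuotientGroup.eq.1 (QuotientGroup.out_eq' (QuotientGroup.mk (s := P) c))
        rwa [mul_comm]
      obtain ⟨k, hk, hk'⟩ : ∃ k < n, μ ^ k = c * (QuotientGroup.mk (s := P) c).out⁻¹ := by
        rw [mem_zpowers_iff_mem_range_orderOf, Finset.mem_image] at hm
        obtain ⟨k, hk, hk'⟩ := hm
        exact ⟨k, ho ▸ Finset.mem_range.1 hk, hk'⟩
      exact ⟨⟨_, ⟨k, hk⟩⟩, by show μ ^ k * _ = c; rw [hk', inv_mul_cancel_right]⟩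
  have step : ∀ k ∈ Finset.range n, (φ ^ k) (g ((φ ^ (n - k)) v)) =
      ∏ q : (ZMod ℓ)ˣ ⧸ P, ((ξ ^ ((μ ^ k * q.out : (ZMod ℓ)ˣ) : ZMod ℓ).val) v)⁻¹ := by
    intro k hk
    show (φ ^ k) (∏ q : (ZMod ℓ)ˣ ⧸ P, _) = _
    rw [map_prod]
    refine Finset.prod_congr rfl fun q _ => ?_
    rw [map_inv, hμ, show (φ ^ k) ((φ ^ (n - k)) v) = v by
      rw [← MulAut.mul_apply, ← pow_add, Nat.add_sub_cancel' (Finset.mem_range.1 hk).le, h.fpow, MulAut.one_apply]]
    simp
  rw [Finset.prod_congr rfl step, ← Fin.prod_univ_eq_prod_range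
    (fun k => ∏ q : (ZMod ℓ)ˣ ⧸ P, ((ξ ^ ((μ ^ k * q.out : (ZMod ℓ)ˣ) : ZMod ℓ).val) v)⁻¹) n, Finset.prod_comm,
    ← Fintype.prod_prod_type']
  rw [Fintype.prod_bijective F hF _ (fun c : (ZMod ℓ)ˣ => ((ξ ^ (c : ZMod ℓ).val) v)⁻¹) fun p => rfl]
  rw [Finset.prod_inv_distrib, inv_eq_iff_mul_eq_one]
  have h0 := h.prod_orbit v
  rw [Fintype.prod_eq_mul_prod_compl (0 : ZMod ℓ), ZMod.val_zero, pow_zero, MulAut.one_apply, mul_comm] at h0
  refine (congrArg (· * v) ?_).trans h0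
  rw [Finset.prod_subtype ({0}ᶜ : Finset (ZMod ℓ)) (p := fun i => i ≠ 0) (fun i => by simp)]
  exact Fintype.prod_equiv unitsEquivNeZero _ _ fun c => rfl

theorem inv_pow_mem (k : ℕ) (v : V) : (φ ^ k) v * v⁻¹ ∈ (fdel φ).range := by
  induction k with
  | zero => simp [one_mem]
  | succ k ih =>
    have := mul_mem (MonoidHom.mem_range.2 ⟨(φ ^ k) v, rfl⟩ : fdel φ ((φ ^ k) v) ∈ (fdel φ).range) ih
    rw [fdel_apply, ← MulAut.mul_apply, ← pow_succ'] at this
    simpa [mul_assoc] using this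

/-- An element of norm one is `φ c / c`. -/
theorem exists_comm {v : V} (hv : fnorm φ n v = 1) : ∃ c, φ c * c⁻¹ = v := by
  obtain ⟨g, hg⟩ := h.exists_trace
  have hN : ∏ k ∈ Finset.range n, (φ ^ (n - k)) v = 1 := by
    have e : fnorm φ n (φ v) = 1 := by
      rw [show φ v = fdel φ v * v by rw [fdel_apply, inv_mul_cancel_right], map_mul, hv, mul_one, fdel_apply, map_mul,
        map_inv, mul_inv_eq_one]
      rw [← fnorm_fix φ h.fpow v, fnorm_apply, fnorm_apply, map_prod]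
      exact Finset.prod_congr rfl fun k _ => by rw [← MulAut.mul_apply, ← pow_succ, ← MulAut.mul_apply, ← pow_succ']
    rw [← e, fnorm_apply, ← Finset.prod_range_reflect]
    refine Finset.prod_congr rfl fun k hk => ?_
    rw [← MulAut.mul_apply, ← pow_succ]
    have := Finset.mem_range.1 hk
    congr 2
    omega
  have hw : ∏ k ∈ Finset.range n, (φ ^ k) (g ((φ ^ (n - k)) v)) * (g ((φ ^ (n - k)) v))⁻¹ ∈ (fdel φ).range :=
    Subgroup.prod_mem _ fun k _ => h.inv_pow_mem k _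
  rw [Finset.prod_mul_distrib, hg, Finset.prod_inv_distrib, ← map_prod, hN, map_one, inv_one, mul_one] at hw
  obtain ⟨c, hc⟩ := hw
  exact ⟨c, hc⟩

/-- Fixed points are norms. -/
theorem exists_norm {v : V} (hv : φ v = v) : ∃ w, fnorm φ n w = v := by
  obtain ⟨g, hg⟩ := h.exists_trace
  refine ⟨g v, ?_⟩
  conv_rhs => rw [← hg v]
  rw [fnorm_apply]
  exact Finset.prod_congr rfl fun k _ => by rw [pow_fix hv]

/-- `V ^ ℓ` is generated by the translates of norms. -/
theorem span [NeZero ℓ] (v : V) :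
    ∏ i : ZMod ℓ, (ξ ^ i.val) (fnorm φ n ((ξ ^ (-i).val) v)) = v ^ ℓ := by
  haveI := Fact.mk h.prime
  obtain ⟨μ, ho, hμ⟩ := h.conj_pow'
  simp only [fnorm_apply, map_prod]
  rw [Finset.prod_comm, Finset.prod_eq_single 0]
  · rw [Finset.prod_congr rfl (fun i _ => show (ξ ^ i.val) ((φ ^ 0) ((ξ ^ (-i).val) v)) = v by
      rw [pow_zero, MulAut.one_apply, ← MulAut.mul_apply, ← pow_add]
      exact (congrArg (fun g : MulAut V => g v) (h.xmod (b := 0) (by simp))).trans rfl)]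
    simp
  · intro k hk hk0
    have hkn := Finset.mem_range.1 hk
    have hne : (1 : ZMod ℓ) - ((μ ^ k : (ZMod ℓ)ˣ) : ZMod ℓ) ≠ 0 := fun e => by
      have e1 : μ ^ k = 1 := Units.ext (sub_eq_zero.1 e).symm
      have := Nat.le_of_dvd (Nat.pos_of_ne_zero hk0) (ho ▸ orderOf_dvd_of_pow_eq_one e1)
      omega
    rw [← h.prod_orbit ((φ ^ k) v)]
    refine Fintype.prod_equiv (Equiv.mulLeft₀ _ hne) _ _ fun i => ?_
    rw [hμ, ← MulAut.mul_apply, ← pow_add]
    refine congrArg (fun g : MulAut V => g _) (h.xmod ?_)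
    simp
    ring
  · intro h0
    exact absurd (Finset.mem_range.2 h.pos) h0

theorem eq_one_of_norms {p : ℕ} [Fact p.Prime] (hV : IsPGroup p V) (hp : p ≠ ℓ) {v : V}
    (hv : ∀ i : ℕ, fnorm φ n ((ξ ^ i) v) = 1) : v = 1 := by
  haveI : NeZero ℓ := ⟨h.prime.ne_zero⟩
  have e : v ^ ℓ = 1 := by
    rw [← h.span v]
    exact Finset.prod_eq_one fun i _ => by rw [hv, map_one]
  obtain ⟨j, hj⟩ := hV v
  exact orderOf_eq_one_iff.1 (Nat.eq_one_of_dvd_coprimes
    (((Nat.coprime_primes h.prime Fact.out).2 (Ne.symm hp)).pow_right j)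
    (orderOf_dvd_of_pow_eq_one e) (orderOf_dvd_of_pow_eq_one hj))

/-- A non-trivial 3-group has fixed points. -/
theorem exists_fix [Nontrivial V] {p : ℕ} [Fact p.Prime] (hV : IsPGroup p V) (hp : p ≠ ℓ) :
    ∃ v : V, v ≠ 1 ∧ φ v = v := by
  obtain ⟨v, hv⟩ := exists_ne (1 : V)
  by_contra hne
  push Not at hne
  exact hv (h.eq_one_of_norms hV hp fun i => by_contra fun e => hne _ e (fnorm_fix φ h.fpow _))

/-- The powers of `φ`. -/
theorem pow (d : ℕ) : FrobAct (φ ^ d) ξ ℓ (n / Nat.gcd n d) := by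
  haveI := Fact.mk h.prime
  obtain ⟨μ, hμc, hμ⟩ := h.conj
  have hn : n / Nat.gcd n d * Nat.gcd n d = n := Nat.div_mul_cancel (Nat.gcd_dvd_left _ _)
  obtain ⟨c, hc⟩ := Nat.gcd_dvd_right n d
  refine ⟨h.prime, h.xpow, h.fpf, ?_, Nat.pos_of_ne_zero fun e => h.pos.ne' (by rw [← hn, e, zero_mul]), μ ^ d, ?_, ?_⟩
  · generalize Nat.gcd n d = g at hn hc ⊢
    subst hc
    rw [← pow_mul, show g * c * (n / g) = (n / g * g) * c by ring, hn, pow_mul,
      h.fpow, one_pow]
  · clear hn hc hμ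
    induction d with
    | zero => simp
    | succ d ih =>
      rw [pow_succ' φ, show φ * φ ^ d * ξ * (φ * φ ^ d)⁻¹ = φ * (φ ^ d * ξ * (φ ^ d)⁻¹) * φ⁻¹ by group, ih, ← conj_pow,
        hμc, ← pow_mul, ← pow_succ']
  · rcases Nat.eq_zero_or_pos d with rfl | hd
    · simp [Nat.div_self h.pos]
    · rw [Nat.cast_pow, orderOf_pow' _ hd.ne', hμ]

/-- If `φ` fixes at most three elements of a 3-group, the exponent divides three. -/
theorem cube [Finite V] (hV : IsPGroup 3 V) (hℓ : ℓ ≠ 3) (hfix : Nat.card (fixV φ) ≤ 3) (v : V) : v ^ 3 = 1 := by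
  haveI := Fact.mk Nat.prime_three
  refine h.eq_one_of_norms hV (Ne.symm hℓ) fun i => ?_
  rw [map_pow, map_pow]
  obtain ⟨k, hk⟩ := IsPGroup.iff_card.1 (hV.to_subgroup (fixV φ))
  have hd := Subgroup.orderOf_dvd_natCard (fixV φ) (mem_fixV.2 (fnorm_fix φ h.fpow ((ξ ^ i) v)))
  rw [hk] at hd hfix
  have hk1 : k ≤ 1 := (Nat.pow_le_pow_iff_right (by norm_num)).1 (hfix.trans_eq (pow_one 3).symm)
  exact orderOf_dvd_iff_pow_eq_one.1 (hd.trans ((pow_dvd_pow 3 hk1).trans (dvd_of_eq (pow_one 3))))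

end FrobAct

section Cube

variable [Finite V] (h3 : ∀ v : V, v ^ 3 = 1)

include h3

theorem fdel_two (φ : MulAut V) (v : V) : fdel φ (fdel φ v) = fnorm φ 3 v := by
  have hsq : ∀ w : V, w⁻¹ * w⁻¹ = w := fun w => by
    rw [← mul_inv, inv_eq_iff_mul_eq_one, ← pow_two, ← pow_succ, h3]
  rw [fnorm_apply, fdel_apply, fdel_apply, Finset.prod_range_succ, Finset.prod_range_succ, Finset.prod_range_one,
    pow_zero, pow_one, pow_two, MulAut.mul_apply, MulAut.one_apply, map_mul, map_inv, mul_inv, inv_inv]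
  rw [show φ (φ v) * (φ v)⁻¹ * ((φ v)⁻¹ * v) = φ (φ v) * ((φ v)⁻¹ * (φ v)⁻¹) * v by
    simp only [mul_assoc, mul_comm, mul_left_comm], hsq]
  simp only [mul_assoc, mul_comm, mul_left_comm]

/-- `|W| = |C_W(φ)| ^ 3` when kernel of the norm and image agree. -/
theorem card_of_exact (φ : MulAut V) (hφ : φ ^ 3 = 1) (W : Subgroup V) (hW : ∀ w ∈ W, φ w ∈ W)
    (hker : ∀ w ∈ W, fnorm φ 3 w = 1 → ∃ c ∈ W, φ c * c⁻¹ = w)
    (him : ∀ w ∈ W, φ w = w → ∃ c ∈ W, fnorm φ 3 c = w) :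
    Nat.card W = Nat.card (W ⊓ fixV φ : Subgroup V) ^ 3 := by
  set C := W ⊓ fixV φ
  have hd : ∀ w ∈ W, fdel φ w ∈ W := fun w hw => mul_mem (hW w hw) (inv_mem hw)
  let N : W →* C := ((fnorm φ 3).comp W.subtype).codRestrict C fun w => Subgroup.mem_inf.2
    ⟨by
      show fnorm φ 3 (w : V) ∈ W
      rw [← fdel_two h3]; exact hd _ (hd _ w.2), mem_fixV.2 (fnorm_fix φ hφ _)⟩
  have hN : Function.Surjective N := fun ⟨v, hv⟩ => by
    obtain ⟨c, hc, e⟩ := him v (Subgroup.mem_inf.1 hv).1 (mem_fixV.1 (Subgroup.mem_inf.1 hv).2)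
    exact ⟨⟨c, hc⟩, Subtype.ext e⟩
  -- the map `d` from the kernel of the norm onto `C`
  let D : N.ker →* C := ((fdel φ).comp (W.subtype.comp N.ker.subtype)).codRestrict C fun w => Subgroup.mem_inf.2
    ⟨hd _ w.1.2, mem_fixV.2 (by
      have e : fnorm φ 3 ((w.1 : W) : V) = 1 := congrArg Subtype.val (MonoidHom.mem_ker.1 w.2)
      rw [← fdel_two h3] at e
      exact mul_inv_eq_one.1 e)⟩
  have hD : Function.Surjective D := fun ⟨v, hv⟩ => by
    obtain ⟨c, hc, e⟩ := him v (Subgroup.mem_inf.1 hv).1 (mem_fixV.1 (Subgroup.mem_inf.1 hv).2)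
    refine ⟨⟨⟨fdel φ c, hd c hc⟩, MonoidHom.mem_ker.2 (Subtype.ext ?_)⟩, Subtype.ext (?_ : fdel φ (fdel φ c) = v)⟩
    · show fnorm φ 3 (fdel φ c) = 1
      rw [fdel_apply, map_mul, map_inv, mul_inv_eq_one]
      conv_rhs => rw [← fnorm_fix φ hφ c, fnorm_apply, map_prod]
      rw [fnorm_apply]
      exact Finset.prod_congr rfl fun k _ => by rw [← MulAut.mul_apply, ← pow_succ, ← MulAut.mul_apply, ← pow_succ']
    · rw [fdel_two h3, e]
  have hker' : Nat.card D.ker = Nat.card C := by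
    refine Nat.card_congr
      { toFun := fun w => ⟨((w.1 : W) : V), Subgroup.mem_inf.2 ⟨w.1.1.2,
          mem_fixV.2 (mul_inv_eq_one.1 (congrArg Subtype.val (MonoidHom.mem_ker.1 w.2) :))⟩⟩
        invFun := fun v => ⟨⟨⟨(v : V), (Subgroup.mem_inf.1 v.2).1⟩, MonoidHom.mem_ker.2 (Subtype.ext (by
          show fnorm φ 3 (v : V) = 1
          rw [← fdel_two h3, show fdel φ (v : V) = 1 from (Subgroup.mem_inf.1 v.2).2, map_one]))⟩,
          MonoidHom.mem_ker.2 (Subtype.ext (Subgroup.mem_inf.1 v.2).2)⟩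
        left_inv := fun w => rfl
        right_inv := fun v => rfl }
  have h1 := N.ker.card_mul_index
  have h2 := D.ker.card_mul_index
  rw [Subgroup.index_ker, MonoidHom.range_eq_top_of_surjective _ hN, Subgroup.card_top] at h1
  rw [Subgroup.index_ker, MonoidHom.range_eq_top_of_surjective _ hD, Subgroup.card_top, hker'] at h2
  rw [← h1, ← h2]
  ring

/-- `|V| = |C_V(φ)| ^ n` for `n` a power of three. -/
theorem FrobAct.card_pow {φ ξ : MulAut V} {ℓ j : ℕ} (h : FrobAct φ ξ ℓ (3 ^ j)) :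
    Nat.card V = Nat.card (fixV φ) ^ 3 ^ j := by
  induction j generalizing φ with
  | zero =>
    rw [pow_zero, pow_one, show φ = 1 by simpa using h.fpow, show fixV (1 : MulAut V) = ⊤ from
      eq_top_iff.2 fun v _ => mem_fixV.2 rfl, Subgroup.card_top]
  | succ j ih =>
    have hd : FrobAct (φ ^ 3) ξ ℓ (3 ^ j) := by
      have := h.pow 3
      rwa [show Nat.gcd (3 ^ (j + 1)) 3 = 3 from Nat.gcd_eq_right (dvd_pow_self 3 (Nat.succ_ne_zero j)),
        show 3 ^ (j + 1) / 3 = 3 ^ j by rw [pow_succ' (3 : ℕ)]; exact Nat.mul_div_cancel_left _ (by norm_num)] at this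
    rw [ih hd, pow_succ' 3 j, pow_mul]
    congr 1
    have hle : fixV φ ≤ fixV (φ ^ 3) := fun v hv => mem_fixV.2 (pow_fix (mem_fixV.1 hv) 3)
    set W := fixV (φ ^ 3)
    have hφW : ∀ w ∈ W, φ w ∈ W := fun w hw => mem_fixV.2 (by
      rw [← MulAut.mul_apply, ← pow_succ, pow_succ', MulAut.mul_apply, mem_fixV.1 hw])
    -- the restriction of `φ` to `W` has order three
    let r : MulAut W :=
      { toFun := fun w => ⟨φ w, hφW w w.2⟩
        invFun := fun w => ⟨φ (φ (w : V)), hφW _ (hφW _ w.2)⟩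
        left_inv := fun w => Subtype.ext (by
          show φ (φ (φ (w : V))) = w
          have := mem_fixV.1 w.2
          rwa [pow_succ', pow_two, MulAut.mul_apply, MulAut.mul_apply] at this)
        right_inv := fun w => Subtype.ext (by
          show φ (φ (φ (w : V))) = w
          have := mem_fixV.1 w.2
          rwa [pow_succ', pow_two, MulAut.mul_apply, MulAut.mul_apply] at this)
        map_mul' := fun a b => Subtype.ext (map_mul φ _ _) }
    have hr : ∀ (k : ℕ) (w : W), (((r ^ k) w : W) : V) = (φ ^ k) (w : V) := by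
      intro k
      induction k with
      | zero => exact fun w => rfl
      | succ k ih => exact fun w => by rw [pow_succ, pow_succ, MulAut.mul_apply, MulAut.mul_apply, ih]; rfl
    have hrn : ∀ w : W, ((fnorm r 3 w : W) : V) = fnorm φ 3 (w : V) := fun w => by
      rw [fnorm_apply, fnorm_apply, ← Subgroup.coe_subtype W, map_prod]
      exact Finset.prod_congr rfl fun k _ => hr k w
    have hr3 : r ^ 3 = 1 := MulEquiv.ext fun w => Subtype.ext (by rw [hr]; exact mem_fixV.1 w.2)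
    -- the norms in two steps
    have hsplit : ∀ v : V, fnorm φ (3 ^ (j + 1)) v = fnorm φ 3 (fnorm (φ ^ 3) (3 ^ j) v) := by
      intro v
      rw [fnorm_apply, fnorm_apply, pow_succ' 3 j]
      simp only [fnorm_apply, map_prod, ← MulAut.mul_apply, ← pow_mul, ← pow_add]
      rw [Finset.prod_comm, show 3 * 3 ^ j = 3 ^ j * 3 by ring]
      generalize 3 ^ j = N
      induction N with
      | zero => simp
      | succ N ihN =>
        rw [Finset.prod_range_succ, ← ihN, Nat.succ_mul, Finset.prod_range_add]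
        congr 1
        exact Finset.prod_congr rfl fun k _ => by rw [show N * 3 + k = k + 3 * N by ring]
    have key := card_of_exact (V := W) (fun w => Subtype.ext (h3 _)) r hr3 ⊤ (fun w _ => Subgroup.mem_top _)
      (fun w _ hw => by
        obtain ⟨v, hv⟩ := hd.exists_norm (mem_fixV.1 w.2)
        have e : fnorm φ (3 ^ (j + 1)) v = 1 := by
          rw [hsplit, hv, ← hrn, hw]; rfl
        obtain ⟨c, hc⟩ := h.exists_comm e
        refine ⟨⟨fnorm (φ ^ 3) (3 ^ j) c, mem_fixV.2 (fnorm_fix _ hd.fpow c)⟩, Subgroup.mem_top _, Subtype.ext ?_⟩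
        rw [← hv, ← hc, map_mul, map_inv]
        show φ _ * _ = _
        congr 1
        show φ (fnorm (φ ^ 3) (3 ^ j) c) = fnorm (φ ^ 3) (3 ^ j) (φ c)
        rw [fnorm_apply, fnorm_apply, map_prod]
        exact Finset.prod_congr rfl fun k _ => by
          rw [← MulAut.mul_apply, ← MulAut.mul_apply, ← pow_mul, ← pow_succ, ← pow_succ'])
      (fun w _ hw => by
        obtain ⟨v, hv⟩ := h.exists_norm (v := (w : V)) (congrArg Subtype.val hw)
        refine ⟨⟨fnorm (φ ^ 3) (3 ^ j) v, mem_fixV.2 (fnorm_fix _ hd.fpow v)⟩, Subgroup.mem_top _, Subtype.ext ?_⟩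
        rw [hrn]
        exact (hsplit v).symm.trans hv)
    rw [Subgroup.card_top, top_inf_eq] at key
    rw [key]
    congr 1
    exact Nat.card_congr
      { toFun := fun w => ⟨((w : W) : V), mem_fixV.2 (congrArg Subtype.val (mem_fixV.1 w.2))⟩
        invFun := fun v => ⟨⟨(v : V), hle v.2⟩, mem_fixV.2 (Subtype.ext (mem_fixV.1 v.2))⟩
        left_inv := fun w => rfl
        right_inv := fun v => rfl }

end Cube

section Top

variable [Finite V]

/-- A non-trivial invariant subgroup of an automorphism without fixed points is large. -/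
theorem card_ge_fpf [Finite V] {ξ : MulAut V} {e ℓ : ℕ} [Fact ℓ.Prime] (hξ : ξ ^ ℓ = 1)
    (hfpf : ∀ v, ξ v = v → v = 1) (hord : ∀ d, 0 < d → d < e → ¬ 3 ^ d ≡ 1 [MOD ℓ])
    {T : Subgroup V} (hp3 : IsPGroup 3 T) (hT : ∀ v ∈ T, ξ v ∈ T) (hTne : T ≠ ⊥) : 3 ^ e ≤ Nat.card T := by
  haveI := Fact.mk Nat.prime_three
  obtain ⟨d, hd⟩ := IsPGroup.iff_card.1 hp3
  rw [hd]
  refine Nat.pow_le_pow_right (by norm_num) (not_lt.1 fun hlt => ?_)
  have hd0 : 0 < d := by
    rcases Nat.eq_zero_or_pos d with h | h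
    · exact absurd (Subgroup.eq_bot_of_card_eq T (by rw [hd, h, pow_zero])) hTne
    · exact h
  refine hord d hd0 hlt ?_
  have hmem : ∀ (n : ℕ) (v : V), v ∈ T → (ξ ^ n) v ∈ T := by
    intro n
    induction n with
    | zero => exact fun v hv => hv
    | succ n ih => exact fun v hv => by rw [pow_succ, MulAut.mul_apply]; exact ih _ (hT v hv)
  obtain ⟨n, hn⟩ : ∃ n : ℕ, ξ⁻¹ = ξ ^ n := ⟨ℓ - 1, inv_eq_of_mul_eq_one_left (by
    rw [← pow_succ, Nat.sub_add_cancel (Nat.Prime.pos (Fact.out : ℓ.Prime)), hξ])⟩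
  have hmem' : ∀ g ∈ Subgroup.zpowers ξ, ∀ v : V, v ∈ T → g v ∈ T := by
    rintro _ ⟨k, rfl⟩ v hv
    obtain ⟨k, rfl | rfl⟩ := k.eq_nat_or_neg
    · show (ξ ^ (k : ℤ)) v ∈ T
      rw [zpow_natCast]; exact hmem k v hv
    · show (ξ ^ (-(k : ℤ))) v ∈ T
      rw [zpow_neg, zpow_natCast, ← inv_pow, hn, ← pow_mul]; exact hmem _ v hv
  letI : MulAction (Subgroup.zpowers ξ) T :=
    { smul := fun g v => ⟨(g : MulAut V) v, hmem' g g.2 v v.2⟩
      one_smul := fun v => Subtype.ext rfl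
      mul_smul := fun g h v => Subtype.ext rfl }
  have hp : IsPGroup ℓ (Subgroup.zpowers ξ) := fun g => ⟨1, by
    rw [pow_one]
    obtain ⟨k, hk⟩ := g.2
    refine Subtype.ext ?_
    rw [Subgroup.coe_pow, ← hk, Subgroup.coe_one]
    show (ξ ^ k) ^ ℓ = 1
    rw [← zpow_natCast, ← zpow_mul, mul_comm, zpow_mul, zpow_natCast, hξ, one_zpow]⟩
  have h1 := hp.card_modEq_card_fixedPoints T
  rw [show Nat.card (MulAction.fixedPoints (Subgroup.zpowers ξ) T) = 1 from ?_, hd] at h1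
  · exact h1
  refine Nat.card_eq_one_iff_unique.2 ⟨⟨fun a b => ?_⟩, ⟨⟨1, fun g => Subtype.ext (map_one (g : MulAut V))⟩⟩⟩
  have key : ∀ a : MulAction.fixedPoints (Subgroup.zpowers ξ) T, ((a.1 : T) : V) = 1 := fun a =>
    hfpf _ (congrArg Subtype.val (a.2 ⟨ξ, Subgroup.mem_zpowers ξ⟩))
  exact Subtype.ext (Subtype.ext ((key a).trans (key b).symm))

theorem orderOf_three {ℓ e : ℕ} (h : orderOf (3 : ZMod ℓ) = e) :
    ∀ d, 0 < d → d < e → ¬ 3 ^ d ≡ 1 [MOD ℓ] := fun d h0 hd hm => by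
  rw [← ZMod.natCast_eq_natCast_iff] at hm
  push_cast at hm
  have := Nat.le_of_dvd h0 (h ▸ orderOf_dvd_of_pow_eq_one hm)
  omega

/-- A finite domain whose elements satisfy `r ^ N = r` has at most `N` elements. -/
theorem card_le_of_pow_eq (R : Type*) [CommRing R] [IsDomain R] [Finite R] {N : ℕ} (h1 : 1 < N)
    (h : ∀ r : R, r ^ N = r) : Nat.card R ≤ N := by
  classical
  haveI := Fintype.ofFinite R
  have hdeg : (Polynomial.X ^ N - Polynomial.X : Polynomial R).natDegree = N := by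
    rw [Polynomial.natDegree_sub_eq_left_of_natDegree_lt (by
      rw [Polynomial.natDegree_X_pow, Polynomial.natDegree_X]; exact h1), Polynomial.natDegree_X_pow]
  have hP0 : (Polynomial.X ^ N - Polynomial.X : Polynomial R) ≠ 0 := fun h0 => by
    rw [h0, Polynomial.natDegree_zero] at hdeg
    omega
  rw [Nat.card_eq_fintype_card, ← Finset.card_univ]
  refine le_trans (Finset.card_le_card (t := (Polynomial.X ^ N - Polynomial.X : Polynomial R).roots.toFinset)
    fun r _ => ?_) ((Multiset.toFinset_card_le _).trans ((Polynomial.card_roots' _).trans hdeg.le))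
  rw [Multiset.mem_toFinset, Polynomial.mem_roots hP0, Polynomial.IsRoot.def, Polynomial.eval_sub,
    Polynomial.eval_pow, Polynomial.eval_X, sub_eq_zero]
  exact h r

theorem zmod_three_idem : ∀ z : ZMod 3, z * z = z → z = 0 ∨ z = 1 := by decide

/-- The counting for `card_top`. -/
theorem card_le_of_frob {A : Type u} [AddCommGroup A] [Finite A] (X Φ : AddMonoid.End A) (w : A) {e j : ℕ} (he : 0 < e)
    (h3 : ∀ a : A, (3 : ℕ) • a = 0) (hw0 : w ≠ 0) (hΦw : Φ w = w) (hXe : X ^ 3 ^ e = X) (hXj : Φ * X = X ^ 3 ^ j * Φ)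
    (hgen : ∀ S : AddSubgroup A, (∀ k : ℕ, (X ^ k) w ∈ S) → S = ⊤)
    (hfix : ∀ a, Φ a = a → ∃ i : ℤ, a = i • w) : Nat.card A ≤ 3 ^ e := by
  classical
  haveI := Fact.mk Nat.prime_three
  have h30 : ((3 : ℕ) : AddMonoid.End A) = 0 := DFunLike.ext _ _ fun a => by
    rw [AddMonoid.End.natCast_apply]
    exact h3 a
  haveI : Nontrivial (AddMonoid.End A) := ⟨1, 0, fun e1 => hw0 (DFunLike.congr_fun e1 w)⟩
  haveI : CharP (AddMonoid.End A) 3 := (CharP.charP_iff_prime_eq_zero Nat.prime_three).2 h30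
  let ev : Polynomial ℤ →+* AddMonoid.End A :=
    Polynomial.eval₂RingHom' (Int.castRingHom _) X fun a => Int.cast_commute a X
  have evX : ev Polynomial.X = X := Polynomial.eval₂_X _ _
  have evC : ∀ a : ℤ, ev (Polynomial.C a) = (a : AddMonoid.End A) := fun a => Polynomial.eval₂_C _ _
  have hcomm : ∀ p p' : Polynomial ℤ, Commute (ev p) (ev p') := fun p p' => by
    show ev p * ev p' = ev p' * ev p
    rw [← map_mul, ← map_mul, mul_comm]
  let cst : ZMod 3 →+* AddMonoid.End A := ZMod.castHom (dvd_refl 3) _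
  have hint : ∀ (a : ℤ) (k : ℕ), (a : AddMonoid.End A) ^ 3 ^ k = a := fun a k => by
    rw [← map_intCast cst a, ← map_pow, ZMod.pow_card_pow]
  have hfrob : ∀ p : Polynomial ℤ, ev p ^ 3 ^ e = ev p ∧ Φ * ev p = ev p ^ 3 ^ j * Φ := by
    intro p
    induction p using Polynomial.induction_on with
    | C a => rw [evC]; exact ⟨hint a e, by rw [hint a j]; exact (Int.cast_commute a Φ).eq.symm⟩
    | add p q hp hq =>
      rw [map_add, add_pow_char_pow_of_commute (p := 3) _ (hcomm p q), add_pow_char_pow_of_commute (p := 3) _ (hcomm p q),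
        mul_add, hp.1, hq.1, hp.2, hq.2, add_mul]
      exact ⟨rfl, rfl⟩
    | monomial k a hk =>
      rw [pow_succ, ← mul_assoc, map_mul, evX]
      have hc : Commute (ev (Polynomial.C a * Polynomial.X ^ k)) X := evX ▸ hcomm _ _
      rw [hc.mul_pow, hc.mul_pow, hk.1, hXe, ← mul_assoc, hk.2, mul_assoc, hXj, ← mul_assoc]
      exact ⟨rfl, rfl⟩
  let S : AddSubgroup A :=
    { carrier := {a | ∃ p, ev p w = a}
      zero_mem' := ⟨0, by rw [map_zero]; rfl⟩
      add_mem' := fun {a b} ha hb => by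
        obtain ⟨p, hp⟩ := ha
        obtain ⟨q, hq⟩ := hb
        exact ⟨p + q, by rw [map_add, ← hp, ← hq]; rfl⟩
      neg_mem' := fun {a} ha => by
        obtain ⟨p, hp⟩ := ha
        exact ⟨-p, by rw [map_neg, ← hp]; rfl⟩ }
  have hsurj : ∀ a : A, ∃ p, ev p w = a := fun a => by
    have hS : S = ⊤ := hgen S fun k => ⟨Polynomial.X ^ k, by rw [map_pow, evX]⟩
    exact (hS ▸ AddSubgroup.mem_top a : a ∈ S)
  have hinj : ∀ p, ev p w = 0 → ev p = 0 := fun p hp => DFunLike.ext _ _ fun a => by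
    obtain ⟨q, hq⟩ := hsurj a
    rw [← hq]
    show (ev p * ev q) w = 0
    rw [(hcomm p q).eq]
    show ev q (ev p w) = 0
    rw [hp, map_zero]
  -- idempotents
  have hidem : ∀ p, ev p * ev p = ev p → ev p = 0 ∨ ev p = 1 := by
    intro p hp
    have hpk : ∀ k : ℕ, ev p ^ (k + 1) = ev p := by
      intro k
      induction k with
      | zero => rw [pow_one]
      | succ k ih => rw [pow_succ, ih, hp]
    obtain ⟨k, hk⟩ : ∃ k, 3 ^ j = k + 1 := ⟨3 ^ j - 1, (Nat.sub_add_cancel (Nat.one_le_pow _ _ (by norm_num))).symm⟩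
    have e1 := DFunLike.congr_fun (hfrob p).2 w
    rw [hk, hpk] at e1
    change Φ (ev p w) = ev p (Φ w) at e1
    rw [hΦw] at e1
    obtain ⟨i, hi⟩ := hfix _ e1
    have hp' : ev p = (i : AddMonoid.End A) := by
      rw [← sub_eq_zero, ← evC, ← map_sub]
      refine hinj _ ?_
      rw [map_sub, evC]
      show ev p w - (i : AddMonoid.End A) w = 0
      rw [AddMonoid.End.intCast_apply, hi, sub_self]
    rw [hp', ← map_intCast cst i] at hp ⊢
    rw [← map_mul] at hp
    rcases zmod_three_idem _ (cst.injective hp) with e2 | e2 <;> rw [e2]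
    · exact Or.inl (map_zero _)
    · exact Or.inr (map_one _)
  -- a field of at most `3 ^ e` elements
  let R : Subring (AddMonoid.End A) := ev.range
  letI : CommRing R := { (inferInstance : Ring R) with
    mul_comm := fun a b => by
      obtain ⟨p, hp⟩ := a.2
      obtain ⟨q, hq⟩ := b.2
      refine Subtype.ext ?_
      show (a : AddMonoid.End A) * b = b * a
      rw [← hp, ← hq]
      exact (hcomm p q).eq }
  haveI : NoZeroDivisors R := ⟨fun {a b} hpq => by
    obtain ⟨p, hp⟩ := a.2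
    obtain ⟨q, hq⟩ := b.2
    have hpq' : ev p * ev q = 0 := by rw [hp, hq]; exact congrArg Subtype.val hpq
    by_cases hp0 : ev p = 0
    · exact Or.inl (Subtype.ext (hp.symm.trans hp0))
    refine Or.inr (Subtype.ext (hq.symm.trans ?_))
    have h2 : 2 ≤ 3 ^ e := le_trans (by norm_num) (Nat.le_self_pow he.ne' 3)
    set r := ev p ^ (3 ^ e - 2) * ev p with hr
    have hpr : ev p * r = ev p := by
      rw [hr, ← pow_succ, ← pow_succ', show 3 ^ e - 2 + 1 + 1 = 3 ^ e by omega, (hfrob p).1]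
    have hrr : r * r = r := by
      conv_lhs => rw [hr, mul_assoc, hpr, ← hr]
    have hre : r = ev (p ^ (3 ^ e - 2) * p) := by rw [map_mul, map_pow]
    rcases hidem (p ^ (3 ^ e - 2) * p) (by rw [← hre]; exact hrr) with e1 | e1 <;> rw [← hre] at e1
    · exact absurd (by rw [← hpr, e1, mul_zero]) hp0
    · rw [← one_mul (ev q), ← e1, hr, mul_assoc, hpq', mul_zero]
      rfl⟩
  haveI : Nontrivial R := ⟨⟨1, one_mem _⟩, ⟨0, zero_mem _⟩, fun e1 => one_ne_zero (congrArg Subtype.val e1)⟩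
  haveI : IsDomain R := NoZeroDivisors.to_isDomain R
  have hinj' : Function.Injective fun r : R => (r : AddMonoid.End A) w := by
    intro a b e1
    obtain ⟨p, hp⟩ := a.2
    obtain ⟨q, hq⟩ := b.2
    refine Subtype.ext (sub_eq_zero.1 ?_)
    rw [← hp, ← hq, ← map_sub]
    refine hinj _ ?_
    rw [map_sub, hp, hq]
    exact sub_eq_zero.2 e1
  haveI : Finite R := Finite.of_injective _ hinj'
  have h2 : 1 < 3 ^ e := Nat.one_lt_pow he.ne' (by norm_num)
  have hcard : Nat.card A = Nat.card R := (Nat.card_eq_of_bijective (fun r : R => (r : AddMonoid.End A) w)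
    ⟨hinj', fun v => by
      obtain ⟨p, hp⟩ := hsurj v
      exact ⟨⟨_, p, rfl⟩, hp⟩⟩).symm
  rw [hcard]
  refine card_le_of_pow_eq R h2 fun r => ?_
  obtain ⟨p, hp⟩ := r.2
  exact Subtype.ext (by rw [Subring.coe_pow, ← hp]; exact (hfrob p).1)

/-- The automorphism of `⟨ξ⟩` is a power of three. -/
theorem FrobAct.exists_pow_three {φ ξ : MulAut V} {ℓ e : ℕ} (h : FrobAct φ ξ ℓ e) (hℓ : orderOf (3 : ZMod ℓ) = e) :
    ∃ j : ℕ, φ * ξ * φ⁻¹ = ξ ^ 3 ^ j := by
  haveI := Fact.mk h.prime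
  obtain ⟨μ, hμc, hμo⟩ := h.conj
  obtain ⟨j, hj⟩ : ∃ j : ℕ, ((3 : ZMod ℓ)) ^ j = (μ : ZMod ℓ) := by
    have h30 : (3 : ZMod ℓ) ≠ 0 := fun e0 => by
      rw [e0, orderOf_eq_zero_iff'.2 (fun j hj => by rw [zero_pow hj.ne']; exact zero_ne_one)] at hℓ
      exact h.pos.ne' hℓ.symm
    have hμ0 : (μ : ZMod ℓ) ≠ 0 := fun e0 => by
      rw [e0, orderOf_eq_zero_iff'.2 (fun j hj => by rw [zero_pow hj.ne']; exact zero_ne_one)] at hμo
      exact h.pos.ne' hμo.symm
    set a := Units.mk0 _ h30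
    have ha : orderOf a = e := by rw [← orderOf_units, Units.val_mk0, hℓ]
    have hle : (Subgroup.zpowers a : Set (ZMod ℓ)ˣ) ⊆ {y | y ^ e = 1} := by
      rintro _ ⟨i, rfl⟩
      show (a ^ i) ^ e = 1
      rw [← zpow_natCast, ← zpow_mul, mul_comm, zpow_mul, zpow_natCast, ← ha, pow_orderOf_eq_one, one_zpow]
    have heq := Set.eq_of_subset_of_ncard_le hle (by
      rw [← Nat.card_coe_set_eq (Subgroup.zpowers a : Set (ZMod ℓ)ˣ), SetLike.coe_sort_coe, Nat.card_zpowers, ha,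
        Set.ncard_eq_toFinset_card', Set.toFinset_ofFinset]
      exact IsCyclic.card_pow_eq_one_le h.pos)
    have hm : Units.mk0 _ hμ0 ∈ Subgroup.zpowers a := heq.ge (by
      show Units.mk0 (μ : ZMod ℓ) hμ0 ^ e = 1
      exact Units.ext (by rw [Units.val_pow_eq_pow_val, Units.val_mk0, ← hμo, pow_orderOf_eq_one]; rfl))
    rw [← mem_powers_iff_mem_zpowers] at hm
    obtain ⟨j, hj⟩ := hm
    exact ⟨j, by simpa [a] using congrArg Units.val hj⟩
  exact ⟨j, by rw [hμc]; exact h.xmod (by push_cast; exact hj.symm)⟩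

/-- At most three fixed points, `n = e` the order of `3` modulo `ℓ`: `|V| = 3 ^ e`. -/
theorem FrobAct.card_top {φ ξ : MulAut V} {ℓ e : ℕ} (h : FrobAct φ ξ ℓ e) (hℓ : orderOf (3 : ZMod ℓ) = e)
    (h3 : ∀ v : V, v ^ 3 = 1) [Nontrivial V] (hfix : Nat.card (fixV φ) ≤ 3) : Nat.card V = 3 ^ e := by
  classical
  haveI := Fact.mk Nat.prime_three
  haveI := Fact.mk h.prime
  haveI : NeZero ℓ := ⟨h.prime.ne_zero⟩
  have hV : IsPGroup 3 V := fun v => ⟨1, by rw [pow_one]; exact h3 v⟩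
  have hne : (3 : ℕ) ≠ ℓ := fun e' => by
    subst e'
    have h30 : (3 : ZMod 3) = 0 := ZMod.natCast_self 3
    rw [h30, orderOf_eq_zero_iff'.2 (fun j hj => by rw [zero_pow hj.ne']; exact zero_ne_one)] at hℓ
    exact h.pos.ne' hℓ.symm
  refine le_antisymm ?_ ?_
  swap
  · rw [← Subgroup.card_top (G := V)]
    exact card_ge_fpf h.xpow h.fpf (orderOf_three hℓ) (hV.to_subgroup ⊤) (fun v _ => Subgroup.mem_top _) top_ne_bot
  obtain ⟨w, hw1, hw⟩ := h.exists_fix hV hne
  have hord : orderOf w = 3 := orderOf_eq_prime (h3 w) hw1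
  have hC : fixV φ = Subgroup.zpowers w := (Subgroup.eq_of_le_of_card_ge (Subgroup.zpowers_le.2 (mem_fixV.2 hw))
    (by rw [Nat.card_zpowers, hord]; exact hfix)).symm
  obtain ⟨j, hj⟩ := h.exists_pow_three hℓ
  let X : AddMonoid.End (Additive V) := MonoidHom.toAdditive ξ.toMonoidHom
  let Φ : AddMonoid.End (Additive V) := MonoidHom.toAdditive φ.toMonoidHom
  have hX : ∀ (k : ℕ) (v : Additive V), (X ^ k) v = Additive.ofMul ((ξ ^ k) v.toMul) := by
    intro k
    induction k with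
    | zero => exact fun v => rfl
    | succ k ih => exact fun v => by rw [pow_succ, pow_succ]; exact ih _
  refine (Nat.card_congr Additive.ofMul).trans_le (card_le_of_frob X Φ (Additive.ofMul w) (j := j) h.pos
    (fun a => h3 a.toMul) hw1 (congrArg Additive.ofMul hw) ?_ ?_ ?_ ?_)
  · refine DFunLike.ext _ _ fun v => ?_
    rw [hX, h.xmod (b := 1) (by push_cast; rw [← hℓ, pow_orderOf_eq_one]), pow_one]
    rfl
  · refine DFunLike.ext _ _ fun v => ?_
    show Additive.ofMul (φ (ξ v.toMul)) = (X ^ 3 ^ j) (Additive.ofMul (φ v.toMul))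
    rw [hX, ← hj]
    simp
  · intro S hS
    have hw' : ∀ (i : ℕ) (x : V), x ∈ Subgroup.zpowers w → Additive.ofMul ((ξ ^ i) x) ∈ S := by
      rintro i _ ⟨k, rfl⟩
      simp only [map_zpow, ofMul_zpow]
      have := hS i
      rw [hX] at this
      exact zsmul_mem this k
    refine (AddSubgroup.eq_top_iff' S).2 fun v => ?_
    have h1 : Additive.ofMul (v.toMul ^ ℓ) ∈ S := by
      rw [← h.span v.toMul, ofMul_prod]
      exact AddSubgroup.sum_mem _ fun i _ => hw' _ _ (hC ▸ mem_fixV.2 (fnorm_fix φ h.fpow _))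
    obtain ⟨a, -, ha⟩ := Nat.exists_mul_mod_eq_one_of_coprime
      ((Nat.coprime_primes h.prime Nat.prime_three).2 (Ne.symm hne)) (by norm_num : 1 < 3)
    have e2 : (v.toMul ^ ℓ) ^ a = v.toMul := by
      rw [← pow_mul, ← Nat.div_add_mod (ℓ * a) 3, ha, pow_add, pow_mul, h3, one_pow, one_mul, pow_one]
    have := nsmul_mem h1 a
    rw [← ofMul_pow, e2] at this
    exact this
  · intro a ha
    have hm : a.toMul ∈ Subgroup.zpowers w := hC ▸ mem_fixV.2 (congrArg Additive.toMul ha)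
    obtain ⟨i, hi⟩ := hm
    exact ⟨i, congrArg Additive.ofMul hi.symm⟩

end Top

end Cfsg.Agent.Walter.JR.Res3
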