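import Cfsg.Agent.Lib.Walter.JR.Quot
import Cfsg.Agent.Lib.Walter.JR.Res3.FrobMod
import Cfsg.Agent.Lib.Perm.PrimitivePart
import Mathlib.FieldTheory.Fixed

/-!
# The part of the configuration that does not see the divisors of `e`
-/

set_option autoImplicit false
set_option linter.unusedSectionVars false
set_option linter.style.haveILetI false

namespace Cfsg.Agent.Walter.JR.Res3

open Subgroup Cfsg.Agent.Small Cfsg.Agent.Char.ReeThree Cfsg.Agent.Char.ReeOrder

universe u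

/-- `q = 3 ^ e` and a generator of `Φ`. -/
structure Base (G : Type u) [Group G] (F : Type) [Field F] [Fintype F] where
  C : Frame G F
  ee : ℕ
  f : G
  hodd : Odd ee
  eq : Nat.card C.Phi = ee
  hq : Fintype.card F = 3 ^ ee
  gen : zpowers f = C.PhiG

namespace Base

variable {G : Type u} [Group G] [Finite G] {F : Type} [Field F] [Fintype F] (c : Base G F)

/-- The involution. -/
abbrev t : G := c.C.S.t

theorem ee_pos : 0 < c.ee := c.hodd.pos

include c in
theorem char3 : CharP F 3 := by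
  obtain ⟨p, hp⟩ := CharP.exists F
  obtain ⟨n, hp', hn⟩ := FiniteField.card F p
  have h3 : p = 3 := by
    have h1 : p ∣ 3 ^ c.ee := by rw [← c.hq, hn]; exact dvd_pow_self p n.pos.ne'
    exact (Nat.prime_dvd_prime_iff_eq hp' Nat.prime_three).1 (hp'.dvd_of_dvd_pow h1)
  subst h3
  exact hp

theorem f_mem : c.f ∈ c.C.PhiG := c.gen ▸ mem_zpowers c.f

theorem ord_f : orderOf c.f = c.ee := by rw [← Nat.card_zpowers, c.gen, c.C.card_PhiG, Frame.e, c.eq]

theorem pow_f : c.f ^ c.ee = 1 := c.ord_f ▸ pow_orderOf_eq_one c.f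

theorem f_t : c.f * c.t = c.t * c.f := c.C.Phi_t c.f_mem

/-- An element of `Φ` as a field automorphism. -/
noncomputable def sig (g : G) : F ≃+* F :=
  haveI := _root_.Classical.propDecidable (g ∈ c.C.PhiG)
  if h : g ∈ c.C.PhiG then c.C.alpha ⟨⟨g, (c.C.mem_PhiG.1 h).1⟩, (c.C.mem_PhiG.1 h).2⟩ else 1

theorem sig_eq (y : c.C.Phi) : c.sig ((y : c.C.S.K) : G) = c.C.alpha y := by
  rw [sig, dif_pos ⟨_, y.2, rfl⟩]

theorem sig_inj {g : G} (hg : g ∈ c.C.PhiG) (h : c.sig g = 1) : g = 1 := by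
  obtain ⟨y, hy, rfl⟩ := hg
  rw [show c.C.S.K.subtype y = (((⟨y, hy⟩ : c.C.Phi) : c.C.S.K) : G) from rfl, c.sig_eq] at h
  rw [show y = 1 from congrArg Subtype.val ((map_eq_one_iff _ c.C.alpha_inj).1 h), map_one]

theorem sig_mul {g h : G} (hg : g ∈ c.C.PhiG) (hh : h ∈ c.C.PhiG) : c.sig (g * h) = c.sig g * c.sig h := by
  obtain ⟨y, hy, rfl⟩ := hg
  obtain ⟨z, hz, rfl⟩ := hh
  have e1 : c.C.S.K.subtype y * c.C.S.K.subtype z = (((⟨y, hy⟩ * ⟨z, hz⟩ : c.C.Phi) : c.C.S.K) : G) := rfl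
  rw [e1, c.sig_eq, map_mul, ← c.sig_eq, ← c.sig_eq]
  rfl

theorem sig_pow {g : G} (hg : g ∈ c.C.PhiG) (n : ℕ) : c.sig (g ^ n) = c.sig g ^ n := by
  induction n with
  | zero =>
    rw [pow_zero, pow_zero, show (1 : G) = (((1 : c.C.Phi) : c.C.S.K) : G) from rfl, c.sig_eq, map_one]
  | succ n ih => rw [pow_succ, c.sig_mul (pow_mem hg n) hg, ih, pow_succ]

include c in
theorem q_mod_four : Fintype.card F % 4 = 3 := by
  rw [c.hq]
  obtain ⟨k, hk⟩ := c.hodd
  rw [hk, pow_succ, pow_mul, Nat.mul_mod, Nat.pow_mod]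
  norm_num

include c in
theorem neg_one_nonsquare : ¬ IsSquare (-1 : F) := by
  rw [FiniteField.isSquare_neg_one_iff]
  exact not_not.2 c.q_mod_four

include c in
/-- `C_U(Φ)` has three elements. -/
theorem fix_card : Nat.card {v : F // c.sig c.f v = v} = 3 := by
  classical
  letI : MulSemiringAction c.C.Phi F := MulSemiringAction.compHom F c.C.alpha
  haveI : FaithfulSMul c.C.Phi F := ⟨fun {p q} h => c.C.alpha_inj (RingEquiv.ext h)⟩
  haveI := Fintype.ofFinite c.C.Phi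
  have h1 := FixedPoints.finrank_eq_card c.C.Phi F
  have h2 := Module.card_eq_pow_finrank (K := FixedPoints.subfield c.C.Phi F) (V := F)
  rw [h1, ← Nat.card_eq_fintype_card (α := c.C.Phi), c.eq, c.hq] at h2
  have h3 : Fintype.card (FixedPoints.subfield c.C.Phi F) = 3 := (Nat.pow_left_injective c.ee_pos.ne' h2).symm
  rw [← h3, ← Nat.card_eq_fintype_card]
  refine Nat.card_congr (Equiv.subtypeEquivRight fun v => ⟨fun h y => ?_, fun h => ?_⟩)
  · have hy : ((y : c.C.S.K) : G) ∈ zpowers c.f := by rw [c.gen]; exact ⟨_, y.2, rfl⟩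
    rw [← mem_powers_iff_mem_zpowers] at hy
    obtain ⟨n, hn⟩ := hy
    show c.C.alpha y v = v
    rw [← c.sig_eq, ← show c.f ^ n = ((y : c.C.S.K) : G) from hn, c.sig_pow c.f_mem]
    clear hn
    induction n with
    | zero => rfl
    | succ n ih => rw [pow_succ]; show (c.sig c.f ^ n) (c.sig c.f v) = v; rw [h, ih]
  · obtain ⟨y, hy, hf⟩ := c.f_mem
    rw [← hf, show c.C.S.K.subtype y = (((⟨y, hy⟩ : c.C.Phi) : c.C.S.K) : G) from rfl, c.sig_eq]
    exact h ⟨y, hy⟩

theorem f_pow_eq_one {n : ℕ} : c.f ^ n = 1 ↔ c.ee ∣ n := by rw [← c.ord_f]; exact orderOf_dvd_iff_pow_eq_one.symm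

end Base

end Cfsg.Agent.Walter.JR.Res3
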