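import Cfsg.Agent.Lib.Walter.JR.Res3.Inverted

/-!
# `3` does not divide `|C(x)|`

The odd part of `C(x)` has a Sylow 3-subgroup invariant under `⟨t, s⟩`, which centralises `t` as no element of
`C(t)` inverts a 3-element of `C(t)`.  The same holds for `C(x₁) ∩ C(τ)` up to `⟨τ⟩`.
-/

set_option autoImplicit false
set_option linter.unusedSectionVars false
set_option linter.style.haveILetI false

namespace Cfsg.Agent.Walter.JR.Res3

open Subgroup Cfsg.Agent.Char.ReeThree Cfsg.Agent.Char.ReeOrder Cfsg.Agent.Small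
open scoped Pointwise

universe u

namespace Cfg

variable {G : Type u} [Group G] [Finite G] {F : Type} [Field F] [Fintype F] (c : Cfg G F)

theorem d_pm {b : Fˣ} (h : (b : F) = 1 ∨ (b : F) = -1) : c.d b = 1 := by
  rw [← c.d_one, d, d, c.elt_inj_iff, PSL2.pr_eq_iff]
  have hb : (b : F) * b = 1 := by rcases h with h | h <;> rw [h] <;> ring
  refine ⟨b, hb, ?_⟩
  ext i j
  fin_cases i <;> fin_cases j <;> simp [PSL2.hS]
  rw [← eq_inv_of_mul_eq_one_left hb]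

theorem d_odd (b : Fˣ) : Odd (orderOf (c.d b)) := by
  obtain ⟨m, hm, hmo⟩ : ∃ m, Fintype.card F - 1 = 2 * m ∧ Odd m := by
    have h := c.q_mod_four
    refine ⟨(Fintype.card F - 1) / 2, by omega, Nat.odd_iff.2 (by omega)⟩
  refine Odd.of_dvd_nat hmo (orderOf_dvd_of_pow_eq_one ?_)
  rw [c.d_pow]
  refine c.d_pm (mul_self_eq_one_iff.1 ?_)
  rw [Units.val_pow_eq_pow_val, ← pow_add, ← two_mul, ← hm]
  exact FiniteField.pow_card_sub_one_eq_one _ b.ne_zero

/-- `C(x)`. -/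
abbrev CX : Subgroup G := centralizer ({c.x} : Set G)

/-- The elements of `C(x) ∩ C(t)`. -/
theorem cent_xt {g : G} (hgx : g * c.x = c.x * g) (hgt : g * c.t = c.t * g) :
    ∃ b, g = c.d b ∨ g = c.t * c.d b := by
  rcases c.C.S.split (c.C.S.mem_C.2 hgt) with h | h
  · obtain ⟨b, hb⟩ := c.cent_x h hgx
    exact ⟨b, Or.inl hb⟩
  · obtain ⟨b, hb⟩ := c.cent_x h (((show Commute c.t c.x from c.x_t.symm).mul_left hgx).eq)
    refine ⟨b, Or.inr ?_⟩
    rw [← hb]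
    show g = c.C.S.t * (c.C.S.t * g)
    rw [← mul_assoc, c.C.S.sq_t, one_mul]

theorem K_cx_odd {g : G} (hg : g ∈ c.CX) (hK : g ∈ c.C.S.K) : Odd (orderOf g) := by
  obtain ⟨b, rfl⟩ := c.cent_x hK (mem_centralizer_singleton_iff.1 hg)
  exact c.d_odd b

/-- A subgroup containing `t` whose elements in `E` have odd order: a two-group in it containing `t` is `⟨t⟩`. -/
theorem two_eq {X T : Subgroup G} (hX : ∀ g ∈ X, g ∈ c.C.S.K → Odd (orderOf g)) (hT : IsPGroup 2 T) (ht : c.t ∈ T)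
    (hx : T ≤ X) : T = zpowers c.t := by
  refine le_antisymm (fun g hg => ?_) (zpowers_le.2 ht)
  have hgt : g * c.t = c.t * g := (Solv.AbelianTwo.commute_of_mem c.C.hab hT hg ht).eq
  have key : ∀ a ∈ T, a ∈ c.C.S.K → a = 1 := fun a ha haK => by
    obtain ⟨k, hk⟩ := hT ⟨_, ha⟩
    rw [← orderOf_eq_one_iff]
    exact Nat.eq_one_of_dvd_coprimes (Nat.Coprime.pow_left k (hX a (hx ha) haK).coprime_two_left)
      (orderOf_dvd_of_pow_eq_one (congrArg Subtype.val hk)) dvd_rfl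
  rcases c.C.S.split (c.C.S.mem_C.2 hgt) with h | h
  · rw [key g hg h]; exact one_mem _
  · have h1 := key _ (mul_mem ht hg) h
    rw [show g = c.t from (inv_eq_of_mul_eq_one_right h1).symm.trans (inv_eq_of_mul_eq_one_left c.C.S.sq_t)]
    exact mem_zpowers _

/-- A normal subgroup of odd order and index two. -/
theorem odd_core (X : Subgroup G) (htX : c.t ∈ X) (hX : ∀ g ∈ X, g ∈ c.C.S.K → Odd (orderOf g)) :
    ∃ K : Subgroup G, Odd (Nat.card K) ∧ (∀ g, g ∈ K ↔ g ∈ X ∧ Odd (orderOf g)) ∧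
      ∀ g ∈ X, g ∈ K ∨ c.t * g ∈ K := by
  classical
  haveI := Fact.mk Nat.prime_two
  set tX : X := ⟨c.t, htX⟩
  obtain ⟨P, hP⟩ := (IsPGroup.of_card (p := 2) (n := 1) (G := zpowers tX) (by
    rw [Nat.card_zpowers, pow_one, ← Subgroup.orderOf_coe, c.C.S.ht])).exists_le_sylow
  have hmap : (P : Subgroup X).map X.subtype = zpowers c.t :=
    c.two_eq hX (P.2.map _) ⟨tX, hP (mem_zpowers _), rfl⟩ (map_subtype_le _)
  have hc2 : Nat.card (P : Subgroup X) = 2 := by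
    rw [← card_map_of_injective X.subtype_injective, hmap, Nat.card_zpowers, c.C.S.ht]
  have hNC : normalizer ((P : Subgroup X) : Set X) ≤ centralizer ((P : Subgroup X) : Set X) := by
    intro n hn
    refine mem_centralizer_iff.2 fun p hp => ?_
    by_cases hp1 : p = 1
    · rw [hp1, one_mul, mul_one]
    obtain ⟨a, b, hab, huniv⟩ := Nat.card_eq_two_iff.1 hc2
    have key : ∀ z : (P : Subgroup X), (z : X) ≠ 1 → z = ⟨p, hp⟩ := by
      intro z hz
      have h1 : (1 : (P : Subgroup X)) = a ∨ (1 : (P : Subgroup X)) = b := by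
        simpa using (huniv.ge (Set.mem_univ 1))
      have h2 : z = a ∨ z = b := by simpa using (huniv.ge (Set.mem_univ z))
      have h3 : (⟨p, hp⟩ : (P : Subgroup X)) = a ∨ (⟨p, hp⟩ : (P : Subgroup X)) = b := by
        simpa using (huniv.ge (Set.mem_univ (⟨p, hp⟩ : (P : Subgroup X))))
      have hz' : z ≠ 1 := fun e => hz (congrArg Subtype.val e)
      have hp' : (⟨p, hp⟩ : (P : Subgroup X)) ≠ 1 := fun e => hp1 (congrArg Subtype.val e)
      rcases h1 with h1 | h1 <;> rcases h2 with h2 | h2 <;> rcases h3 with h3 | h3 <;>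
        first
          | exact absurd (h2.trans h1.symm) hz'
          | exact absurd (h3.trans h1.symm) hp'
          | exact h2.trans h3.symm
    have h := congrArg Subtype.val (key ⟨n * p * n⁻¹, (mem_normalizer_iff.1 hn p).1 hp⟩
      fun e => hp1 (conj_eq_one_iff.1 e))
    simp only at h
    rw [mul_inv_eq_iff_eq_mul] at h
    exact h.symm
  have hcompl := MonoidHom.ker_transferSylow_isComplement' P hNC
  set K0 := (MonoidHom.transferSylow P hNC).ker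
  have hodd : Odd (Nat.card K0) := by
    rw [← Nat.not_even_iff_odd, even_iff_two_dvd]
    intro h
    refine P.not_dvd_index ?_
    rwa [hcompl.index_eq_card]
  refine ⟨K0.map X.subtype, by rwa [card_map_of_injective X.subtype_injective], fun g => ⟨?_, ?_⟩, fun g hg => ?_⟩
  · rintro ⟨k, hk, rfl⟩
    refine ⟨k.2, hodd.of_dvd_nat ?_⟩
    rw [show X.subtype k = (k : G) from rfl, Subgroup.orderOf_coe]
    exact K0.orderOf_dvd_natCard hk
  · rintro ⟨hg, hgo⟩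
    refine ⟨⟨g, hg⟩, MonoidHom.mem_ker.2 ?_, rfl⟩
    rw [← orderOf_eq_one_iff]
    have hd : orderOf (MonoidHom.transferSylow P hNC ⟨g, hg⟩) ∣ orderOf g := by
      rw [← Subgroup.orderOf_mk g hg]; exact orderOf_map_dvd _ _
    exact Nat.eq_one_of_dvd_coprimes (hgo.coprime_two_left)
      ((_root_.orderOf_dvd_natCard _).trans (dvd_of_eq hc2)) hd
  · obtain ⟨⟨k, p⟩, hkp⟩ := hcompl.2 (⟨g, hg⟩ : X)
    have hkg : (k : X) * (p : X) = (⟨g, hg⟩ : X) := hkp
    have hkg' : ((k : X) : G) * ((p : X) : G) = g := congrArg Subtype.val hkg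
    obtain ⟨i, hi⟩ : ((p : X) : G) ∈ zpowers c.t := hmap ▸ ⟨(p : X), p.2, rfl⟩
    have ht2 : (c.C.S.t : G) ^ (2 : ℤ) = 1 := by rw [zpow_two]; exact c.C.S.sq_t
    change c.C.S.t ^ i = _ at hi
    rcases Int.even_or_odd i with ⟨j, rfl⟩ | ⟨j, rfl⟩
    · left
      rw [← two_mul, zpow_mul, ht2, one_zpow] at hi
      rw [← hkg', ← hi, mul_one]
      exact ⟨k, k.2, rfl⟩
    · right
      rw [zpow_add, zpow_mul, ht2, one_zpow, one_mul, zpow_one] at hi
      rw [← hkg', ← hi, ← mul_assoc]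
      refine ⟨tX * (k : X) * tX⁻¹, (MonoidHom.normal_ker _).conj_mem _ k.2 _, ?_⟩
      show c.t * ((k : X) : G) * c.t⁻¹ = _
      rw [inv_eq_of_mul_eq_one_left c.C.S.sq_t]

/-- `Φ` normalises `⟨x⟩`. -/
theorem conj_x {h : G} (hh : h ∈ c.C.PhiG) : h * c.x * h⁻¹ ∈ zpowers c.x := by
  rw [x, c.conj_d hh]
  set b := Units.map (c.sig h : F →* F) c.a with hb
  have hb1 : b ^ c.ell = 1 := by rw [hb, ← map_pow, ← c.ha, pow_orderOf_eq_one, map_one]
  have hbz : b ∈ zpowers c.a := by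
    haveI := c.hl.two_le
    classical
    have hle : (zpowers c.a : Set Fˣ) ⊆ {y | y ^ c.ell = 1} := by
      rintro _ ⟨i, rfl⟩
      show (c.a ^ i) ^ c.ell = 1
      rw [← zpow_natCast, ← zpow_mul, mul_comm, zpow_mul, zpow_natCast, ← c.ha, pow_orderOf_eq_one, one_zpow]
    have hcard : ({y : Fˣ | y ^ c.ell = 1}).ncard ≤ c.ell := by
      rw [Set.ncard_eq_toFinset_card', Set.toFinset_ofFinset]
      exact IsCyclic.card_pow_eq_one_le c.hl.pos
    have := Set.eq_of_subset_of_ncard_le hle (by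
      rw [← Nat.card_coe_set_eq ((zpowers c.a : Set Fˣ)), SetLike.coe_sort_coe, Nat.card_zpowers, c.ha]; exact hcard)
    exact this.ge hb1
  obtain ⟨i, hi⟩ := hbz
  refine mem_zpowers_iff.2 ⟨i, ?_⟩
  let φ : Fˣ →* G := MonoidHom.mk' c.d fun b b' => (c.d_mul b b').symm
  show φ c.a ^ i = φ b
  rw [← map_zpow]
  exact congrArg φ hi

theorem conj_CX {h : G} (hh : h ∈ c.C.PhiG) {g : G} (hg : g ∈ c.CX) : h * g * h⁻¹ ∈ c.CX := by
  obtain ⟨i, hi⟩ := mem_zpowers_iff.1 (c.conj_x (inv_mem hh))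
  rw [inv_inv] at hi
  refine mem_centralizer_singleton_iff.2 ?_
  have hc : Commute g (h⁻¹ * c.x * h) := by
    rw [← hi]; exact (show Commute g c.x from mem_centralizer_singleton_iff.1 hg).zpow_right i
  calc h * g * h⁻¹ * c.x = h * (g * (h⁻¹ * c.x * h)) * h⁻¹ := by group
    _ = c.x * (h * g * h⁻¹) := by rw [hc.eq]; group

theorem Phi_cent_x {z : G} (hz : z ∈ c.C.PhiG) (h : z * c.x = c.x * z) : z = 1 := by
  refine c.sig_inj hz (c.sig_a ?_)
  have e := c.conj_d hz c.a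
  rw [← x, h, mul_inv_cancel_right, x, d, d, c.elt_inj_iff, PSL2.pr_eq_iff] at e
  obtain ⟨ε, hε, e⟩ := e
  have e00 := congrFun (congrFun e 0) 0
  simp [PSL2.hS] at e00
  have hσp : c.sig z (c.a : F) ^ c.ell = 1 := by rw [← map_pow, c.a_pow, map_one]
  have hε1 : ε = 1 := by
    refine c.eq_one_of_pm ?_ (mul_self_eq_one_iff.1 hε)
    have := congrArg (· ^ c.ell) e00
    simp only [mul_pow, hσp, c.a_pow, mul_one] at this
    exact this.symm
  rw [hε1, one_mul] at e00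
  exact e00.symm

theorem d_three {b : Fˣ} {k : ℕ} (h : c.d b ^ 3 ^ k = 1) : c.d b = 1 := by
  rw [← orderOf_eq_one_iff]
  have hq : orderOf (c.d b) ∣ Fintype.card F - 1 := orderOf_dvd_of_pow_eq_one (by
    rw [c.d_pow]; exact c.d_pm (Or.inl (by
      rw [Units.val_pow_eq_pow_val]; exact FiniteField.pow_card_sub_one_eq_one _ b.ne_zero)))
  refine Nat.eq_one_of_dvd_coprimes (Nat.Coprime.pow_left k ((Nat.Prime.coprime_iff_not_dvd Nat.prime_three).2 ?_))
    (orderOf_dvd_of_pow_eq_one h) hq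
  rw [c.hq]
  intro h3
  have h1 : 3 ∣ 3 ^ c.ee := dvd_pow_self 3 c.ee_pos.ne'
  have : 1 ≤ 3 ^ c.ee := Nat.one_le_pow _ _ (by norm_num)
  omega

/-- The 3-elements of a subgroup containing `t`, normalised by `s`, with odd `K`-part, are conjugate to fixed
points of `t`. -/
theorem three_conj_t [IsSimpleGroup G] {X : Subgroup G} (ht : c.t ∈ X) (hs : c.C.s ∈ normalizer (X : Set G))
    (hX : ∀ g ∈ X, g ∈ c.C.S.K → Odd (orderOf g)) {g : G} (hg : g ∈ X) {k : ℕ} (hk : g ^ 3 ^ k = 1) :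
    ∃ n ∈ X, n * g * n⁻¹ * c.t = c.t * (n * g * n⁻¹) := by
  classical
  haveI := Fact.mk Nat.prime_three
  haveI := Fact.mk Nat.prime_two
  obtain ⟨K, hKo, hK, -⟩ := c.odd_core X ht hX
  have normK : ∀ {n : G}, n ∈ normalizer (X : Set G) → ∀ z ∈ K, n * z * n⁻¹ ∈ K := fun hn z hz =>
    (hK _).2 ⟨(mem_normalizer_iff.1 hn z).1 ((hK z).1 hz).1, by
      rw [← MulAut.conj_apply, MulEquiv.orderOf_eq]; exact ((hK z).1 hz).2⟩
  have hVK : c.C.V ≤ normalizer (K : Set G) :=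
    sup_le (zpowers_le.2 (mem_normalizer_of_map _ (normK (le_normalizer ht))))
      (zpowers_le.2 (mem_normalizer_of_map _ (normK hs)))
  have hV2 : IsPGroup 2 c.C.V := fun v => ⟨1, Subtype.ext (by
    rw [Subgroup.coe_pow, pow_one, pow_two]; exact c.C.V_sq v.2)⟩
  have hco : (Nat.card c.C.V).Coprime (Nat.card K) := by
    obtain ⟨j, hj⟩ := IsPGroup.iff_card.1 hV2
    rw [hj]; exact Nat.Coprime.pow_left j hKo.coprime_two_left
  have hVsol : Group.IsSolvable c.C.V ∨ Group.IsSolvable K := Or.inl (Group.isSolvable_of_comm fun a b =>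
    Subtype.ext (c.C.V_comm_of (by
      exact (Solv.AbelianTwo.commute_of_mem c.C.hab hV2 a.2 c.C.t_mem_V).eq)
      (Solv.AbelianTwo.commute_of_mem c.C.hab hV2 a.2 c.C.s_mem_V).eq b.2).eq)
  obtain ⟨P, hP, hPV⟩ := Solv.exists_invariant_sylow hVK hco hVsol 3
  have hts : c.t ≠ c.C.s := fun e => c.C.S.t_not_mem (by
    rw [show c.C.S.t = c.C.s from e]; exact c.C.embL_mem_K _)
  have hne : c.t * c.C.s ≠ 1 := fun e => hts (by
    rw [mul_eq_one_iff_eq_inv, inv_eq_of_mul_eq_one_left c.C.sq_s] at e; exact e)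
  have tS := c.C.V_le_Syl c.C.t_mem_V
  have sS := c.C.V_le_Syl c.C.s_mem_V
  -- a fixed point of an involution of `V` commutes with `t`
  have key : ∀ w ∈ c.C.Syl, w ≠ 1 → w * c.t = c.t * w → ∀ z ∈ P, Commute z w → Commute z c.t := by
    intro w hw hw1 hwt z hz hzw
    obtain ⟨n, -, e⟩ := c.exists_to_t hw hw1
    set y := c.t * z * c.t⁻¹ * z⁻¹ with hy
    have hyP : y ∈ P := mul_mem ((mem_normalizer_iff.1 (hPV c.C.t_mem_V) z).1 hz) (inv_mem hz)
    obtain ⟨j, hj⟩ := hP.isPGroup ⟨y, hyP⟩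
    have hyw : Commute y w := (((show Commute c.t w from hwt.symm).mul_left hzw).mul_left
      (show Commute c.t w from hwt.symm).inv_left).mul_left hzw.inv_left
    have hyinv : c.t * y * c.t⁻¹ = y⁻¹ := by
      rw [hy, inv_eq_of_mul_eq_one_left c.C.S.sq_t,
        show c.t * (c.t * z * c.t * z⁻¹) * c.t = c.t * c.t * z * c.t * z⁻¹ * c.t by group, c.C.S.sq_t, one_mul]
      have ht' : c.t⁻¹ = c.t := inv_eq_of_mul_eq_one_left c.C.S.sq_t
      simp only [mul_inv_rev, inv_inv, ht', mul_assoc]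
    have h0 := c.three_inverted (w := n * y * n⁻¹) (g := n * c.t * n⁻¹) (k := j) ?_ ?_ ?_ ?_
    · rw [conj_eq_one_iff, hy, mul_inv_eq_one, mul_inv_eq_iff_eq_mul] at h0
      exact h0.symm
    · rw [conj_pow, show y ^ 3 ^ j = 1 from congrArg Subtype.val hj, mul_one, mul_inv_cancel]
    · rw [← e, show n * y * n⁻¹ * (n * w * n⁻¹) = n * (y * w) * n⁻¹ by group, hyw.eq]; group
    · have h1 : Commute (n * c.t * n⁻¹) (n * w * n⁻¹) := by
        show _ = _
        rw [show n * c.t * n⁻¹ * (n * w * n⁻¹) = n * (c.t * w) * n⁻¹ by group, ← hwt]; group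
      rw [e] at h1
      exact h1.eq
    · rw [show n * c.t * n⁻¹ * (n * y * n⁻¹) * (n * c.t * n⁻¹)⁻¹ = n * (c.t * y * c.t⁻¹) * n⁻¹ by group, hyinv]
      group
  have hPt : P ≤ centralizer ({c.t} : Set G) := by
    refine GW.four_gen c.C.S.sq_t c.C.sq_s c.C.s_t.symm c.C.t_ne c.C.s_ne hts.symm
      (hKo.of_dvd_nat (card_dvd_of_le hP.1)) (hPV c.C.t_mem_V) (hPV c.C.s_mem_V)
      (fun z hz hzs => key _ sS c.C.s_ne c.C.s_t z hz hzs) (fun z hz hzts => ?_)
    refine key _ (mul_mem tS sS) hne ?_ z hz hzts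
    rw [mul_assoc, c.C.s_t]
  obtain ⟨i, -, hi⟩ := (Nat.dvd_prime_pow Nat.prime_three).1 (orderOf_dvd_of_pow_eq_one hk)
  have hgK : g ∈ K := (hK g).2 ⟨hg, by rw [hi]; exact Odd.pow (by decide)⟩
  obtain ⟨Q, hQ, hgQ⟩ : ∃ Q : Subgroup G, Solv.IsSylIn 3 Q K ∧ g ∈ Q := by
    obtain ⟨S3, hS3⟩ := (IsPGroup.of_card (p := 3) (n := i) (G := zpowers (⟨g, hgK⟩ : K)) (by
      rw [Nat.card_zpowers, Subgroup.orderOf_mk, hi])).exists_le_sylow
    exact ⟨_, Solv.IsSylIn.of_sylow S3, ⟨⟨g, hgK⟩, hS3 (mem_zpowers _), rfl⟩⟩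
  obtain ⟨n, hn, hnP⟩ := hQ.exists_conj hP
  exact ⟨n, ((hK n).1 hn).1, mem_centralizer_singleton_iff.1 (hPt (hnP ▸ ⟨g, hgQ, rfl⟩))⟩

theorem s_d (b : Fˣ) : c.C.s * c.d b * c.C.s⁻¹ = c.d b⁻¹ := by
  rw [← c.C.elt_wS, d, d, mul_inv_eq_iff_eq_mul, Frame.elt_mul, Frame.elt_mul]
  congr 1
  apply Subtype.ext
  rw [PSL2.val_mul, PSL2.val_mul]
  ext i j
  fin_cases i <;> fin_cases j <;> simp [PSL2.hS, Matrix.mul_apply, Fin.sum_univ_two]

theorem d_inv (b : Fˣ) : c.d b⁻¹ = (c.d b)⁻¹ :=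
  eq_inv_of_mul_eq_one_left (by rw [c.d_mul, inv_mul_cancel, c.d_one])

theorem s_norm_d (b : Fˣ) {g : G} (hg : g * c.d b = c.d b * g) :
    c.C.s * g * c.C.s⁻¹ * c.d b = c.d b * (c.C.s * g * c.C.s⁻¹) := by
  have hc : Commute g (c.d b⁻¹) := by rw [c.d_inv]; exact (show Commute g (c.d b) from hg).inv_right
  have e : c.d b = c.C.s * c.d b⁻¹ * c.C.s⁻¹ := by rw [c.s_d, inv_inv]
  rw [e, show c.C.s * g * c.C.s⁻¹ * (c.C.s * c.d b⁻¹ * c.C.s⁻¹) = c.C.s * (g * c.d b⁻¹) * c.C.s⁻¹ by group, hc.eq]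
  group

/-- `3 ∤ |C(x)|`. -/
theorem centx_three [IsSimpleGroup G] : ¬ 3 ∣ Nat.card c.CX := by
  classical
  intro h3
  haveI := Fact.mk Nat.prime_three
  obtain ⟨g, hg⟩ := exists_prime_orderOf_dvd_card' (G := c.CX) 3 h3
  have hg3 : (g : G) ^ 3 ^ 1 = 1 := by rw [pow_one, ← hg, ← Subgroup.orderOf_coe, pow_orderOf_eq_one]
  have hs : c.C.s ∈ normalizer (c.CX : Set G) := mem_normalizer_of_map _ fun z hz =>
    mem_centralizer_singleton_iff.2 (c.s_norm_d c.a (mem_centralizer_singleton_iff.1 hz))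
  obtain ⟨n, hn, hnt⟩ := c.three_conj_t (mem_centralizer_singleton_iff.2 c.x_t.symm) hs (fun _ h => c.K_cx_odd h)
    g.2 hg3
  have h1 : ((n : G) * g * n⁻¹) ^ 3 ^ 1 = 1 := by rw [conj_pow, hg3, mul_one, mul_inv_cancel]
  have hK := c.odd_mem_K hnt (Odd.of_dvd_nat (Odd.pow (by decide)) (orderOf_dvd_of_pow_eq_one h1))
  obtain ⟨b, hb⟩ := c.cent_x hK (mem_centralizer_singleton_iff.1 (mul_mem (mul_mem hn g.2) (inv_mem hn)))
  have h2 := c.d_three (b := b) (k := 1) (by rw [← hb]; exact h1)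
  rw [h2, conj_eq_one_iff] at hb
  rw [← Subgroup.orderOf_coe, hb, orderOf_one] at hg
  omega

/-- The 3-elements of `C(x₁) ∩ C(τ)` lie in `⟨τ⟩`. -/
theorem Sub1.centx_three [IsSimpleGroup G] {c : Cfg G F} (S : c.Sub1) {g : G} (hgx : g * c.d S.a1 = c.d S.a1 * g)
    (hgt : g * c.tau = c.tau * g) {k : ℕ} (hk : g ^ 3 ^ k = 1) : g ∈ zpowers c.tau := by
  set X : Subgroup G := centralizer ({c.d S.a1, c.tau} : Set G)
  have memX : ∀ z : G, z ∈ X ↔ z * c.d S.a1 = c.d S.a1 * z ∧ z * c.tau = c.tau * z := fun z =>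
    ⟨fun h => ⟨(mem_centralizer_iff.1 h _ (Set.mem_insert _ _)).symm,
      (mem_centralizer_iff.1 h _ (Set.mem_insert_of_mem _ rfl)).symm⟩,
    fun h => mem_centralizer_iff.2 fun y hy => by
      rcases hy with rfl | rfl
      exacts [h.1.symm, h.2.symm]⟩
  have hst : c.C.s * c.tau = c.tau * c.C.s := (c.C.Syl_Phi (c.C.V_le_Syl c.C.s_mem_V) c.tau_mem).eq.symm
  have hs : c.C.s ∈ normalizer (X : Set G) := mem_normalizer_of_map _ fun z hz => by
    obtain ⟨h1, h2⟩ := (memX z).1 hz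
    exact (memX _).2 ⟨c.s_norm_d S.a1 h1, (((show Commute c.C.s c.tau from hst).mul_left h2).mul_left
      (show Commute c.C.s c.tau from hst).inv_left).eq⟩
  have decomp : ∀ z ∈ X, z ∈ c.C.S.K → ∃ b, ∃ h ∈ zpowers c.tau, z = c.d b * h ∧ Commute (c.d b) h := by
    intro z hz hzK
    obtain ⟨h1, h2⟩ := (memX z).1 hz
    obtain ⟨b, h, hh, hfix, rfl⟩ := c.cent_d S.prime S.ne2 S.ord hzK h1
    have hht := Sub1.mem_tau c S hh hfix
    have hc : Commute (c.d b * h) h := by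
      obtain ⟨i, hi⟩ := mem_zpowers_iff.1 hht
      rw [← hi]
      exact (show Commute (c.d b * c.tau ^ i) c.tau from by rw [hi]; exact h2).zpow_right i
    exact ⟨b, h, hht, rfl, by simpa using hc.mul_left (Commute.refl h).inv_left⟩
  have htau_odd : ∀ h ∈ zpowers c.tau, Odd (orderOf h) := fun h hh => c.C.Phi_odd (zpowers_le.2 c.tau_mem hh)
  have hX : ∀ z ∈ X, z ∈ c.C.S.K → Odd (orderOf z) := by
    intro z hz hzK
    obtain ⟨b, h, hh, rfl, hc⟩ := decomp z hz hzK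
    refine Odd.of_dvd_nat ((c.d_odd b).mul (htau_odd h hh)) ?_
    exact hc.orderOf_mul_dvd_lcm.trans (Nat.lcm_dvd_mul _ _)
  obtain ⟨n, hn, hnt⟩ := c.three_conj_t ((memX _).2 ⟨(c.d_t _).symm, c.C.Phi_t c.tau_mem |>.symm⟩) hs hX
    ((memX g).2 ⟨hgx, hgt⟩) hk
  have hk' : (n * g * n⁻¹) ^ 3 ^ k = 1 := by rw [conj_pow, hk, mul_one, mul_inv_cancel]
  have hK := c.odd_mem_K hnt (Odd.of_dvd_nat (Odd.pow (by decide)) (orderOf_dvd_of_pow_eq_one hk'))
  have hm : n * g * n⁻¹ ∈ X := mul_mem (mul_mem hn ((memX g).2 ⟨hgx, hgt⟩)) (inv_mem hn)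
  obtain ⟨b, h, hh, e, hc⟩ := decomp _ hm hK
  obtain ⟨i, hi⟩ : ∃ i : ℕ, c.t3 = 3 ^ i := ⟨_, rfl⟩
  have hh3 : h ^ 3 ^ i = 1 := by
    obtain ⟨j, rfl⟩ := hh
    show (c.tau ^ j) ^ 3 ^ i = 1
    rw [← hi, ← zpow_natCast, ← zpow_mul, mul_comm, zpow_mul, zpow_natCast, c.pow_tau, one_zpow]
  have hb : c.d b = 1 := by
    refine c.d_three (k := k + i) ?_
    rw [e, hc.mul_pow] at hk'
    rw [pow_add, pow_mul, eq_inv_of_mul_eq_one_left hk', inv_pow, ← pow_mul, mul_comm, pow_mul, hh3, one_pow, inv_one]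
  rw [hb, one_mul] at e
  have hcn : n * h = h * n := by
    obtain ⟨j, hj⟩ := hh
    rw [← hj]
    exact ((show Commute n c.tau from ((memX n).1 hn).2).zpow_right j).eq
  rw [show g = n⁻¹ * (n * g * n⁻¹) * n by group, e, mul_assoc, ← hcn, inv_mul_cancel_left]
  exact hh

end Cfg

end Cfsg.Agent.Walter.JR.Res3
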