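import Cfsg.Agent.Lib.Walter.JR.Res3.Sec
import Cfsg.Agent.Lib.Solv.Generation
import Cfsg.Agent.Lib.OddChar.FreeAction
import Cfsg.Agent.Lib.Bender.AbelianCases

/-!
# A group of odd order acting on a module of order `q ^ 2`: components

`Γ` of odd order, with an involutory automorphism `tt`, acts faithfully on an elementary abelian group of order
`3 ^ (2 e)`, `x` of prime order `ℓ` without fixed points (`3` has order `e` modulo `ℓ`), `f x f⁻¹ = x ^ μ` with `μ` of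
order `e` modulo `ℓ`, and no element inverted by `tt` of prime power order prime to `3` commutes with `f`.  An
elementary abelian `ℓ`-group containing `x` has at most two components.
-/

set_option autoImplicit false
set_option linter.unusedSectionVars false
set_option linter.style.haveILetI false

namespace Cfsg.Agent.Walter.JR.Res3

open Subgroup

universe u v

/-- The hypotheses. -/
structure TwoMod (Γ : Type u) [Group Γ] (V : Type v) [CommGroup V] (e ℓ : ℕ) where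
  ρ : Γ →* MulAut V
  tt : Γ ≃* Γ
  x : Γ
  f : Γ
  inj : Function.Injective ρ
  odd : Odd (Nat.card Γ)
  cube : ∀ v : V, v ^ 3 = 1
  card : Nat.card V = 3 ^ (2 * e)
  prime : ℓ.Prime
  ne3 : ℓ ≠ 3
  pos : 0 < e
  ord3 : orderOf (3 : ZMod ℓ) = e
  hx : x ^ ℓ = 1
  fpf : ∀ v, ρ x v = v → v = 1
  hf : f ^ e = 1
  μ : ℕ
  hμ : f * x * f⁻¹ = x ^ μ
  hμo : orderOf (μ : ZMod ℓ) = e
  tt_tt : ∀ g, tt (tt g) = g
  tt_x : tt x = x
  tt_f : tt f = f
  fixt : ∀ a, tt a = a → a * x * a⁻¹ ∈ zpowers x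
  centx : ∀ g : Γ, g ^ 3 = 1 → g * x = x * g → g = 1
  invfix : ∀ (b : Γ) (q k : ℕ), q.Prime → q ≠ 3 → b ^ q ^ k = 1 → tt b = b⁻¹ → b * f = f * b → b = 1

namespace TwoMod

variable {Γ : Type u} [Group Γ] [Finite Γ] {V : Type v} [CommGroup V] [Finite V] {e ℓ : ℕ} (M : TwoMod Γ V e ℓ)

theorem act_mul (g h : Γ) (v : V) : M.ρ (g * h) v = M.ρ g (M.ρ h v) := by rw [map_mul]; rfl

theorem act_inv (g : Γ) (v : V) : M.ρ g (M.ρ g⁻¹ v) = v := by
  rw [← M.act_mul, mul_inv_cancel, map_one]; rfl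

/-- The fixed points of a subgroup. -/
def CK (K : Subgroup Γ) : Subgroup V where
  carrier := {v | ∀ k ∈ K, M.ρ k v = v}
  one_mem' := fun k _ => map_one _
  mul_mem' := fun {a b} ha hb k hk => by rw [map_mul, ha k hk, hb k hk]
  inv_mem' := fun {a} ha k hk => by rw [map_inv, ha k hk]

theorem mem_CK {K : Subgroup Γ} {v : V} : v ∈ M.CK K ↔ ∀ k ∈ K, M.ρ k v = v := Iff.rfl

include M in
theorem isPGroup_V : IsPGroup 3 V := fun v => ⟨1, by rw [pow_one, M.cube]⟩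

/-- An elementary abelian `ℓ`-subgroup containing `x`. -/
structure El (W : Subgroup Γ) : Prop where
  mem : M.x ∈ W
  pow : ∀ w ∈ W, w ^ ℓ = 1
  comm : ∀ a ∈ W, ∀ b ∈ W, a * b = b * a

/-- A complement of `x` in `W` with fixed points. -/
structure IsComp (W K : Subgroup Γ) : Prop where
  le : K ≤ W
  notx : M.x ∉ K
  gen : ∀ w ∈ W, ∃ i : ℕ, w * M.x ^ i ∈ K
  fix : M.CK K ≠ ⊥

variable {M} {W : Subgroup Γ}

include M in
theorem x_mem_of_pow {K : Subgroup Γ} {i : ℕ} (hi : ¬ ℓ ∣ i) {a : Γ} (ha : a ^ ℓ = 1) (h : a ^ i ∈ K) : a ∈ K := by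
  obtain ⟨j, hj⟩ := Nat.exists_mul_mod_eq_one_of_coprime ((M.prime.coprime_iff_not_dvd.2 hi).symm) M.prime.one_lt
  have e1 : a = (a ^ i) ^ j := by
    rw [← pow_mul, ← Nat.div_add_mod (i * j) ℓ, pow_add, pow_mul, ha, one_pow, one_mul, hj.2, pow_one]
  rw [e1]; exact pow_mem h j

theorem gen_of (hW : M.El W) {K : Subgroup Γ} (hK : K ≤ W) {a : Γ} (ha : a ∈ W)
    (hgen : ∀ w ∈ W, ∃ i : ℕ, w * a ^ i ∈ K) (hx : M.x ∉ K) : ∀ w ∈ W, ∃ i : ℕ, w * M.x ^ i ∈ K := by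
  obtain ⟨i0, h0⟩ := hgen _ hW.mem
  have hi0 : ¬ ℓ ∣ i0 := fun ⟨c, hc⟩ => hx (by rwa [hc, pow_mul, hW.pow a ha, one_pow, mul_one] at h0)
  obtain ⟨j, hj⟩ := Nat.exists_mul_mod_eq_one_of_coprime ((M.prime.coprime_iff_not_dvd.2 hi0).symm) M.prime.one_lt
  have ea : a = (a ^ i0) ^ j := by
    rw [← pow_mul, ← Nat.div_add_mod (i0 * j) ℓ, pow_add, pow_mul, hW.pow a ha, one_pow, one_mul, hj.2, pow_one]
  intro w hw
  obtain ⟨i, hi⟩ := hgen w hw
  refine ⟨(ℓ - 1) * (j * i), ?_⟩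
  have hc : Commute M.x (a ^ i0) := hW.comm _ hW.mem _ (pow_mem ha _)
  have h1 : (M.x * a ^ i0) ^ (j * i) ∈ K := pow_mem h0 _
  rw [hc.mul_pow, pow_mul (a ^ i0), ← ea] at h1
  have h2 : M.x ^ (j * i) * M.x ^ ((ℓ - 1) * (j * i)) = 1 := by
    rw [← pow_add, add_comm, ← Nat.succ_mul, show (ℓ - 1).succ = ℓ by have := M.prime.pos; omega, pow_mul, M.hx, one_pow]
  have h3 : w * a ^ i * (M.x ^ (j * i) * a ^ i)⁻¹ = w * M.x ^ ((ℓ - 1) * (j * i)) := by
    rw [mul_inv_rev, ← mul_assoc, mul_assoc w, mul_inv_cancel, mul_one, inv_eq_of_mul_eq_one_right h2]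
  rw [← h3]
  exact mul_mem hi (inv_mem h1)

/-! ### Components -/

theorem CK_x (hW : M.El W) {K : Subgroup Γ} (hK : K ≤ W) {v : V} (hv : v ∈ M.CK K) : M.ρ M.x v ∈ M.CK K :=
  fun k hk => by rw [← M.act_mul, hW.comm k (hK hk) _ hW.mem, M.act_mul, hv k hk]

theorem card_CK (hW : M.El W) {K : Subgroup Γ} (hK : M.IsComp W K) : 3 ^ e ≤ Nat.card (M.CK K) := by
  haveI := Fact.mk M.prime
  exact card_ge_fpf (ξ := M.ρ M.x) (by rw [← map_pow, M.hx, map_one]) M.fpf (orderOf_three M.ord3) (M.isPGroup_V.to_subgroup _)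
    (fun v hv => CK_x hW hK.le hv) hK.fix

/-- An element of one component outside another moves its fixed points. -/
theorem fixed_two (hW : M.El W) {K L : Subgroup Γ} (hK : M.IsComp W K) {k : Γ} (hk : k ∈ W) (hkK : k ∉ K) {v : V}
    (hv : v ∈ M.CK K) (hkv : M.ρ k v = v) : v = 1 := by
  obtain ⟨i, hi⟩ := hK.gen k hk
  have hix : ¬ ℓ ∣ i := fun ⟨c, hc⟩ => hkK (by rwa [hc, pow_mul, M.hx, one_pow, mul_one] at hi)
  refine M.fpf v ?_
  let S : Subgroup Γ :=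
    { carrier := {g | M.ρ g v = v}
      one_mem' := by show M.ρ 1 v = v; rw [map_one]; rfl
      mul_mem' := fun {a b} ha hb => by show M.ρ (a * b) v = v; rw [M.act_mul, hb, ha]
      inv_mem' := fun {a} ha => by
        show M.ρ a⁻¹ v = v
        conv_lhs => rw [← show M.ρ a v = v from ha, ← M.act_mul, inv_mul_cancel, map_one]
        rfl }
  show M.x ∈ S
  refine x_mem_of_pow (M := M) hix M.hx ?_
  have := mul_mem (inv_mem (show k ∈ S from hkv)) (show k * M.x ^ i ∈ S from hv _ hi)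
  rwa [inv_mul_cancel_left] at this

theorem not_le_comp {K L : Subgroup Γ} (hK : M.IsComp W K) (hL : M.IsComp W L) (hne : K ≠ L) : ∃ k ∈ L, k ∉ K := by
  by_contra hle
  push Not at hle
  refine hne (le_antisymm (fun k hk => ?_) hle)
  obtain ⟨i, hi⟩ := hL.gen k (hK.le hk)
  have h1 : M.x ^ i ∈ K := by
    have := mul_mem (inv_mem hk) (hle _ hi)
    rwa [inv_mul_cancel_left] at this
  have h2 : ℓ ∣ i := by
    by_contra h
    exact hK.notx (x_mem_of_pow (M := M) h M.hx h1)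
  obtain ⟨c, hc⟩ := h2
  rwa [hc, pow_mul, M.hx, one_pow, mul_one] at hi

theorem disjoint_comp (hW : M.El W) {K L : Subgroup Γ} (hK : M.IsComp W K) (hL : M.IsComp W L) (hne : K ≠ L)
    {v : V} (h1 : v ∈ M.CK K) (h2 : v ∈ M.CK L) : v = 1 := by
  obtain ⟨k, hkL, hkK⟩ := not_le_comp hK hL hne
  exact fixed_two (L := L) hW hK (hL.le hkL) hkK h1 (h2 k hkL)

theorem at_most_two (hW : M.El W) {K1 K2 K3 : Subgroup Γ} (h1 : M.IsComp W K1) (h2 : M.IsComp W K2)
    (h3 : M.IsComp W K3) : K1 = K2 ∨ K1 = K3 ∨ K2 = K3 := by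
  by_contra hne
  push Not at hne
  obtain ⟨n12, n13, n23⟩ := hne
  obtain ⟨k, hk1, hk2⟩ := not_le_comp h2 h1 (Ne.symm n12)
  let Φ : M.CK K1 × M.CK K2 × M.CK K3 →* V :=
    (M.CK K1).subtype.coprod ((M.CK K2).subtype.coprod (M.CK K3).subtype)
  have hinj : Function.Injective Φ := by
    rw [injective_iff_map_eq_one]
    rintro ⟨⟨a, ha⟩, ⟨b, hb⟩, ⟨c, hc⟩⟩ h
    have habc : a * (b * c) = 1 := h
    have hmove : ∀ {K : Subgroup Γ}, M.IsComp W K → ∀ {w : V}, w ∈ M.CK K → M.ρ k w * w⁻¹ ∈ M.CK K := by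
      intro K hK w hw
      refine mul_mem (fun g hg => ?_) (inv_mem hw)
      rw [← M.act_mul, hW.comm g (hK.le hg) k (h1.le hk1), M.act_mul, hw g hg]
    have hkbc : M.ρ k b * b⁻¹ * (M.ρ k c * c⁻¹) = 1 := by
      have e0 : M.ρ k (a * (b * c)) = 1 := by rw [habc, map_one]
      rw [map_mul, map_mul, ha k hk1] at e0
      rw [mul_mul_mul_comm, ← mul_inv, mul_inv_eq_one]
      exact mul_left_cancel (e0.trans habc.symm)
    have hb1 : M.ρ k b * b⁻¹ = 1 := by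
      refine disjoint_comp hW h2 h3 n23 (hmove h2 hb) ?_
      rw [eq_inv_of_mul_eq_one_left hkbc]
      exact inv_mem (hmove h3 hc)
    have b1 : b = 1 := fixed_two (L := K1) hW h2 (h1.le hk1) hk2 hb (mul_inv_eq_one.1 hb1)
    subst b1
    rw [one_mul] at habc
    have a1 : a = 1 := disjoint_comp hW h1 h3 n13 ha (by rw [eq_inv_of_mul_eq_one_left habc]; exact inv_mem hc)
    subst a1
    rw [one_mul] at habc
    subst habc
    rfl
  have hle := Nat.card_le_card_of_injective _ hinj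
  rw [M.card, Nat.card_prod, Nat.card_prod] at hle
  have hb := Nat.mul_le_mul (card_CK hW h1) (Nat.mul_le_mul (card_CK hW h2) (card_CK hW h3))
  have h9 : (3 : ℕ) ^ (2 * e) < 3 ^ e * (3 ^ e * 3 ^ e) := by
    rw [← pow_add, ← pow_add]
    exact Nat.pow_lt_pow_right (by norm_num) (by have := M.pos; omega)
  omega

/-- The components generate. -/
theorem eq_one_of_fix_all (hW : M.El W) {k : Γ} (hk : k ∈ W) (h : ∀ K, M.IsComp W K → k ∈ K) : k = 1 := by
  classical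
  by_contra hne
  letI : CommGroup W := { (inferInstance : Group W) with mul_comm := fun a b => Subtype.ext (hW.comm a a.2 b b.2) }
  set T : Subgroup V := (fdel (M.ρ k)).range with hT
  have hTne : T ≠ ⊥ := fun h0 => hne (M.inj (by
    rw [map_one]
    ext v
    have : fdel (M.ρ k) v ∈ T := ⟨v, rfl⟩
    rw [h0, mem_bot, fdel_apply, mul_inv_eq_one] at this
    exact this))
  have hTinv : ∀ w ∈ W, ∀ v ∈ T, M.ρ w v ∈ T := by
    rintro w hw _ ⟨u, rfl⟩
    refine ⟨M.ρ w u, ?_⟩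
    rw [fdel_apply, fdel_apply, map_mul, map_inv, ← M.act_mul, ← M.act_mul, hW.comm k hk w hw]
  obtain ⟨V0, hV0le, hV0⟩ := Finite.exists_le_minimal
    (p := fun U : Subgroup V => U ≠ ⊥ ∧ ∀ w ∈ W, ∀ v ∈ U, M.ρ w v ∈ U) (a := T) ⟨hTne, hTinv⟩
  haveI : Nontrivial V0 := (Subgroup.nontrivial_iff_ne_bot _).2 hV0.1.1
  let g : W → (V0 →* V0) := fun w =>
    ((M.ρ w).toMonoidHom.comp V0.subtype).codRestrict V0 fun v => hV0.1.2 w w.2 v v.2
  have hg : ∀ (w : W) (v : V0), ((g w v : V0) : V) = M.ρ w v := fun w v => rfl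
  obtain ⟨a, ha⟩ := Solv.exists_gen_mod_ker g (fun v => Subtype.ext (by rw [hg]; simp))
    (fun a b v => Subtype.ext (by rw [hg, hg, hg, Subgroup.coe_mul, M.act_mul])) (fun U hU => by
      by_cases hU0 : U = ⊥
      · exact Or.inl hU0
      right
      have hmin := hV0.2 (y := U.map V0.subtype) ⟨fun h0 => hU0 ((map_eq_bot_iff_of_injective _
        V0.subtype_injective).1 h0), fun w hw v hv => by
          obtain ⟨u, hu, rfl⟩ := hv
          exact ⟨g ⟨w, hw⟩ u, hU _ u hu, rfl⟩⟩ (map_subtype_le U)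
      rw [eq_top_iff]
      intro v _
      obtain ⟨u, hu, e⟩ := hmin v.2
      rwa [← Subtype.ext e])
  let K0 : Subgroup Γ :=
    { carrier := {w | w ∈ W ∧ ∀ v : V0, M.ρ w v = v}
      one_mem' := ⟨one_mem W, fun v => by simp⟩
      mul_mem' := fun {p q} hp hq => ⟨mul_mem hp.1 hq.1, fun v => by rw [M.act_mul, hq.2, hp.2]⟩
      inv_mem' := fun {p} hp => ⟨inv_mem hp.1, fun v => by
        conv_lhs => rw [← hp.2 v, ← M.act_mul, inv_mul_cancel]
        simp⟩ }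
  have hx0 : M.x ∉ K0 := fun hx => hV0.1.1 ((eq_bot_iff_forall _).2 fun v hv => M.fpf v (hx.2 ⟨v, hv⟩))
  have hK0 : M.IsComp W K0 := by
    refine ⟨fun w hw => hw.1, hx0, gen_of hW (fun w hw => hw.1) a.2 (fun w hw => ?_) hx0,
      fun h0 => hV0.1.1 (eq_bot_iff.2 ?_)⟩
    · obtain ⟨i, hi⟩ := ha ⟨w, hw⟩
      refine ⟨(i % (ℓ : ℤ)).toNat, mul_mem hw (pow_mem a.2 _), fun v => ?_⟩
      have e1 : (a : Γ) ^ i = (a : Γ) ^ (i % (ℓ : ℤ)).toNat := by
        rw [← zpow_natCast (a : Γ), Int.toNat_of_nonneg (Int.emod_nonneg _ (by exact_mod_cast M.prime.ne_zero))]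
        conv_lhs => rw [← Int.emod_add_mul_ediv i ℓ, zpow_add, zpow_mul, zpow_natCast, hW.pow _ a.2, one_zpow, mul_one]
      have h2 := congrArg Subtype.val (hi v)
      rw [hg, Subgroup.coe_mul, SubgroupClass.coe_zpow, e1] at h2
      exact h2
    · rw [← h0]
      intro v hv w hw
      exact hw.2 ⟨v, hv⟩
  have hkK0 := h K0 hK0
  obtain ⟨⟨v0, hv0⟩, hv0ne'⟩ := exists_ne (1 : V0)
  have hv0ne : v0 ≠ 1 := fun e => hv0ne' (Subtype.ext e)
  obtain ⟨u, hu⟩ := hV0le hv0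
  rw [fdel_apply] at hu
  have hfixv : M.ρ k v0 = v0 := hkK0.2 ⟨v0, hv0⟩
  have hiter : ∀ j : ℕ, M.ρ (k ^ j) u = v0 ^ j * u := by
    intro j
    induction j with
    | zero => simp
    | succ j ih => rw [pow_succ', M.act_mul, ih, map_mul, map_pow, hfixv, pow_succ, mul_assoc, ← hu,
        inv_mul_cancel_right]
  have h1 := hiter ℓ
  rw [hW.pow k hk, map_one, MulAut.one_apply, right_eq_mul] at h1
  have h2 : Nat.Coprime 3 ℓ := (Nat.coprime_primes Nat.prime_three M.prime).2 (Ne.symm M.ne3)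
  exact hv0ne (orderOf_eq_one_iff.1 (Nat.eq_one_of_dvd_coprimes h2 (orderOf_dvd_of_pow_eq_one (M.cube v0))
    (orderOf_dvd_of_pow_eq_one h1)))

end TwoMod

end Cfsg.Agent.Walter.JR.Res3
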