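import Cfsg.Agent.Lib.Walter.JR.Res3.Comp
import Cfsg.Agent.Lib.Char.ReeOrder.LocalPsl

/-!
# `O_3(Γ) ≠ 1`

If `O_3(Γ) = 1`, `x` centralises the Fitting subgroup: in a minimal invariant `q`-subgroup it does not centralise, the
derived group is fixed by `tt`, so an inverted fixed point of `f` lifts and contradicts `invfix`.  So the elementary
abelian `ℓ`-subgroup of the centre containing `x` is normal; it has at most two components, on each of which a
3-element commuting with the 3-part `τ` of `f` acts as a power of `τ`, so fixes all fixed points of `τ`.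
-/

set_option autoImplicit false
set_option linter.unusedSectionVars false
set_option linter.style.haveILetI false

namespace Cfsg.Agent.Walter.JR.Res3

open Subgroup
open scoped commutatorElement

universe u v

namespace TwoMod

variable {Γ : Type u} [Group Γ] [Finite Γ] {V : Type v} [CommGroup V] [Finite V] {e ℓ : ℕ} {M : TwoMod Γ V e ℓ}
  {W : Subgroup Γ}

theorem map_comp (hW : M.El W) {g : Γ} (hg : g ∈ normalizer (W : Set Γ)) {K : Subgroup Γ} (hK : M.IsComp W K) :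
    M.IsComp W (K.map (MulAut.conj g).toMonoidHom) := by
  have mem : ∀ {w : Γ}, w ∈ W → g * w * g⁻¹ ∈ W := fun {w} hw => (mem_normalizer_iff.1 hg w).1 hw
  have hle : K.map (MulAut.conj g).toMonoidHom ≤ W := by
    rintro _ ⟨k, hk, rfl⟩
    exact mem (hK.le hk)
  have hfix : M.CK (K.map (MulAut.conj g).toMonoidHom) ≠ ⊥ := by
    intro h0
    refine hK.fix ((eq_bot_iff_forall _).2 fun v hv => ?_)
    have : M.ρ g v ∈ M.CK (K.map (MulAut.conj g).toMonoidHom) := by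
      rintro _ ⟨k, hk, rfl⟩
      rw [← M.act_mul]
      show M.ρ (g * k * g⁻¹ * g) v = _
      rw [inv_mul_cancel_right, M.act_mul, hv k hk]
    rw [h0, mem_bot] at this
    exact (M.ρ g).injective (this.trans (map_one _).symm)
  have hx : M.x ∉ K.map (MulAut.conj g).toMonoidHom := fun h =>
    hfix ((eq_bot_iff_forall _).2 fun v hv => M.fpf v (hv _ h))
  refine ⟨hle, hx, gen_of hW hle (mem hW.mem) (fun w hw => ?_) hx, hfix⟩
  have hw' : g⁻¹ * w * g ∈ W := by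
    have := (mem_normalizer_iff.1 (inv_mem hg) w).1 hw
    rwa [inv_inv] at this
  obtain ⟨i, hi⟩ := hK.gen _ hw'
  refine ⟨i, _, hi, ?_⟩
  show g * (g⁻¹ * w * g * M.x ^ i) * g⁻¹ = w * (g * M.x * g⁻¹) ^ i
  rw [conj_pow]; group

theorem stable_of_normalizes (hW : M.El W) {g : Γ} (hg : g ∈ normalizer (W : Set Γ)) {K : Subgroup Γ}
    (hK : M.IsComp W K) : K.map (MulAut.conj g).toMonoidHom = K := by
  let act : Γ → Subgroup Γ → Subgroup Γ := fun g L => L.map (MulAut.conj g).toMonoidHom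
  have hmul : ∀ a b L, act (a * b) L = act a (act b L) := fun a b L => by
    simp only [act, Subgroup.map_map]
    congr 1
    ext x
    simp [mul_assoc]
  have hone : ∀ L, act 1 L = L := fun L => by
    simp only [act, map_one]
    exact Subgroup.map_id L
  exact OddChar.fix_of_small (P := M.IsComp W) (fun a b c => at_most_two hW) hone hmul
    (M.odd.of_dvd_nat (_root_.orderOf_dvd_natCard g)) (fun L hL => map_comp hW hg hL) hK

/-- An element of `ℓ`-power order normalising `W` commutes with `x`. -/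
theorem comm_of_normalizes (hW : M.El W) {g : Γ} (hg : g ∈ normalizer (W : Set Γ)) {m : ℕ}
    (hm : g ^ ℓ ^ m = 1) : g * M.x = M.x * g := by
  have hgx : g * M.x * g⁻¹ ∈ W := (mem_normalizer_iff.1 hg _).1 hW.mem
  have key : ∀ K, M.IsComp W K → g * M.x * g⁻¹ * M.x⁻¹ ∈ K := by
    intro K hK
    obtain ⟨i, hi⟩ := hK.gen _ hgx
    -- `g x g⁻¹ = k x^j`
    obtain ⟨j, hj⟩ : ∃ j : ℕ, g * M.x * g⁻¹ * (M.x ^ j)⁻¹ ∈ K :=
      ⟨(ℓ - 1) * i, by
        rwa [inv_eq_of_mul_eq_one_left (show M.x ^ i * M.x ^ ((ℓ - 1) * i) = 1 by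
          rw [← pow_add, add_comm, ← Nat.succ_mul, show (ℓ - 1).succ = ℓ by have := M.prime.pos; omega, pow_mul, M.hx,
            one_pow])]⟩
    have hst : ∀ k ∈ K, g * k * g⁻¹ ∈ K := fun k hk =>
      (stable_of_normalizes hW hg hK).le ⟨k, hk, rfl⟩
    have hn : ∀ n : ℕ, g ^ n * M.x * (g ^ n)⁻¹ * (M.x ^ j ^ n)⁻¹ ∈ K := by
      intro n
      induction n with
      | zero => simp [one_mem]
      | succ n ih =>
        have hc : Commute (g * M.x * g⁻¹) M.x⁻¹ := (show Commute (g * M.x * g⁻¹) M.x from hW.comm _ hgx _ hW.mem).inv_right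
        have h2 : (g * M.x * g⁻¹ * (M.x ^ j)⁻¹) ^ j ^ n ∈ K := pow_mem hj _
        rw [← inv_pow] at h2
        rw [(hc.pow_right j).mul_pow, ← pow_mul, inv_pow, conj_pow, ← pow_succ'] at h2
        have h3 := mul_mem (hst _ ih) h2
        rw [show g ^ (n + 1) = g * g ^ n from pow_succ' g n]
        refine (congrArg (· ∈ K) ?_).mp h3
        group
    have h1 := hn (ℓ ^ m)
    rw [hm, one_mul, inv_one, mul_one] at h1
    haveI := Fact.mk M.prime
    -- `j ≡ 1`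
    have hj1 : j % ℓ = 1 := by
      obtain ⟨c, hc⟩ : ∃ c : ℕ, M.x * (M.x ^ j ^ ℓ ^ m)⁻¹ = M.x ^ c := ⟨1 + (ℓ - 1) * j ^ ℓ ^ m, by
        rw [pow_add, pow_one, inv_eq_of_mul_eq_one_left (show M.x ^ ((ℓ - 1) * j ^ ℓ ^ m) * M.x ^ j ^ ℓ ^ m = 1 by
          rw [← pow_add, ← Nat.succ_mul, show (ℓ - 1).succ = ℓ by have := M.prime.pos; omega, pow_mul, M.hx,
            one_pow])]⟩
      rw [hc] at h1
      have hc0 : M.x ^ c = 1 := by
        by_contra hne
        refine hK.notx (x_mem_of_pow (M := M) (fun ⟨d, hd⟩ => hne ?_) M.hx h1)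
        rw [hd, pow_mul, M.hx, one_pow]
      rw [← hc, mul_inv_eq_one] at hc0
      have hord : orderOf M.x = ℓ := orderOf_eq_prime M.hx fun h => hK.notx (h ▸ one_mem K)
      have h4 : M.x ^ 1 = M.x ^ j ^ ℓ ^ m := by rw [pow_one]; exact hc0
      rw [pow_inj_mod, hord, Nat.mod_eq_of_lt M.prime.one_lt] at h4
      have h5 : ((j : ZMod ℓ)) = 1 := by
        have h6 : ((j ^ ℓ ^ m : ℕ) : ZMod ℓ) = ((1 : ℕ) : ZMod ℓ) := by
          rw [ZMod.natCast_eq_natCast_iff']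
          rw [← h4, Nat.mod_eq_of_lt M.prime.one_lt]
        rw [Nat.cast_pow, ZMod.pow_card_pow] at h6
        exact_mod_cast h6
      have h7 := (ZMod.natCast_eq_natCast_iff' j 1 ℓ).1 (by exact_mod_cast h5)
      rwa [Nat.mod_eq_of_lt M.prime.one_lt] at h7
    have : M.x ^ j = M.x := by
      rw [← Nat.div_add_mod j ℓ, hj1, pow_add, pow_mul, M.hx, one_pow, one_mul, pow_one]
    rwa [this] at hj
  have := eq_one_of_fix_all hW (mul_mem hgx (inv_mem hW.mem)) key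
  exact mul_inv_eq_iff_eq_mul.1 (mul_inv_eq_one.1 this)

/-! ### The Fitting subgroup -/

theorem conj_mem_cent {H : Subgroup Γ} {g c : Γ} (hg : g ∈ normalizer (H : Set Γ))
    (hc : c ∈ centralizer (H : Set Γ)) : g * c * g⁻¹ ∈ centralizer (H : Set Γ) := by
  refine mem_centralizer_iff.2 fun h hh => ?_
  have h' : g⁻¹ * h * g ∈ H := by
    have := (mem_normalizer_iff.1 (inv_mem hg) h).1 hh
    rwa [inv_inv] at this
  calc h * (g * c * g⁻¹) = g * ((g⁻¹ * h * g) * c) * g⁻¹ := by group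
    _ = g * (c * (g⁻¹ * h * g)) * g⁻¹ := by rw [mem_centralizer_iff.1 hc _ h']
    _ = g * c * g⁻¹ * h := by group

theorem mem_norm {G : Type*} [Group G] [Finite G] {H : Subgroup G} {a : G} (h : ∀ x ∈ H, a * x * a⁻¹ ∈ H) :
    a ∈ normalizer (H : Set G) := by
  have he : H.map (MulAut.conj a).toMonoidHom = H :=
    eq_of_le_of_card_ge (by rintro _ ⟨x, hx, rfl⟩; exact h x hx)
      (by rw [card_map_of_injective (MulAut.conj a).injective])
  refine mem_normalizer_iff.2 fun x => ⟨h x, fun hx => ?_⟩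
  rw [← he] at hx
  obtain ⟨y, hy, hxy⟩ := hx
  rwa [← (MulAut.conj a).injective (show MulAut.conj a y = MulAut.conj a x from hxy)]

theorem centralizer_singleton_zpowers {G : Type*} [Group G] (x : G) :
    centralizer ({x} : Set G) = centralizer (zpowers x : Set G) := by
  ext g
  refine ⟨fun hg => mem_centralizer_iff.2 fun a ha => ?_, fun hg => mem_centralizer_singleton_iff.2
    (mem_centralizer_iff.1 hg x (mem_zpowers x)).symm⟩
  obtain ⟨i, rfl⟩ := ha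
  exact ((show Commute g x from mem_centralizer_singleton_iff.1 hg).zpow_right i).symm

theorem exists_norm_not_mem {q : ℕ} [Fact q.Prime] {D C : Subgroup Γ} (hD : IsPGroup q D) (hlt : ¬ D ≤ C) :
    ∃ g ∈ D, g ∉ C ∧ g ∈ normalizer ((D ⊓ C : Subgroup Γ) : Set Γ) := by
  haveI := hD.isNilpotent
  have h := Group.normalizerCondition_of_isNilpotent (G := D) (C.subgroupOf D)
    (lt_top_iff_ne_top.2 fun h => hlt (subgroupOf_eq_top.1 h))
  obtain ⟨g, hg, hgC⟩ := SetLike.exists_of_lt h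
  refine ⟨g, g.2, hgC, mem_norm fun c hc => ?_⟩
  have h1 := (mem_normalizer_iff.1 hg ⟨c, hc.1⟩).1 hc.2
  exact mem_inf.2 ⟨mul_mem (mul_mem g.2 hc.1) (inv_mem g.2), h1⟩

theorem x_pow_group : IsPGroup ℓ (zpowers M.x) := by
  haveI := Fact.mk M.prime
  intro a
  obtain ⟨k, hk⟩ := a.2
  refine ⟨1, Subtype.ext ?_⟩
  rw [Subgroup.coe_pow, ← hk, Subgroup.coe_one, pow_one]
  show (M.x ^ k) ^ ℓ = 1
  rw [← zpow_natCast, ← zpow_mul, mul_comm, zpow_mul, zpow_natCast, M.hx, one_zpow]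

theorem comm_core_ell (M : TwoMod Γ V e ℓ) : pCore ℓ Γ ≤ centralizer ({M.x} : Set Γ) := by
  haveI := Fact.mk M.prime
  haveI := Solv.pCore_normal (G := Γ) ℓ
  set Y := pCore ℓ Γ ⊔ zpowers M.x
  have hY : IsPGroup ℓ Y := (Solv.pCore_isPGroup ℓ).to_sup_of_normal_left x_pow_group
  by_contra hle
  have hxY : M.x ∈ Y := mem_sup_right (mem_zpowers _)
  obtain ⟨g, hgY, hgC, hgn⟩ := exists_norm_not_mem hY (fun h => hle (le_sup_left.trans h))
  set C := Y ⊓ centralizer ({M.x} : Set Γ)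
  have hcx : M.x ∈ C := ⟨hxY, mem_centralizer_singleton_iff.2 rfl⟩
  let W : Subgroup Γ :=
    { carrier := {w | w ∈ C ∧ w ^ ℓ = 1 ∧ ∀ c ∈ C, w * c = c * w}
      one_mem' := ⟨one_mem _, one_pow _, fun c _ => by rw [one_mul, mul_one]⟩
      mul_mem' := fun {a b} ha hb => ⟨mul_mem ha.1 hb.1,
        by rw [(show Commute a b from ha.2.2 b hb.1).mul_pow, ha.2.1, hb.2.1, one_mul],
        fun c hc => ((show Commute a c from ha.2.2 c hc).mul_left (hb.2.2 c hc)).eq⟩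
      inv_mem' := fun {a} ha => ⟨inv_mem ha.1, by rw [inv_pow, ha.2.1, inv_one],
        fun c hc => ((show Commute a c from ha.2.2 c hc).inv_left).eq⟩ }
  have hW : M.El W := ⟨⟨hcx, M.hx, fun c hc => (mem_centralizer_singleton_iff.1 hc.2).symm⟩,
    fun w hw => hw.2.1, fun a ha b hb => ha.2.2 b hb.1⟩
  have hgW : g ∈ normalizer (W : Set Γ) := mem_norm fun w hw => by
    refine ⟨(mem_normalizer_iff.1 hgn w).1 hw.1, by rw [conj_pow, hw.2.1, mul_one, mul_inv_cancel], fun c hc => ?_⟩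
    have hc' : g⁻¹ * c * g ∈ C := by
      have := (mem_normalizer_iff.1 (inv_mem hgn) c).1 hc
      rwa [inv_inv] at this
    calc g * w * g⁻¹ * c = g * (w * (g⁻¹ * c * g)) * g⁻¹ := by group
      _ = g * ((g⁻¹ * c * g) * w) * g⁻¹ := by rw [hw.2.2 _ hc']
      _ = c * (g * w * g⁻¹) := by group
  obtain ⟨m, hm⟩ := hY ⟨g, hgY⟩
  exact hgC (mem_centralizer_singleton_iff.2 (comm_of_normalizes hW hgW (congrArg Subtype.val hm :)))

theorem comm_core_other (M : TwoMod Γ V e ℓ) {q : ℕ} [Fact q.Prime] (hq3 : q ≠ 3) (hqℓ : q ≠ ℓ) :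
    pCore q Γ ≤ centralizer ({M.x} : Set Γ) := by
  classical
  haveI := Fact.mk M.prime
  have hqp : q.Prime := Fact.out
  haveI : Group.IsSolvable Γ := Bender.AbelianSolvable.odd_solvable' M.odd
  haveI hD0n := Solv.pCore_normal (G := Γ) q
  by_contra hle
  obtain ⟨D, hDle, ⟨-, hxD, hfD, htD, hDne⟩, hmin⟩ := Finite.exists_le_minimal
    (p := fun D : Subgroup Γ => D ≤ pCore q Γ ∧ M.x ∈ normalizer (D : Set Γ) ∧ M.f ∈ normalizer (D : Set Γ) ∧
      (∀ d ∈ D, M.tt d ∈ D) ∧ ¬ D ≤ centralizer ({M.x} : Set Γ)) (a := pCore q Γ)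
    ⟨le_rfl, mem_norm fun z hz => hD0n.conj_mem z hz _, mem_norm fun z hz => hD0n.conj_mem z hz _,
      fun d hd => Fusion.map_pCore_equiv (p := q) M.tt ▸ ⟨d, hd, rfl⟩, hle⟩
  have hDp : IsPGroup q D := (Solv.pCore_isPGroup q).to_le hDle
  have small : ∀ E : Subgroup Γ, E ≤ D → M.x ∈ normalizer (E : Set Γ) → M.f ∈ normalizer (E : Set Γ) →
      (∀ d ∈ E, M.tt d ∈ E) → ¬ E ≤ centralizer ({M.x} : Set Γ) → D ≤ E :=
    fun E hE h1 h2 h3 h4 => hmin ⟨hE.trans hDle, h1, h2, h3, h4⟩ hE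
  have qco : ∀ {s : Γ}, s ∈ D → ∀ n : ℕ, ¬ q ∣ n → s ^ n = 1 → s = 1 := by
    intro s hs n hn hsn
    obtain ⟨k, hk⟩ := hDp ⟨s, hs⟩
    exact orderOf_eq_one_iff.1 (Nat.eq_one_of_dvd_coprimes ((hqp.coprime_iff_not_dvd.2 hn).pow_left k)
      (orderOf_dvd_of_pow_eq_one (congrArg Subtype.val hk :)) (orderOf_dvd_of_pow_eq_one hsn))
  have hqℓ' : ¬ q ∣ ℓ := fun h => hqℓ ((Nat.prime_dvd_prime_iff_eq hqp M.prime).1 h)
  have conjx : ∀ {u : Γ}, u ∈ D → ∀ n : ℕ, M.x ^ n * u * (M.x ^ n)⁻¹ ∈ D := fun hu n =>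
    (mem_normalizer_iff.1 (pow_mem hxD n) _).1 hu
  -- the commutators with `x`
  set S : Subgroup Γ := closure {c | ∃ u ∈ D, M.x * u * M.x⁻¹ * u⁻¹ = c} with hS
  have hSD : S ≤ D := by
    rw [hS, closure_le]
    rintro _ ⟨u, hu, rfl⟩
    exact mul_mem ((mem_normalizer_iff.1 hxD u).1 hu) (inv_mem hu)
  have hpowS : ∀ {u : Γ}, u ∈ D → ∀ n : ℕ, M.x ^ n * u * (M.x ^ n)⁻¹ * u⁻¹ ∈ S := by
    intro u hu n
    induction n with
    | zero => simp [one_mem]
    | succ n ih =>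
      rw [pow_succ', show M.x * M.x ^ n * u * (M.x * M.x ^ n)⁻¹ * u⁻¹ =
        M.x * (M.x ^ n * u * (M.x ^ n)⁻¹) * M.x⁻¹ * (M.x ^ n * u * (M.x ^ n)⁻¹)⁻¹ *
          (M.x ^ n * u * (M.x ^ n)⁻¹ * u⁻¹) by group]
      exact mul_mem (subset_closure ⟨_, conjx hu n, rfl⟩) ih
  have himg : ∀ φ : Γ →* Γ, (∀ u ∈ D, φ (M.x * u * M.x⁻¹ * u⁻¹) ∈ S) → ∀ z ∈ S, φ z ∈ S := by
    intro φ hφ
    show S ≤ S.comap φ
    conv_lhs => rw [hS]
    rw [closure_le]
    rintro _ ⟨u, hu, rfl⟩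
    exact hφ u hu
  have hnotx : ¬ S ≤ centralizer ({M.x} : Set Γ) := by
    intro hS'
    refine hDne fun d hd => ?_
    set s := M.x * d * M.x⁻¹ * d⁻¹ with hs
    have hsS : s ∈ S := subset_closure ⟨d, hd, rfl⟩
    have hsx : Commute s M.x := mem_centralizer_singleton_iff.1 (hS' hsS)
    have hn : ∀ n : ℕ, M.x ^ n * d * (M.x ^ n)⁻¹ = s ^ n * d := by
      intro n
      induction n with
      | zero => simp
      | succ n ih =>
        calc M.x ^ (n + 1) * d * (M.x ^ (n + 1))⁻¹ = M.x * (M.x ^ n * d * (M.x ^ n)⁻¹) * M.x⁻¹ := by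
              rw [pow_succ']; group
          _ = (M.x * s ^ n * M.x⁻¹) * (s * d) := by rw [ih, hs]; group
          _ = s ^ (n + 1) * d := by rw [(hsx.symm.pow_right n).eq, mul_inv_cancel_right, pow_succ]; group
    have hs1 : s = 1 := qco (hSD hsS) ℓ hqℓ' (by
      have h := hn ℓ
      rw [M.hx, one_mul, inv_one, mul_one] at h
      exact mul_eq_right.1 h.symm)
    rw [hs, mul_inv_eq_one, mul_inv_eq_iff_eq_mul] at hs1
    exact mem_centralizer_singleton_iff.2 hs1.symm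
  have hDS : D ≤ S := by
    refine small S hSD (mem_norm fun z hz => ?_) (mem_norm fun z hz => ?_) (fun d hd => ?_) hnotx
    · refine himg (MulAut.conj M.x).toMonoidHom (fun u hu => ?_) z hz
      refine subset_closure ⟨M.x * u * M.x⁻¹, (mem_normalizer_iff.1 hxD u).1 hu, ?_⟩
      show _ = M.x * (M.x * u * M.x⁻¹ * u⁻¹) * M.x⁻¹
      group
    · refine himg (MulAut.conj M.f).toMonoidHom (fun u hu => ?_) z hz
      show M.f * (M.x * u * M.x⁻¹ * u⁻¹) * M.f⁻¹ ∈ S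
      rw [show M.f * (M.x * u * M.x⁻¹ * u⁻¹) * M.f⁻¹ = M.f * M.x * M.f⁻¹ * (M.f * u * M.f⁻¹) *
        (M.f * M.x * M.f⁻¹)⁻¹ * (M.f * u * M.f⁻¹)⁻¹ by group, M.hμ]
      exact hpowS ((mem_normalizer_iff.1 hfD u).1 hu) _
    · refine himg M.tt.toMonoidHom (fun u hu => subset_closure ⟨M.tt u, htD u hu, ?_⟩) d hd
      show _ = M.tt (M.x * u * M.x⁻¹ * u⁻¹)
      rw [map_mul, map_mul, map_mul, map_inv, map_inv, M.tt_x]
  -- the derived group
  set D' : Subgroup Γ := ⁅D, D⁆ with hD'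
  have hD'D : D' < D := Group.IsSolvable.commutator_lt_of_ne_bot (fun h => hDne (h ▸ bot_le))
  have hinv' : ∀ φ : Γ →* Γ, (∀ d ∈ D, φ d ∈ D) → ∀ z ∈ D', φ z ∈ D' := fun φ hφ z hz =>
    ((map_commutator D D φ).trans_le (commutator_mono (map_le_iff_le_comap.2 hφ) (map_le_iff_le_comap.2 hφ)))
      ⟨z, hz, rfl⟩
  have hxD' : M.x ∈ normalizer (D' : Set Γ) :=
    mem_norm (hinv' (MulAut.conj M.x).toMonoidHom fun d hd => (mem_normalizer_iff.1 hxD d).1 hd)
  have hfD' : M.f ∈ normalizer (D' : Set Γ) :=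
    mem_norm (hinv' (MulAut.conj M.f).toMonoidHom fun d hd => (mem_normalizer_iff.1 hfD d).1 hd)
  have hDD' : D ≤ normalizer (D' : Set Γ) := fun a ha =>
    mem_norm (hinv' (MulAut.conj a).toMonoidHom fun d hd => mul_mem (mul_mem ha hd) (inv_mem ha))
  have hD'x : D' ≤ centralizer ({M.x} : Set Γ) := by
    by_contra h
    exact hD'D.not_ge (small D' hD'D.le hxD' hfD' (hinv' M.tt.toMonoidHom htD) h)
  have hcentral : ∀ d ∈ D, ∀ z ∈ D', d * z = z * d := by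
    have h : S ≤ centralizer (D' : Set Γ) := by
      rw [hS, closure_le]
      rintro _ ⟨u, hu, rfl⟩
      refine mem_centralizer_iff.2 fun z hz => ?_
      have hz' : u⁻¹ * z * u ∈ D' := by
        have := (mem_normalizer_iff.1 (inv_mem (hDD' hu)) z).1 hz
        rwa [inv_inv] at this
      have hzx : Commute z M.x := mem_centralizer_singleton_iff.1 (hD'x hz)
      have hwx : Commute (u⁻¹ * z * u) M.x := mem_centralizer_singleton_iff.1 (hD'x hz')
      calc z * (M.x * u * M.x⁻¹ * u⁻¹) = z * M.x * u * M.x⁻¹ * u⁻¹ := by group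
        _ = M.x * z * u * M.x⁻¹ * u⁻¹ := by rw [hzx.eq]
        _ = M.x * u * ((u⁻¹ * z * u) * M.x⁻¹) * u⁻¹ := by group
        _ = M.x * u * (M.x⁻¹ * (u⁻¹ * z * u)) * u⁻¹ := by rw [hwx.inv_right.eq]
        _ = M.x * u * M.x⁻¹ * u⁻¹ * z := by group
    exact fun d hd z hz => (mem_centralizer_iff.1 (h (hDS hd)) z hz).symm
  -- `x` without fixed points on the quotient
  obtain ⟨Pr, hPN, hPM⟩ : ∃ Pr : SecPair Γ, Pr.N = D' ∧ Pr.M = D :=
    ⟨⟨D', D, hD'D.le, hDD', fun a ha b hb => by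
      simpa [commutatorElement_def] using commutator_mem_commutator ha hb⟩, rfl, rfl⟩
  have hfP : M.f ∈ Pr.nrmG := Pr.mem_nrmG.2 ⟨hPM ▸ hfD, hPN ▸ hfD'⟩
  have hxP : M.x ∈ Pr.nrmG := Pr.mem_nrmG.2 ⟨hPM ▸ hxD, hPN ▸ hxD'⟩
  set ξ := Pr.aut ⟨M.x, hxP⟩ with hξ
  have hξℓ : ξ ^ ℓ = 1 := by
    rw [hξ, ← map_pow, show (⟨M.x, hxP⟩ : Pr.nrmG) ^ ℓ = 1 from Subtype.ext M.hx, map_one]
  have hQp : IsPGroup q Pr.Q := Pr.isPGroup (hPM ▸ hDp)
  have hnorm : ∀ v, fnorm ξ ℓ v = 1 := by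
    intro v
    obtain ⟨g, rfl⟩ := QuotientGroup.mk_surjective v
    have key : S ≤ ((fnorm ξ ℓ).comp (QuotientGroup.mk' _)).ker.map Pr.M.subtype := by
      rw [hS, closure_le]
      rintro _ ⟨u, hu, rfl⟩
      have huM : u ∈ Pr.M := hPM.symm ▸ hu
      refine ⟨⟨_, mul_mem ((mem_normalizer_iff.1 (Pr.mem_nrmG.1 hxP).1 u).1 huM) (inv_mem huM)⟩, ?_, rfl⟩
      rw [SetLike.mem_coe, MonoidHom.mem_ker, MonoidHom.comp_apply, QuotientGroup.mk'_apply,
        show (⟨M.x * u * M.x⁻¹ * u⁻¹, _⟩ : Pr.M) = ⟨M.x * u * M.x⁻¹, (mem_normalizer_iff.1 (Pr.mem_nrmG.1 hxP).1 u).1 huM⟩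
          * ⟨u, huM⟩⁻¹ from rfl, QuotientGroup.mk_mul, QuotientGroup.mk_inv, map_mul, map_inv, mul_inv_eq_one]
      rw [← Pr.aut_mk ⟨M.x, hxP⟩ ⟨u, huM⟩, ← hξ]
      conv_rhs => rw [← fnorm_fix ξ hξℓ]
      rw [fnorm_apply, fnorm_apply, map_prod]
      exact Finset.prod_congr rfl fun k _ => by rw [← MulAut.mul_apply, ← MulAut.mul_apply, ← pow_succ, ← pow_succ']
    obtain ⟨g', hg', e⟩ := key (hDS (hPM.le g.2))
    rw [← show g' = g from Subtype.ext e]
    exact hg'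
  have hfpf : ∀ v, ξ v = v → v = 1 := by
    intro v hv
    have h := hnorm v
    rw [fnorm_apply, Finset.prod_congr rfl fun k _ => pow_fix hv k, Finset.prod_const, Finset.card_range] at h
    obtain ⟨k, hk⟩ := hQp v
    exact orderOf_eq_one_iff.1 (Nat.eq_one_of_dvd_coprimes ((hqp.coprime_iff_not_dvd.2 hqℓ').pow_left k)
      (orderOf_dvd_of_pow_eq_one hk) (orderOf_dvd_of_pow_eq_one h))
  have hF : FrobAct (Pr.aut ⟨M.f, hfP⟩) ξ ℓ e := by
    refine ⟨M.prime, hξℓ, hfpf, ?_, M.pos, M.μ, ?_, M.hμo⟩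
    · rw [← map_pow, show (⟨M.f, hfP⟩ : Pr.nrmG) ^ e = 1 from Subtype.ext M.hf, map_one]
    · rw [hξ, ← map_pow, ← map_inv, ← map_mul, ← map_mul]
      exact congrArg _ (Subtype.ext M.hμ)
  -- `tt` inverts the quotient
  have fixD' : ∀ a ∈ D, M.tt a = a → a ∈ D' := by
    intro a ha hat
    obtain ⟨i, hi⟩ := M.fixt a hat
    have hc : a * M.x * a⁻¹ * M.x⁻¹ = 1 := by
      refine qco (s := a * M.x * a⁻¹ * M.x⁻¹) ?_ ℓ hqℓ' ?_
      · rw [show a * M.x * a⁻¹ * M.x⁻¹ = a * (M.x * a⁻¹ * M.x⁻¹) by group]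
        exact mul_mem ha ((mem_normalizer_iff.1 hxD _).1 (inv_mem ha))
      · rw [← show M.x ^ i = a * M.x * a⁻¹ from hi, ← zpow_sub_one, ← zpow_natCast, ← zpow_mul, mul_comm, zpow_mul,
          zpow_natCast, M.hx, one_zpow]
    have h1 : Pr.aut ⟨M.x, hxP⟩ ((⟨a, hPM.symm ▸ ha⟩ : Pr.M) : Pr.Q) = ((⟨a, hPM.symm ▸ ha⟩ : Pr.M) : Pr.Q) := by
      rw [Pr.aut_fix]
      show M.x * a * M.x⁻¹ * a⁻¹ ∈ Pr.N
      rw [show M.x * a * M.x⁻¹ * a⁻¹ = (a * M.x * a⁻¹ * M.x⁻¹)⁻¹ by group, hc, inv_one]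
      exact one_mem _
    exact hPN ▸ (Pr.mk_one _).1 (hfpf _ h1)
  have split : ∀ g ∈ D, ∃ a ∈ D', ∃ b ∈ D, M.tt b = b⁻¹ ∧ g = a * b := by
    intro g hg
    set z := g⁻¹ * M.tt g with hz
    have hzD : z ∈ D := mul_mem (inv_mem hg) (htD g hg)
    obtain ⟨k, hk⟩ := Cfsg.Agent.Char.ReeOrder.sq_pow (M.odd.of_dvd_nat (_root_.orderOf_dvd_natCard z))
    have hzt : M.tt z = z⁻¹ := by rw [hz, map_mul, map_inv, M.tt_tt]; group
    have hy : M.tt (z ^ k) = (z ^ k)⁻¹ := by rw [map_pow, hzt, inv_pow]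
    refine ⟨g * z ^ k, fixD' _ (mul_mem hg (pow_mem hzD k)) ?_, (z ^ k)⁻¹, inv_mem (pow_mem hzD k),
      by rw [map_inv, hy], (mul_inv_cancel_right g _).symm⟩
    have e : M.tt g = g * (z ^ k * z ^ k) := by
      rw [← pow_two, ← pow_mul, mul_comm k 2, pow_mul, ← hk, hz]; group
    rw [map_mul, hy, e]; group
  -- `tt` fixes the derived group
  have ttfix : ∀ z ∈ D', M.tt z = z := by
    show D' ≤ { carrier := {z | M.tt z = z}
                one_mem' := map_one _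
                mul_mem' := fun {p r} hp hr => (map_mul M.tt p r).trans (congrArg₂ (· * ·) hp hr)
                inv_mem' := fun {p} hp => (map_inv M.tt p).trans (congrArg (·⁻¹) hp) }
    rw [hD', commutator_le]
    intro g1 hg1 g2 hg2
    obtain ⟨a1, ha1, b1, hb1, hb1t, rfl⟩ := split g1 hg1
    obtain ⟨a2, ha2, b2, hb2, hb2t, rfl⟩ := split g2 hg2
    have cm : ∀ {d}, d ∈ D → ∀ {z}, z ∈ D' → Commute d z := fun {d} hd {z} hz => hcentral d hd z hz
    have e1 : ⁅a1 * b1, a2 * b2⁆ = ⁅b1, b2⁆ := by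
      have ha1D := hD'D.le ha1
      have ha2D := hD'D.le ha2
      rw [commutatorElement_def, commutatorElement_def,
        show a1 * b1 * (a2 * b2) * (a1 * b1)⁻¹ * (a2 * b2)⁻¹ = a1 * (b1 * a2) * b2 * b1⁻¹ * a1⁻¹ * b2⁻¹ * a2⁻¹ by group,
        (cm hb1 ha2).eq,
        show a1 * (a2 * b1) * b2 * b1⁻¹ * a1⁻¹ * b2⁻¹ * a2⁻¹ = a1 * a2 * ((b1 * b2 * b1⁻¹) * a1⁻¹) * b2⁻¹ * a2⁻¹ by group,
        (cm (mul_mem (mul_mem hb1 hb2) (inv_mem hb1)) (inv_mem ha1)).eq,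
        show a1 * a2 * (a1⁻¹ * (b1 * b2 * b1⁻¹)) * b2⁻¹ * a2⁻¹ = a1 * (a2 * a1⁻¹) * ((b1 * b2 * b1⁻¹ * b2⁻¹) * a2⁻¹) by
          group, (cm ha2D (inv_mem ha1)).eq,
        (cm (mul_mem (mul_mem (mul_mem hb1 hb2) (inv_mem hb1)) (inv_mem hb2)) (inv_mem ha2)).eq]
      group
    show M.tt _ = _
    rw [e1, commutatorElement_def, map_mul, map_mul, map_mul, map_inv, map_inv, hb1t, hb2t, inv_inv, inv_inv]
    have hc2 : b1 * b2 * b1⁻¹ * b2⁻¹ ∈ D' := by
      simpa [commutatorElement_def] using (commutator_mem_commutator hb1 hb2 : ⁅b1, b2⁆ ∈ D')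
    rw [show b1⁻¹ * b2⁻¹ * b1 * b2 = (b2 * b1)⁻¹ * ((b1 * b2 * b1⁻¹ * b2⁻¹) * (b2 * b1)) by group,
      ← (cm (mul_mem hb2 hb1) hc2).eq, inv_mul_cancel_left]
  -- a fixed point of `f`
  haveI := Pr.nontrivial (show ¬ Pr.M ≤ Pr.N by rw [hPM, hPN]; exact hD'D.not_ge)
  obtain ⟨v, hv1, hv⟩ := hF.exists_fix hQp hqℓ
  obtain ⟨g, rfl⟩ := QuotientGroup.mk_surjective v
  obtain ⟨a, ha, b, hb, hbt, hgab⟩ := split g (hPM ▸ g.2)
  have hbM : b ∈ Pr.M := hPM.symm ▸ hb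
  have hgb : (g : Pr.Q) = ((⟨b, hbM⟩ : Pr.M) : Pr.Q) := by
    rw [Pr.mk_eq]
    show (g : Γ) * b⁻¹ ∈ Pr.N
    rw [hgab, mul_inv_cancel_right, hPN]; exact ha
  rw [hgb, Pr.aut_fix] at hv
  set z := M.f * b * M.f⁻¹ * b⁻¹ with hz
  have hzD' : z ∈ D' := hPN ▸ hv
  have h2 : M.tt (z * b) = (z * b)⁻¹ := by
    rw [show z * b = M.f * b * M.f⁻¹ by rw [hz]; group, map_mul, map_mul, map_inv, M.tt_f, hbt]
    group
  rw [map_mul, ttfix z hzD', hbt, mul_inv_rev, hcentral _ (inv_mem hb) _ (inv_mem hzD'), mul_left_inj] at h2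
  have hz1 : z = 1 := by
    rw [← orderOf_eq_one_iff]
    refine Nat.eq_one_of_dvd_coprimes (Nat.coprime_two_right.2 (M.odd.of_dvd_nat (_root_.orderOf_dvd_natCard z)))
      dvd_rfl (orderOf_dvd_of_pow_eq_one ?_)
    rw [pow_two]; nth_rw 2 [h2]; exact mul_inv_cancel z
  rw [hz, mul_inv_eq_one, mul_inv_eq_iff_eq_mul] at hz1
  obtain ⟨k, hk⟩ := hDp ⟨b, hb⟩
  refine hv1 (hgb.trans ((Pr.mk_one _).2 ?_))
  rw [show ((⟨b, hbM⟩ : Pr.M) : Γ) = 1 from M.invfix b q k hqp hq3 (congrArg Subtype.val hk :) hbt hz1.symm]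
  exact one_mem _

/-! ### The conclusion -/

/-- On a component, a 3-element commuting with the 3-part of `f` fixes its fixed points. -/
theorem fix_comp (hW : M.El W) (hWn : ∀ g : Γ, g ∈ normalizer (W : Set Γ)) {a m : ℕ} (he : e = 3 ^ a * m)
    (hm3 : ¬ 3 ∣ m) {g : Γ} {k : ℕ} (hg : g ^ 3 ^ k = 1) (hgt : g * M.f ^ m = M.f ^ m * g) {K : Subgroup Γ}
    (hK : M.IsComp W K) {d : ℕ} (hd : ¬ 3 ∣ d) (hcard : Nat.card (M.CK K) = 3 ^ (d * e))
    (hsmall : ∀ (h : Γ) (i : ℕ), h ^ 3 ^ i = 1 → (∀ c ∈ M.CK K, M.ρ h (M.ρ M.x c) = M.ρ M.x (M.ρ h c)) →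
      ∀ c ∈ M.CK K, M.ρ h c = c) {v : V} (hv : v ∈ M.CK K)
    (hvt : M.ρ (M.f ^ m) v = v) : M.ρ g v = v := by
  classical
  haveI := Fact.mk M.prime
  haveI := Fact.mk Nat.prime_three
  set C := M.CK K
  have hst : ∀ h : Γ, ∀ c ∈ C, M.ρ h c ∈ C := fun h c hc p hp => by
    have hp' : h⁻¹ * p * h ∈ K := by
      have := (stable_of_normalizes hW (hWn h⁻¹) hK).le ⟨p, hp, rfl⟩
      simpa using this
    rw [← M.act_mul, show p * h = h * (h⁻¹ * p * h) by group, M.act_mul, hc _ hp']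
  let π : Γ →* MulAut C :=
    { toFun := fun h =>
        { toFun := fun c => ⟨M.ρ h c, hst h c c.2⟩
          invFun := fun c => ⟨M.ρ h⁻¹ c, hst h⁻¹ c c.2⟩
          left_inv := fun c => Subtype.ext (by
            show M.ρ h⁻¹ (M.ρ h c) = c
            rw [← M.act_mul, inv_mul_cancel, map_one]; rfl)
          right_inv := fun c => Subtype.ext (M.act_inv h c)
          map_mul' := fun c d => Subtype.ext (map_mul (M.ρ h) _ _) }
      map_one' := MulEquiv.ext fun c => Subtype.ext (by show M.ρ 1 c = c; rw [map_one]; rfl)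
      map_mul' := fun h h' => MulEquiv.ext fun c => Subtype.ext (M.act_mul h h' c) }
  have hK1 : ∀ p ∈ K, π p = 1 := fun p hp => MulEquiv.ext fun c => Subtype.ext (c.2 p hp)
  set ξ := π M.x with hξ
  have hξℓ : ξ ^ ℓ = 1 := by rw [hξ, ← map_pow, M.hx, map_one]
  have hξfpf : ∀ c : C, ξ c = c → c = 1 := fun c hc => Subtype.ext (M.fpf _ (congrArg Subtype.val hc))
  haveI hnt : Nontrivial C := (Subgroup.nontrivial_iff_ne_bot _).2 hK.fix
  have hξord : orderOf ξ = ℓ := orderOf_eq_prime hξℓ fun h => by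
    obtain ⟨c, hc⟩ := exists_ne (1 : C)
    exact hc (hξfpf c (by rw [h]; rfl))
  -- every element acts on `⟨ξ⟩`
  have hjex : ∀ h : Γ, ∃ j : ℕ, π h * ξ * (π h)⁻¹ = ξ ^ j := fun h => by
    obtain ⟨i, hi⟩ := hK.gen _ ((mem_normalizer_iff.1 (hWn h) _).1 hW.mem)
    refine ⟨(ℓ - 1) * i, ?_⟩
    have e1 := hK1 _ hi
    rw [map_mul, map_mul, map_mul, map_inv, map_pow, ← hξ] at e1
    rw [eq_inv_of_mul_eq_one_left e1]
    refine inv_eq_of_mul_eq_one_right ?_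
    rw [← pow_add, add_comm, ← Nat.succ_mul, show (ℓ - 1).succ = ℓ by have := M.prime.pos; omega, pow_mul, hξℓ, one_pow]
  -- a three-element commuting with `ξ` is trivial
  have small : ∀ (h : Γ) (i : ℕ), h ^ 3 ^ i = 1 → π h * ξ = ξ * π h → π h = 1 := fun h i hi hc =>
    MulEquiv.ext fun c => Subtype.ext (hsmall h i hi (fun d hd => (congrArg Subtype.val (DFunLike.congr_fun hc ⟨d, hd⟩) :))
      c c.2)
  -- the exponents
  obtain ⟨j, hj⟩ := hjex g
  have hμm : π (M.f ^ m) * ξ * (π (M.f ^ m))⁻¹ = ξ ^ M.μ ^ m := by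
    rw [hξ, ← map_inv, ← map_mul, ← map_mul, ← map_pow]
    congr 1
    have : ∀ n : ℕ, M.f ^ n * M.x * (M.f ^ n)⁻¹ = M.x ^ M.μ ^ n := by
      intro n
      induction n with
      | zero => simp
      | succ n ih =>
        rw [pow_succ' M.f, show M.f * M.f ^ n * M.x * (M.f * M.f ^ n)⁻¹ =
          M.f * (M.f ^ n * M.x * (M.f ^ n)⁻¹) * M.f⁻¹ by group, ih, ← conj_pow, M.hμ, ← pow_mul, ← pow_succ']
    exact this m
  have hpw : ∀ (h : Γ) (r : ℕ), π h * ξ * (π h)⁻¹ = ξ ^ r → ∀ n : ℕ, π (h ^ n) * ξ * (π (h ^ n))⁻¹ = ξ ^ r ^ n := by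
    intro h r hr n
    induction n with
    | zero => simp
    | succ n ih =>
      rw [pow_succ' h, map_mul, show π h * π (h ^ n) * ξ * (π h * π (h ^ n))⁻¹ =
        π h * (π (h ^ n) * ξ * (π (h ^ n))⁻¹) * (π h)⁻¹ by group, ih, ← conj_pow, hr, ← pow_mul, ← pow_succ']
  have zeq : ∀ r r' : ℕ, ξ ^ r = ξ ^ r' ↔ ((r : ZMod ℓ) = (r' : ZMod ℓ)) := fun r r' => by
    rw [pow_eq_pow_iff_modEq, hξord, ZMod.natCast_eq_natCast_iff]
  have hj3 : (j : ZMod ℓ) ^ 3 ^ k = 1 := by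
    have h := hpw g j hj (3 ^ k)
    rw [hg, map_one, one_mul, inv_one, mul_one] at h
    have := (zeq 1 (j ^ 3 ^ k)).1 (by rw [pow_one]; exact h)
    push_cast at this
    exact this.symm
  obtain ⟨o, -, ho⟩ := (Nat.dvd_prime_pow Nat.prime_three).1 (orderOf_dvd_of_pow_eq_one hj3)
  -- `|C| = |fix| ^ o` bounds the order of the exponent
  have hgo : π g ^ 3 ^ o = 1 := by
    rw [← map_pow]
    refine small (g ^ 3 ^ o) k (by rw [← pow_mul, mul_comm, pow_mul, hg, one_pow]) ?_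
    have h := hpw g j hj (3 ^ o)
    rw [(zeq (j ^ 3 ^ o) 1).2 (by push_cast; rw [← ho, pow_orderOf_eq_one]), pow_one, mul_inv_eq_iff_eq_mul] at h
    exact h
  have hF : FrobAct (π g) ξ ℓ (3 ^ o) := ⟨M.prime, hξℓ, hξfpf, hgo, pow_pos (by norm_num) o, j, hj, ho⟩
  have hC := FrobAct.card_pow (fun c => Subtype.ext (M.cube (c : V))) hF
  rw [hcard] at hC
  have hoa : o ≤ a := by
    obtain ⟨n, hn⟩ := IsPGroup.iff_card.1 ((M.isPGroup_V.to_subgroup C).to_subgroup (fixV (π g)))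
    rw [hn, ← pow_mul] at hC
    have h1 : d * e = n * 3 ^ o := Nat.pow_right_injective (by norm_num) hC
    by_contra hlt
    have h2 : 3 ^ (a + 1) ∣ 3 ^ a * (d * m) := by
      rw [show 3 ^ a * (d * m) = d * e by rw [he]; ring, h1]
      exact dvd_mul_of_dvd_right (pow_dvd_pow 3 (by omega)) _
    rw [pow_succ] at h2
    rcases Nat.prime_three.dvd_mul.1 (Nat.dvd_of_mul_dvd_mul_left (pow_pos (by norm_num) a) h2) with h | h
    exacts [hd h, hm3 h]
  -- so the exponent is a power of that of `τ`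
  have hja : (j : ZMod ℓ) ^ 3 ^ a = 1 := by
    rw [← orderOf_dvd_iff_pow_eq_one, ho]; exact pow_dvd_pow 3 hoa
  have hm0 : 0 < m := Nat.pos_of_ne_zero fun h => hm3 (h ▸ dvd_zero 3)
  have hτo : orderOf ((M.μ : ZMod ℓ) ^ m) = 3 ^ a := by
    rw [orderOf_pow' _ hm0.ne', M.hμo, he, Nat.gcd_eq_right (dvd_mul_left m _), Nat.mul_div_cancel _ hm0]
  obtain ⟨i, hi⟩ : ∃ i : ℕ, ((M.μ : ZMod ℓ) ^ m) ^ i = (j : ZMod ℓ) := by
    haveI : NeZero ℓ := ⟨M.prime.ne_zero⟩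
    have hu : ∀ z : ZMod ℓ, z ^ 3 ^ a = 1 → z ≠ 0 := fun z hz h0 => by
      rw [h0, zero_pow (pow_ne_zero _ three_ne_zero)] at hz
      exact zero_ne_one hz
    have hτpow : ((M.μ : ZMod ℓ) ^ m) ^ 3 ^ a = 1 := hτo ▸ pow_orderOf_eq_one _
    set u := Units.mk0 _ (hu _ hτpow)
    have hu0 : orderOf u = 3 ^ a := by rw [← orderOf_units, Units.val_mk0, hτo]
    have hle : (zpowers u : Set (ZMod ℓ)ˣ) ⊆ {y | y ^ 3 ^ a = 1} := by
      rintro _ ⟨i, rfl⟩
      show (u ^ i) ^ 3 ^ a = 1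
      rw [← zpow_natCast, ← zpow_mul, mul_comm, zpow_mul, zpow_natCast, ← hu0, pow_orderOf_eq_one, one_zpow]
    have heq := Set.eq_of_subset_of_ncard_le hle (by
      rw [← Nat.card_coe_set_eq (zpowers u : Set (ZMod ℓ)ˣ), SetLike.coe_sort_coe, Nat.card_zpowers, hu0,
        Set.ncard_eq_toFinset_card', Set.toFinset_ofFinset]
      exact IsCyclic.card_pow_eq_one_le (pow_pos (by norm_num) a))
    have hmem : Units.mk0 _ (hu _ hja) ∈ zpowers u := heq.ge (by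
      show Units.mk0 (j : ZMod ℓ) (hu _ hja) ^ 3 ^ a = 1
      exact Units.ext (by rw [Units.val_pow_eq_pow_val, Units.val_mk0]; exact hja))
    obtain ⟨i, hi⟩ := mem_powers_iff_mem_zpowers.2 hmem
    exact ⟨i, by simpa [u] using congrArg Units.val hi⟩
  -- hence `g` acts as a power of `τ`
  set t := (M.f ^ m) ^ i with ht
  have htg : Commute t g := ((show Commute g (M.f ^ m) from hgt).pow_right i).symm
  have ht3 : t ^ 3 ^ (max a k) = 1 := by
    rw [ht, ← pow_mul, ← pow_mul]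
    obtain ⟨d, hd⟩ := pow_dvd_pow 3 (le_max_left a k)
    rw [hd, show m * (i * (3 ^ a * d)) = 3 ^ a * m * (i * d) by ring, ← he, pow_mul, M.hf, one_pow]
  have hprod : (t⁻¹ * g) ^ 3 ^ (max a k) = 1 := by
    rw [htg.inv_left.mul_pow, inv_pow, ht3, inv_one, one_mul]
    obtain ⟨d, hd⟩ := pow_dvd_pow 3 (le_max_right a k)
    rw [hd, pow_mul, hg, one_pow]
  have key := small (t⁻¹ * g) (max a k) hprod (by
    have hti := hpw (M.f ^ m) (M.μ ^ m) hμm i
    rw [← ht, ((zeq ((M.μ ^ m) ^ i) j).2 (by push_cast; exact hi)), ← hj] at hti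
    rw [← mul_inv_eq_iff_eq_mul, map_mul, map_inv,
      show (π t)⁻¹ * π g * ξ * ((π t)⁻¹ * π g)⁻¹ = (π t)⁻¹ * (π g * ξ * (π g)⁻¹) * π t by group, ← hti]
    group)
  have e2 : π g ⟨v, hv⟩ = π t ⟨v, hv⟩ := by
    rw [map_mul, map_inv, inv_mul_eq_one] at key
    rw [key]
  have e3 : M.ρ g v = M.ρ t v := congrArg Subtype.val e2
  rw [e3, ht, map_pow]
  exact pow_fix hvt i

/-- On a component of order `q` a 3-element commuting with `x` is trivial. -/
theorem small_comp (hW : M.El W) (hWn : ∀ g : Γ, g ∈ normalizer (W : Set Γ)) {K : Subgroup Γ} (hK : M.IsComp W K)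
    (hcard : Nat.card (M.CK K) = 3 ^ e) {h : Γ} {i : ℕ} (hi : h ^ 3 ^ i = 1)
    (hc : ∀ c ∈ M.CK K, M.ρ h (M.ρ M.x c) = M.ρ M.x (M.ρ h c)) : ∀ c ∈ M.CK K, M.ρ h c = c := by
  haveI := Fact.mk M.prime
  haveI := Fact.mk Nat.prime_three
  set C := M.CK K
  have hst : ∀ z : Γ, ∀ c ∈ C, M.ρ z c ∈ C := fun z c hc' p hp => by
    have hp' : z⁻¹ * p * z ∈ K := by
      have := (stable_of_normalizes hW (hWn z⁻¹) hK).le ⟨p, hp, rfl⟩
      simpa using this
    rw [← M.act_mul, show p * z = z * (z⁻¹ * p * z) by group, M.act_mul, hc' _ hp']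
  have hp : IsPGroup 3 (zpowers h) := fun z => by
    obtain ⟨n, hn⟩ := z.2
    refine ⟨i, Subtype.ext ?_⟩
    rw [Subgroup.coe_pow, ← hn, Subgroup.coe_one]
    show (h ^ n) ^ 3 ^ i = 1
    rw [← zpow_natCast, ← zpow_mul, mul_comm, zpow_mul, zpow_natCast, hi, one_zpow]
  letI : MulAction (zpowers h) C :=
    { smul := fun z c => ⟨M.ρ z c, hst z c c.2⟩
      one_smul := fun c => Subtype.ext (by show M.ρ 1 (c : V) = c; rw [map_one]; rfl)
      mul_smul := fun z z' c => Subtype.ext (M.act_mul z z' c) }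
  have hdvd : 3 ∣ Nat.card C := by rw [hcard]; exact dvd_pow_self 3 M.pos.ne'
  obtain ⟨w, hw, hw1⟩ := hp.exists_fixed_point_of_prime_dvd_card_of_fixed_point C hdvd (a := 1)
    fun z => Subtype.ext (map_one (M.ρ z))
  set Fx : Subgroup V := C ⊓ fixV (M.ρ h)
  have hFx : Fx ≠ ⊥ := fun h0 => hw1 (by
    have hmem : (w : V) ∈ Fx := mem_inf.2 ⟨w.2, mem_fixV.2 (congrArg Subtype.val (hw ⟨h, mem_zpowers h⟩))⟩
    rw [h0, mem_bot] at hmem
    exact (Subtype.ext hmem).symm)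
  have hinv : ∀ c ∈ Fx, M.ρ M.x c ∈ Fx := fun c hc' => by
    obtain ⟨h1, h2⟩ := mem_inf.1 hc'
    exact mem_inf.2 ⟨CK_x hW hK.le h1, mem_fixV.2 (by rw [hc c h1, mem_fixV.1 h2])⟩
  have hge := card_ge_fpf (ξ := M.ρ M.x) (by rw [← map_pow, M.hx, map_one]) M.fpf (orderOf_three M.ord3)
    (M.isPGroup_V.to_subgroup Fx) hinv hFx
  have htop : Fx = C := eq_of_le_of_card_ge inf_le_left (hcard ▸ hge)
  exact fun c hc' => mem_fixV.1 (mem_inf.1 (htop.symm ▸ hc' : c ∈ Fx)).2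

theorem three_core (M : TwoMod Γ V e ℓ) {a m : ℕ} (he : e = 3 ^ a * m) (hm3 : ¬ 3 ∣ m) {g : Γ} {k : ℕ}
    (hg : g ^ 3 ^ k = 1) (hgt : g * M.f ^ m = M.f ^ m * g) {v : V} (hvt : M.ρ (M.f ^ m) v = v)
    (hmove : M.ρ g v ≠ v) : pCore 3 Γ ≠ ⊥ := by
  intro h3
  apply hmove
  haveI := Fact.mk M.prime
  haveI := Fact.mk Nat.prime_three
  haveI := Solv.fittingSubgroup_normal (G := Γ)
  haveI : Group.IsSolvable Γ := Bender.AbelianSolvable.odd_solvable' M.odd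
  set Fi := fittingSubgroup Γ with hFi
  have hcent : Fi ≤ centralizer ({M.x} : Set Γ) := by
    rw [hFi, Solv.fitting_eq_iSup_pCore]
    refine iSup_le fun q => ?_
    haveI := Fact.mk q.2
    by_cases h : (q : ℕ) = 3
    · rw [h, h3]; exact bot_le
    by_cases h' : (q : ℕ) = ℓ
    · rw [h']; exact M.comm_core_ell
    · exact M.comm_core_other h h'
  have hxF : M.x ∈ Fi := Solv.centralizer_fitting_le inferInstance
    (mem_centralizer_iff.2 fun a ha => mem_centralizer_singleton_iff.1 (hcent ha))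
  let W : Subgroup Γ :=
    { carrier := {w | w ∈ Fi ∧ w ^ ℓ = 1 ∧ ∀ c ∈ Fi, w * c = c * w}
      one_mem' := ⟨one_mem _, one_pow _, fun c _ => by rw [one_mul, mul_one]⟩
      mul_mem' := fun {a b} ha hb => ⟨mul_mem ha.1 hb.1,
        by rw [(show Commute a b from ha.2.2 b hb.1).mul_pow, ha.2.1, hb.2.1, one_mul],
        fun c hc => ((show Commute a c from ha.2.2 c hc).mul_left (hb.2.2 c hc)).eq⟩
      inv_mem' := fun {a} ha => ⟨inv_mem ha.1, by rw [inv_pow, ha.2.1, inv_one],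
        fun c hc => ((show Commute a c from ha.2.2 c hc).inv_left).eq⟩ }
  have hW : M.El W := ⟨⟨hxF, M.hx, fun c hc => (mem_centralizer_singleton_iff.1 (hcent hc)).symm⟩,
    fun w hw => hw.2.1, fun a ha b hb => ha.2.2 b hb.1⟩
  have hWn : ∀ g : Γ, g ∈ normalizer (W : Set Γ) := fun g => mem_norm fun w hw => by
    refine ⟨(inferInstance : Fi.Normal).conj_mem w hw.1 g, by rw [conj_pow, hw.2.1, mul_one, mul_inv_cancel],
      fun c hc => ?_⟩
    have hc' : g⁻¹ * c * g ∈ Fi := by simpa using (inferInstance : Fi.Normal).conj_mem c hc g⁻¹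
    calc g * w * g⁻¹ * c = g * (w * (g⁻¹ * c * g)) * g⁻¹ := by group
      _ = g * ((g⁻¹ * c * g) * w) * g⁻¹ := by rw [hw.2.2 _ hc']
      _ = c * (g * w * g⁻¹) := by group
  have hsq : (3 : ℕ) ^ (2 * e) = 3 ^ e * 3 ^ e := by rw [two_mul, pow_add]
  by_cases hone : ∃ K L, M.IsComp W K ∧ M.IsComp W L ∧ K ≠ L
  · -- two components
    obtain ⟨K, L, hK, hL, hne⟩ := hone
    have hinj : Function.Injective ((M.CK K).subtype.coprod (M.CK L).subtype) := by
      rw [injective_iff_map_eq_one]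
      rintro ⟨⟨p, hp⟩, ⟨r, hr⟩⟩ h
      have hpr : p * r = 1 := h
      have hp1 : p = 1 := disjoint_comp hW hK hL hne hp (by rw [eq_inv_of_mul_eq_one_left hpr]; exact inv_mem hr)
      subst hp1
      rw [one_mul] at hpr
      subst hpr
      rfl
    have hle := Nat.card_le_card_of_injective _ hinj
    rw [M.card, Nat.card_prod, hsq] at hle
    have hKge := card_CK hW hK
    have hLge := card_CK hW hL
    have hpos : 0 < (3 : ℕ) ^ e := pow_pos (by norm_num) e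
    have hKc : Nat.card (M.CK K) = 3 ^ e := le_antisymm
      (Nat.le_of_mul_le_mul_right ((Nat.mul_le_mul_left _ hLge).trans hle) hpos) hKge
    have hLc : Nat.card (M.CK L) = 3 ^ e := le_antisymm
      (Nat.le_of_mul_le_mul_left ((Nat.mul_le_mul_right _ hKge).trans hle) hpos) hLge
    obtain ⟨⟨⟨p, hp⟩, ⟨r, hr⟩⟩, hpr⟩ := (Nat.bijective_iff_injective_and_card _).2
      ⟨hinj, by rw [M.card, Nat.card_prod, hKc, hLc, hsq]⟩ |>.2 v
    have hv : p * r = v := hpr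
    have hst : ∀ {A : Subgroup Γ}, M.IsComp W A → ∀ {c : V}, c ∈ M.CK A → M.ρ (M.f ^ m) c ∈ M.CK A :=
      fun {A} hA {c} hc z hz => by
        have hz' : (M.f ^ m)⁻¹ * z * M.f ^ m ∈ A := (stable_of_normalizes hW (hWn (M.f ^ m)⁻¹) hA).le
          (Subgroup.mem_map.2 ⟨z, hz, by show (M.f ^ m)⁻¹ * z * ((M.f ^ m)⁻¹)⁻¹ = _; rw [inv_inv]⟩)
        rw [← M.act_mul, show z * M.f ^ m = M.f ^ m * ((M.f ^ m)⁻¹ * z * M.f ^ m) by group, M.act_mul, hc _ hz']
    have hfix := congrArg (M.ρ (M.f ^ m)) hv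
    rw [map_mul, hvt, ← hv] at hfix
    have heq := hinj (a₁ := (⟨_, hst hK hp⟩, ⟨_, hst hL hr⟩)) (a₂ := (⟨p, hp⟩, ⟨r, hr⟩)) hfix
    have hpf : M.ρ (M.f ^ m) p = p := congrArg (fun z => (z.1 : V)) heq
    have hrf : M.ρ (M.f ^ m) r = r := congrArg (fun z => (z.2 : V)) heq
    rw [← hv, map_mul,
      fix_comp hW hWn he hm3 hg hgt hK (d := 1) (by norm_num) (by rw [one_mul, hKc])
        (fun h i hi hc => small_comp hW hWn hK hKc hi hc) hp hpf,
      fix_comp hW hWn he hm3 hg hgt hL (d := 1) (by norm_num) (by rw [one_mul, hLc])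
        (fun h i hi hc => small_comp hW hWn hL hLc hi hc) hr hrf]
  · -- one component: `W = ⟨x⟩`
    push Not at hone
    obtain ⟨K, hK⟩ : ∃ K, M.IsComp W K := by
      by_contra hex
      have hx1 : M.x = 1 := eq_one_of_fix_all hW hW.mem fun K hK => absurd ⟨K, hK⟩ hex
      have hv1 := M.fpf v (by rw [hx1, map_one]; rfl)
      rw [hv1, map_one] at hmove
      exact hmove rfl
    have hKbot : K = ⊥ := (eq_bot_iff_forall _).2 fun w hw =>
      eq_one_of_fix_all hW (hK.le hw) fun L hL => hone K L hK hL ▸ hw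
    have hCK : M.CK K = ⊤ := eq_top_iff.2 fun c _ z hz => by
      rw [hKbot, mem_bot] at hz
      rw [hz, map_one]; rfl
    refine fix_comp hW hWn he hm3 hg hgt hK (d := 2) (by norm_num) (by rw [hCK, Subgroup.card_top, M.card]) ?_
      (by rw [hCK]; exact mem_top v) hvt
    intro h i hi hc c _
    have hcomm : h * M.x = M.x * h := M.inj (MulEquiv.ext fun d => by
      rw [M.act_mul, M.act_mul]; exact hc d (hCK ▸ mem_top d))
    have h1 : h = 1 := by
      clear hc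
      induction i with
      | zero => simpa using hi
      | succ i ih =>
        refine ih (M.centx (h ^ 3 ^ i) (by rw [← pow_mul, ← pow_succ]; exact hi) ?_)
        exact ((show Commute h M.x from hcomm).pow_left _).eq
    rw [h1, map_one]; rfl

end TwoMod

end Cfsg.Agent.Walter.JR.Res3
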