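import Cfsg.Agent.Lib.Walter.JR.Res3.XBound

/-!
# No element of `C(t)` inverts a non-trivial 3-element of `C(t)`
-/

set_option autoImplicit false
set_option linter.unusedSectionVars false
set_option linter.style.haveILetI false

namespace Cfsg.Agent.Walter.JR.Res3

open Subgroup Cfsg.Agent.Char.ReeThree Cfsg.Agent.Char.ReeOrder Cfsg.Agent.Small

universe u

namespace Cfg

variable {G : Type u} [Group G] [Finite G] {F : Type} [Field F] [Fintype F] (c : Cfg G F)

/-- `K / L` is commutative. -/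
theorem mk_L_comm (a b : c.C.S.K) :
    haveI := c.C.hL
    (a : c.C.S.K ⧸ c.C.L) * (b : c.C.S.K ⧸ c.C.L) = (b : c.C.S.K ⧸ c.C.L) * a := by
  haveI := c.C.hL
  have key : ∀ x : c.C.S.K, ∃ h ∈ c.C.Phi, (x : c.C.S.K ⧸ c.C.L) = (h : c.C.S.K) := by
    intro x
    obtain ⟨⟨⟨l, hl⟩, ⟨h, hh⟩⟩, e⟩ := c.C.compl.2 x
    refine ⟨h, hh, ?_⟩
    rw [← show l * h = x from e, QuotientGroup.mk_mul, (QuotientGroup.eq_one_iff l).2 hl, one_mul]
  obtain ⟨p, hp, ep⟩ := key a
  obtain ⟨r, hr, er⟩ := key b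
  rw [ep, er, ← QuotientGroup.mk_mul, ← QuotientGroup.mk_mul]
  exact congrArg _ (Subtype.ext (c.C.Phi_comm ⟨p, hp, rfl⟩ ⟨r, hr, rfl⟩))

theorem card_L_three : (Nat.card c.C.L).factorization 3 = c.ee := by
  have h := Classical.Dickson.card_psl F
  rw [c.hq] at h
  have hL : Nat.card c.C.L = Nat.card (Matrix.ProjectiveSpecialLinearGroup (Fin 2) F) := Nat.card_congr c.C.iso.toEquiv
  have hg : Nat.gcd 2 (3 ^ c.ee - 1) = 2 := by
    refine Nat.gcd_eq_left (Nat.dvd_sub (?_ : 2 ∣ 3 ^ c.ee + 1) (dvd_refl 2) |>.trans (dvd_of_eq (by omega)))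
    have := Nat.odd_iff.1 ((by decide : Odd 3).pow (n := c.ee))
    omega
  rw [hg, ← hL] at h
  have h1 : 1 ≤ (3 ^ c.ee) ^ 2 := Nat.one_le_pow _ _ (pow_pos (by norm_num) _)
  have hpos : 0 < (3 ^ c.ee) ^ 2 - 1 := by
    have : 3 ≤ 3 ^ c.ee := Nat.le_self_pow c.ee_pos.ne' 3
    have : 9 ≤ (3 ^ c.ee) ^ 2 := by nlinarith
    omega
  have h3 : ¬ 3 ∣ (3 ^ c.ee) ^ 2 - 1 := fun hd => by
    have h2 : 3 ∣ (3 ^ c.ee) ^ 2 := dvd_pow (dvd_pow_self 3 c.ee_pos.ne') two_ne_zero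
    omega
  have e := congrArg (fun n : ℕ => n.factorization 3) h
  rw [Nat.factorization_mul Nat.card_pos.ne' two_ne_zero, Nat.factorization_mul (pow_ne_zero _ three_ne_zero) hpos.ne',
    Finsupp.add_apply, Finsupp.add_apply, Nat.factorization_eq_zero_of_not_dvd (show ¬ 3 ∣ 2 by norm_num),
    Nat.factorization_eq_zero_of_not_dvd h3, Nat.Prime.factorization_pow Nat.prime_three, Finsupp.single_eq_same] at e
  simpa using e

/-- No element of `C(t)` inverts a non-trivial 3-element of `C(t)`. -/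
theorem three_inverted {w g : G} {k : ℕ} (hw : w ^ 3 ^ k = 1) (hwt : w * c.t = c.t * w) (hgt : g * c.t = c.t * g)
    (h : g * w * g⁻¹ = w⁻¹) : w = 1 := by
  classical
  haveI := Fact.mk Nat.prime_three
  haveI := c.C.hL
  have hwo : Odd (orderOf w) := Odd.of_dvd_nat (Odd.pow (by decide)) (orderOf_dvd_of_pow_eq_one hw)
  have hwK := c.odd_mem_K hwt hwo
  -- we may suppose that `g` lies in `K`
  wlog hgK : g ∈ c.C.S.K generalizing g
  · have hg' : c.C.S.t * g ∈ c.C.S.K := (c.C.S.split (c.C.S.mem_C.2 hgt)).resolve_left hgK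
    refine this (c.C.S.comm_t hg') ?_ hg'
    rw [show c.C.S.t * g * w * (c.C.S.t * g)⁻¹ = c.t * (g * w * g⁻¹) * c.t⁻¹ by group, h,
      ← (show Commute w c.t from hwt).inv_left.eq, mul_inv_cancel_right]
  -- `w` lies in `L`
  set wK : c.C.S.K := ⟨w, hwK⟩
  have hwL : wK ∈ c.C.L := by
    rw [← QuotientGroup.eq_one_iff]
    have e : (⟨g, hgK⟩ : c.C.S.K) * wK * (⟨g, hgK⟩ : c.C.S.K)⁻¹ = wK⁻¹ := Subtype.ext h
    have e' := congrArg (fun z : c.C.S.K => (z : c.C.S.K ⧸ c.C.L)) e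
    simp only [QuotientGroup.mk_mul, QuotientGroup.mk_inv] at e'
    rw [c.mk_L_comm, mul_inv_cancel_right] at e'
    rw [← orderOf_eq_one_iff]
    refine Nat.eq_one_of_dvd_coprimes hwo.coprime_two_left
      (orderOf_dvd_of_pow_eq_one (by rw [pow_two]; nth_rw 1 [e']; exact inv_mul_cancel _)) ?_
    exact (orderOf_map_dvd (QuotientGroup.mk' c.C.L) wK).trans (dvd_of_eq (Subgroup.orderOf_mk w hwK))
  -- it is conjugate into `U`
  set l : c.C.L := ⟨wK, hwL⟩ with hl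
  let ι : Multiplicative F →* c.C.L :=
    MonoidHom.mk' (fun v => c.C.iso.symm (PSL2.pr (PSL2.uS v.toAdd))) fun a b => by
      rw [← map_mul, ← map_mul, toAdd_mul, PSL2.uS_add]
  have hι : ∀ v : F, c.C.embL (ι (Multiplicative.ofAdd v)) = c.u v := fun v => rfl
  have hinj : Function.Injective ι := fun a b e => by
    have := congrArg c.C.embL e
    rw [← ofAdd_toAdd a, ← ofAdd_toAdd b, hι, hι] at this
    rw [← ofAdd_toAdd a, ← ofAdd_toAdd b, c.u_inj this]
  have hcard : Nat.card ι.range = 3 ^ (Nat.card c.C.L).factorization 3 := by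
    rw [Nat.card_congr (MonoidHom.ofInjective hinj).toEquiv.symm, c.card_L_three, ← c.hq,
      ← Nat.card_eq_fintype_card]
    exact Nat.card_congr Multiplicative.toAdd
  obtain ⟨P, hP⟩ := (IsPGroup.of_card (p := 3) (G := zpowers l) (n := (orderOf l).factorization 3) (by
    rw [Nat.card_zpowers]
    obtain ⟨i, -, hi⟩ := (Nat.dvd_prime_pow Nat.prime_three).1
      (orderOf_dvd_of_pow_eq_one (x := l) (n := 3 ^ k) (Subtype.ext (Subtype.ext (by simpa using hw))))
    rw [hi, Nat.Prime.factorization_pow Nat.prime_three, Finsupp.single_eq_same])).exists_le_sylow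
  obtain ⟨y, hy⟩ := MulAction.exists_smul_eq c.C.L P (Sylow.ofCard ι.range hcard)
  obtain ⟨v, hv⟩ : y * l * y⁻¹ ∈ ι.range := by
    have hm : y * l * y⁻¹ ∈ ((y • P : Sylow 3 c.C.L) : Subgroup c.C.L) := by
      rw [Sylow.coe_subgroup_smul]; exact ⟨l, hP (mem_zpowers l), rfl⟩
    rwa [hy] at hm
  have hu : c.u v.toAdd = c.C.embL y * w * (c.C.embL y)⁻¹ := by
    rw [← hι, ofAdd_toAdd, hv, map_mul, map_mul, map_inv]
    rfl
  have hv0 : v.toAdd = 0 := by
    by_contra hv0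
    refine c.no_invert (g := c.C.embL y * g * (c.C.embL y)⁻¹) ?_ hv0 ?_
    · have hy' : Commute (c.C.embL y) c.t := c.C.embL_t y
      exact ((hy'.mul_left (show Commute g c.t from hgt)).mul_left hy'.inv_left).eq
    · rw [hu, show c.C.embL y * g * (c.C.embL y)⁻¹ * (c.C.embL y * w * (c.C.embL y)⁻¹) *
          (c.C.embL y * g * (c.C.embL y)⁻¹)⁻¹ = c.C.embL y * (g * w * g⁻¹) * (c.C.embL y)⁻¹ by group, h]
      group
  rw [hv0, c.u_zero, eq_comm, conj_eq_one_iff] at hu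
  exact hu

end Cfg

end Cfsg.Agent.Walter.JR.Res3
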