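import Cfsg.Agent.Lib.Walter.JR.Res3.FrobMod

/-!
# Sections and the automorphisms induced by normalising elements
-/

set_option autoImplicit false
set_option linter.unusedSectionVars false
set_option linter.style.haveILetI false

namespace Cfsg.Agent.Walter.JR.Res3

open Subgroup

universe u

/-- An element normalising `M` and `N` with `N` normal in `M`, as data. -/
structure SecPair (G : Type u) [Group G] where
  N : Subgroup G
  M : Subgroup G
  le : N ≤ M
  nrm : M ≤ normalizer (N : Set G)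
  comm : ∀ a ∈ M, ∀ b ∈ M, a * b * a⁻¹ * b⁻¹ ∈ N

namespace SecPair

variable {G : Type u} [Group G] [Finite G] (P : SecPair G)

instance normalN : (P.N.subgroupOf P.M).Normal :=
  ⟨fun a ha g => mem_subgroupOf.2 ((mem_normalizer_iff.1 (P.nrm g.2) _).1 (mem_subgroupOf.1 ha))⟩

/-- The section. -/
abbrev Q : Type u := P.M ⧸ P.N.subgroupOf P.M

noncomputable instance commQ : CommGroup P.Q :=
  { (inferInstance : Group P.Q) with
    mul_comm := fun a b => by
      obtain ⟨a, rfl⟩ := QuotientGroup.mk_surjective a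
      obtain ⟨b, rfl⟩ := QuotientGroup.mk_surjective b
      rw [← QuotientGroup.mk_mul, ← QuotientGroup.mk_mul, QuotientGroup.eq, mem_subgroupOf]
      show ((a : G) * b)⁻¹ * ((b : G) * a) ∈ P.N
      have := P.comm _ (inv_mem b.2) _ (inv_mem a.2)
      simpa [mul_assoc] using this }

theorem mk_one (m : P.M) : (m : P.Q) = 1 ↔ (m : G) ∈ P.N :=
  (QuotientGroup.eq_one_iff m).trans mem_subgroupOf

theorem mk_eq (a b : P.M) : (a : P.Q) = b ↔ (a : G) * (b : G)⁻¹ ∈ P.N := by
  rw [← mul_inv_eq_one, ← QuotientGroup.mk_inv, ← QuotientGroup.mk_mul, P.mk_one]; rfl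

/-- The normalising elements. -/
def nrmG : Subgroup G := normalizer (P.M : Set G) ⊓ normalizer (P.N : Set G)

theorem mem_nrmG {g : G} : g ∈ P.nrmG ↔ g ∈ normalizer (P.M : Set G) ∧ g ∈ normalizer (P.N : Set G) :=
  Subgroup.mem_inf

/-- Conjugation on the section. -/
noncomputable def aut : P.nrmG →* MulAut P.Q where
  toFun g := QuotientGroup.congr _ _
    ({ toFun := fun m => ⟨g * m * (g : G)⁻¹, (mem_normalizer_iff.1 (P.mem_nrmG.1 g.2).1 _).1 m.2⟩
       invFun := fun m => ⟨(g : G)⁻¹ * m * g, by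
         have := (mem_normalizer_iff.1 (inv_mem (P.mem_nrmG.1 g.2).1) (m : G)).1 m.2
         rwa [inv_inv] at this⟩
       left_inv := fun m => Subtype.ext (by simp [mul_assoc])
       right_inv := fun m => Subtype.ext (by simp [mul_assoc])
       map_mul' := fun a b => Subtype.ext (by simp [mul_assoc]) } : MulAut P.M) (by
      refine eq_of_le_of_card_ge ?_ (le_of_eq (card_map_of_injective (MulEquiv.injective _)).symm)
      rintro _ ⟨m, hm, rfl⟩
      exact mem_subgroupOf.2 ((mem_normalizer_iff.1 (P.mem_nrmG.1 g.2).2 _).1 (mem_subgroupOf.1 hm)))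
  map_one' := MulEquiv.ext fun v => by
    obtain ⟨m, rfl⟩ := QuotientGroup.mk_surjective v
    exact congrArg QuotientGroup.mk (Subtype.ext (by simp))
  map_mul' g h := MulEquiv.ext fun v => by
    obtain ⟨m, rfl⟩ := QuotientGroup.mk_surjective v
    exact congrArg QuotientGroup.mk (Subtype.ext (by simp [mul_assoc]))

theorem aut_mk (g : P.nrmG) (m : P.M) : P.aut g (m : P.Q) =
    ((⟨g * m * (g : G)⁻¹, (mem_normalizer_iff.1 (P.mem_nrmG.1 g.2).1 _).1 m.2⟩ : P.M) : P.Q) := rfl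

theorem aut_fix {g : P.nrmG} {m : P.M} :
    P.aut g (m : P.Q) = m ↔ (g : G) * m * (g : G)⁻¹ * (m : G)⁻¹ ∈ P.N := by
  rw [P.aut_mk, P.mk_eq]

theorem isPGroup {p : ℕ} (h : IsPGroup p P.M) : IsPGroup p P.Q := h.to_quotient _

theorem card_eq : Nat.card P.M = Nat.card P.Q * Nat.card P.N := by
  rw [Subgroup.card_eq_card_quotient_mul_card_subgroup (P.N.subgroupOf P.M),
    Nat.card_congr (subgroupOfEquivOfLe P.le).toEquiv]

theorem nontrivial (h : ¬ P.M ≤ P.N) : Nontrivial P.Q := by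
  obtain ⟨m, hm, hmN⟩ := SetLike.not_le_iff_exists.1 h
  exact ⟨(⟨m, hm⟩ : P.M), 1, fun e => hmN ((P.mk_one _).1 e)⟩

/-- An element of order prime to the 3-group `M` whose centraliser meets `M` in `N` has no fixed point. -/
theorem fpf {p : ℕ} [Fact p.Prime] (h3 : IsPGroup p P.M) {y : P.nrmG} {l : ℕ} (hl : l.Prime) (hlp : l ≠ p)
    (hy : (y : G) ^ l = 1) (hc : ∀ m ∈ P.M, m * (y : G) = y * m → m ∈ P.N) (v : P.Q) (hv : P.aut y v = v) : v = 1 := by
  classical
  obtain ⟨m, rfl⟩ := QuotientGroup.mk_surjective v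
  by_contra hv1
  rw [P.mk_one] at hv1
  rw [P.aut_fix] at hv
  let Co := {n : P.M // (n : G) * (m : G)⁻¹ ∈ P.N}
  let c0 : ∀ n : Co, Co := fun n =>
    ⟨⟨(y : G) * n.1 * (y : G)⁻¹, (mem_normalizer_iff.1 (P.mem_nrmG.1 y.2).1 _).1 n.1.2⟩, by
      show (y : G) * n.1 * (y : G)⁻¹ * (m : G)⁻¹ ∈ P.N
      rw [show (y : G) * n.1 * (y : G)⁻¹ * (m : G)⁻¹ = (y : G) * ((n.1 : G) * (m : G)⁻¹) * (y : G)⁻¹ *
        ((y : G) * m * (y : G)⁻¹ * (m : G)⁻¹) by group]
      exact mul_mem ((mem_normalizer_iff.1 (P.mem_nrmG.1 y.2).2 _).1 n.2) hv⟩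
  let p0 : Equiv.Perm Co := Equiv.ofBijective c0 ((Finite.injective_iff_bijective).1 fun a b h =>
    Subtype.ext (Subtype.ext (by
      have := congrArg (fun z : Co => ((z.1 : P.M) : G)) h
      simpa [c0] using this)))
  have hp : ∀ (k : ℕ) (n : Co), (((p0 ^ k) n).1 : G) = (y : G) ^ k * n.1 * ((y : G) ^ k)⁻¹ := by
    intro k
    induction k with
    | zero => intro n; simp
    | succ k ih =>
      intro n
      rw [pow_succ', Equiv.Perm.mul_apply]
      show (y : G) * (((p0 ^ k) n).1 : G) * (y : G)⁻¹ = _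
      rw [ih, pow_succ']; group
  have hpl : p0 ^ l = 1 := Equiv.ext fun n => Subtype.ext (Subtype.ext (by rw [hp, hy]; simp))
  have hcard : Nat.card Co = Nat.card P.N := Nat.card_congr
    { toFun := fun n => ⟨(n.1 : G) * (m : G)⁻¹, n.2⟩
      invFun := fun k => ⟨⟨(k : G) * m, mul_mem (P.le k.2) m.2⟩, by simp⟩
      left_inv := fun n => Subtype.ext (Subtype.ext (by simp))
      right_inv := fun k => Subtype.ext (by simp) }
  obtain ⟨j, hj⟩ := IsPGroup.iff_card.1 (h3.to_le P.le)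
  haveI := Fact.mk hl
  have hnd : ¬ l ∣ Nat.card Co := by
    rw [hcard, hj]
    exact fun h => hlp ((Nat.prime_dvd_prime_iff_eq hl Fact.out).1 (hl.dvd_of_dvd_pow h))
  haveI := Fintype.ofFinite Co
  obtain ⟨n, hn⟩ := Equiv.Perm.exists_fixed_point_of_prime (p := l) (n := 1) (by rwa [← Nat.card_eq_fintype_card])
    (σ := p0) (by rw [pow_one, hpl])
  have hnx : (n.1 : G) * y = y * n.1 := by
    have := congrArg (fun z : Co => ((z.1 : P.M) : G)) hn
    exact (mul_inv_eq_iff_eq_mul.1 this).symm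
  apply hv1
  have := mul_mem (inv_mem n.2) (hc _ n.1.2 hnx)
  simpa using this

/-- The preimage of the fixed points. -/
noncomputable def fixPre (g : P.nrmG) : Subgroup G :=
  ((fixV (P.aut g)).comap (QuotientGroup.mk' (P.N.subgroupOf P.M))).map P.M.subtype

theorem mem_fixPre {g : P.nrmG} {m : G} :
    m ∈ P.fixPre g ↔ m ∈ P.M ∧ (g : G) * m * (g : G)⁻¹ * m⁻¹ ∈ P.N := by
  constructor
  · rintro ⟨a, ha, rfl⟩
    exact ⟨a.2, P.aut_fix.1 (mem_fixV.1 (mem_comap.1 ha))⟩
  · rintro ⟨hm, h⟩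
    exact ⟨⟨m, hm⟩, mem_comap.2 (mem_fixV.2 (P.aut_fix.2 h)), rfl⟩

theorem fixPre_le (g : P.nrmG) : P.fixPre g ≤ P.M := map_subtype_le _

theorem le_fixPre (g : P.nrmG) : P.N ≤ P.fixPre g := fun m hm => P.mem_fixPre.2 ⟨P.le hm,
  mul_mem ((mem_normalizer_iff.1 (P.mem_nrmG.1 g.2).2 _).1 hm) (inv_mem hm)⟩

theorem card_fixPre (g : P.nrmG) : Nat.card (P.fixPre g) = Nat.card (fixV (P.aut g)) * Nat.card P.N := by
  rw [fixPre, card_map_of_injective P.M.subtype_injective]
  set K := (fixV (P.aut g)).comap (QuotientGroup.mk' (P.N.subgroupOf P.M))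
  have h1 := K.card_mul_index
  rw [Subgroup.index_comap_of_surjective _ (QuotientGroup.mk'_surjective _), P.card_eq,
    ← (fixV (P.aut g)).card_mul_index] at h1
  exact Nat.eq_of_mul_eq_mul_right (Nat.pos_of_ne_zero Subgroup.index_ne_zero_of_finite) (h1.trans (by ring))

end SecPair

end Cfsg.Agent.Walter.JR.Res3
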