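import Cfsg.Agent.Lib.Walter.JR.Res3.CentX
import Cfsg.Agent.Lib.Walter.JR.Res3.Sec

/-!
# Free layers

A layer is a section `M / N` of a 3-group, elementary of order `q`, on which `⟨x⟩ Φ` is a Frobenius group.
-/

set_option autoImplicit false
set_option linter.unusedSectionVars false
set_option linter.style.haveILetI false

namespace Cfsg.Agent.Walter.JR.Res3

open Subgroup Cfsg.Agent.Char.ReeThree Cfsg.Agent.Char.ReeOrder Cfsg.Agent.Small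

universe u

namespace Cfg

variable {G : Type u} [Group G] [Finite G] {F : Type} [Field F] [Fintype F] (c : Cfg G F)

/-- `f ^ k` fixes `b0` iff `n ∣ k` gives the automorphism `μ` of order `n`. -/
theorem exists_mu {b0 : Fˣ} {l : ℕ} (hl : l.Prime) (hb : orderOf b0 = l) {n : ℕ}
    (hn : ∀ k : ℕ, c.sig (c.f ^ k) (b0 : F) = b0 ↔ n ∣ k) :
    ∃ μ : ℕ, c.f * c.d b0 * c.f⁻¹ = c.d b0 ^ μ ∧ orderOf (μ : ZMod l) = n := by
  classical
  haveI := Fact.mk hl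
  set b1 := Units.map (c.sig c.f : F →* F) b0 with hb1
  obtain ⟨μ, hμ⟩ : ∃ μ : ℕ, b0 ^ μ = b1 := by
    have h1 : b1 ^ l = 1 := by rw [hb1, ← map_pow, ← hb, pow_orderOf_eq_one, map_one]
    have hle : (zpowers b0 : Set Fˣ) ⊆ {y | y ^ l = 1} := by
      rintro _ ⟨i, rfl⟩
      show (b0 ^ i) ^ l = 1
      rw [← zpow_natCast, ← zpow_mul, mul_comm, zpow_mul, zpow_natCast, ← hb, pow_orderOf_eq_one, one_zpow]
    have hcard : ({y : Fˣ | y ^ l = 1}).ncard ≤ l := by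
      rw [Set.ncard_eq_toFinset_card', Set.toFinset_ofFinset]
      exact IsCyclic.card_pow_eq_one_le hl.pos
    have := Set.eq_of_subset_of_ncard_le hle (by
      rw [← Nat.card_coe_set_eq ((zpowers b0 : Set Fˣ)), SetLike.coe_sort_coe, Nat.card_zpowers, hb]; exact hcard)
    exact mem_powers_iff_mem_zpowers.2 (this.ge h1)
  have hit : ∀ k : ℕ, c.sig (c.f ^ k) (b0 : F) = (b0 : F) ^ μ ^ k := by
    intro k
    induction k with
    | zero => rw [c.sig_pow c.f_mem, pow_zero, pow_zero, pow_one]; rfl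
    | succ k ih =>
      rw [pow_succ, c.sig_mul (pow_mem c.f_mem _) c.f_mem]
      show c.sig (c.f ^ k) (c.sig c.f (b0 : F)) = _
      rw [show c.sig c.f (b0 : F) = (b0 : F) ^ μ by
        rw [← Units.val_pow_eq_pow_val, hμ, hb1]; rfl, map_pow, ih, ← pow_mul, ← pow_succ]
  refine ⟨μ, by rw [c.conj_d c.f_mem, ← hb1, ← hμ, c.d_pow], ?_⟩
  have hiff : ∀ k : ℕ, (μ : ZMod l) ^ k = 1 ↔ n ∣ k := fun k => by
    rw [← hn k, hit]
    constructor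
    · intro h
      rw [← Units.val_pow_eq_pow_val]
      congr 1
      have h' : (μ ^ k : ℕ) ≡ 1 [MOD l] := by rw [← ZMod.natCast_eq_natCast_iff]; push_cast; exact h
      calc b0 ^ μ ^ k = b0 ^ 1 := pow_eq_pow_iff_modEq.2 (hb ▸ h')
        _ = b0 := pow_one b0
    · intro h
      have h1 : b0 ^ μ ^ k = b0 ^ 1 := Units.ext (by rw [Units.val_pow_eq_pow_val, h, pow_one])
      have h2 := pow_eq_pow_iff_modEq.1 h1
      rw [hb, ← ZMod.natCast_eq_natCast_iff] at h2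
      push_cast at h2
      exact h2
  refine Nat.dvd_antisymm ((orderOf_dvd_iff_pow_eq_one).2 ((hiff n).2 dvd_rfl)) ((hiff _).1 (pow_orderOf_eq_one _))

theorem fix_a_iff (k : ℕ) : c.sig (c.f ^ k) (c.a : F) = c.a ↔ c.ee ∣ k := by
  refine ⟨fun h => c.f_pow_eq_one.1 (c.sig_inj (pow_mem c.f_mem k) (c.sig_a h)), fun h => ?_⟩
  rw [c.f_pow_eq_one.2 h, ← pow_zero c.f, c.sig_pow c.f_mem, pow_zero]; rfl

theorem x_three [IsSimpleGroup G] {g : G} {k : ℕ} (hk : g ^ 3 ^ k = 1) (hgx : g * c.x = c.x * g) : g = 1 := by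
  rw [← orderOf_eq_one_iff]
  obtain ⟨i, -, hi⟩ := (Nat.dvd_prime_pow Nat.prime_three).1 (orderOf_dvd_of_pow_eq_one hk)
  rw [hi]
  rcases i with _ | i
  · rfl
  · exfalso
    refine c.centx_three ((dvd_pow_self 3 (Nat.succ_ne_zero i)).trans ?_)
    rw [← hi]
    exact c.CX.orderOf_dvd_natCard (mem_centralizer_singleton_iff.2 hgx)

/-- The Frobenius action of `⟨x⟩ Φ` on a section of a 3-group. -/
theorem frob_sec [IsSimpleGroup G] (P : SecPair G) (h3 : IsPGroup 3 P.M) (hf : c.f ∈ P.nrmG) (hx : c.x ∈ P.nrmG) :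
    FrobAct (P.aut ⟨c.f, hf⟩) (P.aut ⟨c.x, hx⟩) c.ell c.ee := by
  haveI := Fact.mk Nat.prime_three
  obtain ⟨μ, hμ, hμo⟩ := c.exists_mu c.hl c.ha c.fix_a_iff
  refine ⟨c.hl, ?_, P.fpf h3 c.hl c.l3 c.x_pow fun m hm hc => ?_, ?_, c.ee_pos, μ, ?_, hμo⟩
  · rw [← map_pow, show (⟨c.x, hx⟩ : P.nrmG) ^ c.ell = 1 from Subtype.ext c.x_pow, map_one]
  · obtain ⟨k, hk⟩ := h3 ⟨m, hm⟩
    have h1 := c.x_three (g := m) (congrArg Subtype.val hk) hc
    rw [h1]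
    exact one_mem _
  · rw [← map_pow, show (⟨c.f, hf⟩ : P.nrmG) ^ c.ee = 1 from Subtype.ext c.pow_f, map_one]
  · rw [← map_pow, ← map_inv, ← map_mul, ← map_mul]
    exact congrArg _ (Subtype.ext hμ)

/-- `M / N` is a free layer. -/
structure Lay (N M : Subgroup G) : Prop where
  le : N ≤ M
  fN : c.f ∈ normalizer (N : Set G)
  fM : c.f ∈ normalizer (M : Set G)
  nrm : M ≤ normalizer (N : Set G)
  cube : ∀ m ∈ M, m ^ 3 ∈ N
  comm : ∀ a ∈ M, ∀ b ∈ M, a * b * a⁻¹ * b⁻¹ ∈ N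
  card : Nat.card M = 3 ^ c.ee * Nat.card N
  /-- an element of minimal order outside the layer is moved into the next step -/
  conj : ∀ i : ℕ, ∀ z ∈ M, (z * c.f ^ i) ^ orderOf (c.f ^ i) ∈ N →
    ∃ w ∈ M, w * (z * c.f ^ i) * w⁻¹ * (c.f ^ i)⁻¹ ∈ N
  /-- the fixed points of the powers of `τ` -/
  fixtau : ∀ v : ℕ, 3 ^ v ∣ c.t3 → ∃ K : Subgroup G, N ≤ K ∧ K ≤ M ∧ Nat.card K = 3 ^ (c.mm * 3 ^ v) * Nat.card N ∧
    ∀ m ∈ M, (m ∈ K ↔ c.tau ^ 3 ^ v * m * (c.tau ^ 3 ^ v)⁻¹ * m⁻¹ ∈ N)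
  /-- the fixed points of `f` -/
  fixf : ∃ K : Subgroup G, N ≤ K ∧ K ≤ M ∧ Nat.card K = 3 * Nat.card N ∧
    ∀ m ∈ M, (m ∈ K ↔ c.f * m * c.f⁻¹ * m⁻¹ ∈ N)

/-- A section of a 3-group normalised by `x` and `f` with at most three fixed points of `f` is a free layer. -/
theorem Lay.of_fpf [IsSimpleGroup G] {N M T : Subgroup G} (hNM : N ≤ M) (hne : ¬ M ≤ N) (h3 : IsPGroup 3 M)
    (hn : M ≤ normalizer (N : Set G)) (hfN : c.f ∈ normalizer (N : Set G)) (hfM : c.f ∈ normalizer (M : Set G))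
    (hxN : c.x ∈ normalizer (N : Set G)) (hxM : c.x ∈ normalizer (M : Set G))
    (hcomm : ∀ a ∈ M, ∀ b ∈ M, a * b * a⁻¹ * b⁻¹ ∈ N)
    (hT : ∀ m ∈ M, c.f * m * c.f⁻¹ * m⁻¹ ∈ N → m ∈ T) (hTcard : Nat.card T ≤ 3 * Nat.card N) :
    c.Lay N M := by
  classical
  haveI := Fact.mk Nat.prime_three
  obtain ⟨P, rfl, rfl⟩ : ∃ P : SecPair G, P.N = N ∧ P.M = M := ⟨⟨N, M, hNM, hn, hcomm⟩, rfl, rfl⟩
  have hf : c.f ∈ P.nrmG := P.mem_nrmG.2 ⟨hfM, hfN⟩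
  have hx : c.x ∈ P.nrmG := P.mem_nrmG.2 ⟨hxM, hxN⟩
  have hF := c.frob_sec P h3 hf hx
  haveI := P.nontrivial hne
  have hfix : Nat.card (fixV (P.aut ⟨c.f, hf⟩)) ≤ 3 := by
    have h1 : Nat.card (P.fixPre ⟨c.f, hf⟩) ≤ Nat.card T := card_le_of_le fun m hm =>
      hT m (P.mem_fixPre.1 hm).1 (P.mem_fixPre.1 hm).2
    rw [P.card_fixPre] at h1
    exact Nat.le_of_mul_le_mul_right (h1.trans hTcard) Nat.card_pos
  have h3Q := P.isPGroup h3
  have hcube := hF.cube h3Q c.l3 hfix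
  have hcardQ := hF.card_top c.ord3 hcube hfix
  have hcard : Nat.card P.M = 3 ^ c.ee * Nat.card P.N := by rw [P.card_eq, hcardQ]
  have hpow : ∀ k : ℕ, P.aut (⟨c.f, hf⟩ ^ k) = P.aut ⟨c.f, hf⟩ ^ k := fun k => map_pow _ _ _
  refine ⟨hNM, hfN, hfM, hn, fun m hm => ?_, hcomm, hcard, ?_, ?_, ?_⟩
  · exact (P.mk_one (⟨m, hm⟩ ^ 3)).1 (by rw [QuotientGroup.mk_pow]; exact hcube _)
  · intro i z hz hzn
    have hFi := hF.pow i
    have hoi : orderOf (c.f ^ i) = c.ee / Nat.gcd c.ee i := by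
      rcases Nat.eq_zero_or_pos i with rfl | hi
      · simp [Nat.div_self c.ee_pos]
      · rw [orderOf_pow' _ hi.ne', c.ord_f]
    rw [← hoi] at hFi
    set n' := orderOf (c.f ^ i)
    have hprod : ∀ n : ℕ, ∀ h : (z * c.f ^ i) ^ n * ((c.f ^ i) ^ n)⁻¹ ∈ P.M,
        ((⟨_, h⟩ : P.M) : P.Q) = fnorm (P.aut ⟨c.f, hf⟩ ^ i) n ((⟨z, hz⟩ : P.M) : P.Q) := by
      intro n
      induction n with
      | zero => intro h; simp [P.mk_one, fnorm_apply, one_mem]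
      | succ n ih =>
        intro h
        have hn' : (z * c.f ^ i) ^ n * ((c.f ^ i) ^ n)⁻¹ ∈ P.M := by
          have e : (z * c.f ^ i) ^ n * ((c.f ^ i) ^ n)⁻¹ = (z * c.f ^ i) ^ (n + 1) * ((c.f ^ i) ^ (n + 1))⁻¹ *
              ((c.f ^ i) ^ n * z * ((c.f ^ i) ^ n)⁻¹)⁻¹ := by rw [pow_succ, pow_succ]; group
          rw [e]
          exact mul_mem h (inv_mem ((mem_normalizer_iff.1 (pow_mem (pow_mem hfM i) n) z).1 hz))
        rw [fnorm_apply, Finset.prod_range_succ, ← fnorm_apply, ← ih hn', ← pow_mul (P.aut ⟨c.f, hf⟩), ← hpow, P.aut_mk,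
          ← QuotientGroup.mk_mul]
        refine congrArg _ (Subtype.ext ?_)
        show (z * c.f ^ i) ^ (n + 1) * ((c.f ^ i) ^ (n + 1))⁻¹ =
          (z * c.f ^ i) ^ n * ((c.f ^ i) ^ n)⁻¹ * (c.f ^ (i * n) * z * (c.f ^ (i * n))⁻¹)
        rw [pow_mul, pow_succ, pow_succ]; group
    have he : ((c.f ^ i) ^ n')⁻¹ = 1 := by rw [pow_orderOf_eq_one, inv_one]
    have hmem : (z * c.f ^ i) ^ n' * ((c.f ^ i) ^ n')⁻¹ ∈ P.M := by rw [he, mul_one]; exact hNM hzn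
    obtain ⟨v, hv⟩ := hFi.exists_comm (v := ((⟨z, hz⟩ : P.M) : P.Q)) (by
      rw [← hprod n' hmem, P.mk_one]
      show (z * c.f ^ i) ^ n' * _ ∈ P.N
      rw [he, mul_one]; exact hzn)
    obtain ⟨w, rfl⟩ := QuotientGroup.mk_surjective v
    rw [← hpow, P.aut_mk, ← QuotientGroup.mk_inv, ← QuotientGroup.mk_mul] at hv
    refine ⟨w, w.2, ?_⟩
    set b : P.M := ⟨c.f ^ i * (w : G) * (c.f ^ i)⁻¹, (mem_normalizer_iff.1 (pow_mem hfM i) _).1 w.2⟩ with hb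
    have hv' : ((⟨z, hz⟩ : P.M) : P.Q) = ((b * w⁻¹ : P.M) : P.Q) := hv.symm
    have h1 : ((w * ⟨z, hz⟩ * b⁻¹ : P.M) : P.Q) = 1 := by
      rw [QuotientGroup.mk_mul, QuotientGroup.mk_mul, hv', QuotientGroup.mk_mul, QuotientGroup.mk_inv,
        QuotientGroup.mk_inv]
      generalize (w : P.Q) = p
      generalize (b : P.Q) = q
      rw [mul_left_comm, mul_inv_cancel, mul_one, mul_inv_cancel]
    rw [P.mk_one] at h1
    have h2 : (w : G) * (z * c.f ^ i) * (w : G)⁻¹ * (c.f ^ i)⁻¹ =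
        (w : G) * z * (c.f ^ i * (w : G) * (c.f ^ i)⁻¹)⁻¹ := by group
    rw [h2]
    exact h1
  · intro v hv
    have ht : c.tau ^ 3 ^ v = c.f ^ (c.mm * 3 ^ v) := by rw [tau, ← pow_mul]
    set g : P.nrmG := ⟨c.f, hf⟩ ^ (c.mm * 3 ^ v)
    refine ⟨P.fixPre g, P.le_fixPre g, P.fixPre_le g, ?_, fun m hm => ?_⟩
    · obtain ⟨j, hj⟩ : ∃ j, c.t3 = 3 ^ j := ⟨_, rfl⟩
      have hvj : v ≤ j := (Nat.pow_dvd_pow_iff_le_right (by norm_num)).1 (hj ▸ hv)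
      have hFv := hF.pow (c.mm * 3 ^ v)
      have hdiv : c.ee / Nat.gcd c.ee (c.mm * 3 ^ v) = 3 ^ (j - v) := by
        rw [← c.t3_mul_mm, hj, show 3 ^ j * c.mm = c.mm * 3 ^ j by ring, Nat.gcd_mul_left,
          Nat.gcd_eq_right (pow_dvd_pow 3 hvj), Nat.mul_div_mul_left _ _ c.mm_pos,
          Nat.pow_div hvj (by norm_num)]
      rw [hdiv, ← hpow] at hFv
      have h2 := FrobAct.card_pow hcube hFv
      rw [hcardQ, show c.ee = c.mm * 3 ^ v * 3 ^ (j - v) by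
        rw [mul_assoc, ← pow_add, Nat.add_sub_cancel' hvj, ← hj, mul_comm, c.t3_mul_mm], pow_mul] at h2
      rw [P.card_fixPre, ← Nat.pow_left_injective (pow_pos (by norm_num) _).ne' h2]
    · rw [P.mem_fixPre, ht]
      exact ⟨fun h => by simpa [g] using h.2, fun h => ⟨hm, by simpa [g] using h⟩⟩
  · refine ⟨P.fixPre ⟨c.f, hf⟩, P.le_fixPre _, P.fixPre_le _, ?_, fun m hm => ?_⟩
    · rw [P.card_fixPre]
      congr 1
      refine le_antisymm hfix ?_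
      obtain ⟨v, hv1, hv⟩ := hF.exists_fix h3Q (Ne.symm c.l3)
      rw [← orderOf_eq_prime (hcube v) hv1]
      exact Nat.le_of_dvd Nat.card_pos (Subgroup.orderOf_dvd_natCard _ (mem_fixV.2 hv))
    · rw [P.mem_fixPre]
      exact ⟨fun h => h.2, fun h => ⟨hm, h⟩⟩

end Cfg

end Cfsg.Agent.Walter.JR.Res3
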