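import Cfsg.Agent.Lib.Walter.JR.Res3.UGroup

/-!
# `C(U₁) ∩ C(τ)`

`U₁ = C_U(τ)` of order `q₁ = 3 ^ m`.  A 3-subgroup of `C(U₁) ∩ C(τ)` has order at most `|τ| q₁ ^ 2`; hence an
abelian 3-subgroup of `C(τ)` is smaller than a Sylow subgroup.
-/

set_option autoImplicit false
set_option linter.unusedSectionVars false
set_option linter.style.haveILetI false

namespace Cfsg.Agent.Walter.JR.Res3

open Subgroup Cfsg.Agent.Char.ReeThree Cfsg.Agent.Char.ReeOrder Cfsg.Agent.Small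

universe u

namespace Cfg

variable {G : Type u} [Group G] [Finite G] {F : Type} [Field F] [Fintype F] (c : Cfg G F)

/-- The bound for the 3-subgroups of `C(τ)`. -/
def TB : Prop :=
  ∀ P : Subgroup G, P ≤ centralizer ({c.tau} : Set G) → IsPGroup 3 P → Nat.card P ∣ c.t3 * (3 ^ c.mm) ^ 3

/-- `U₁`. -/
abbrev U1 : Subgroup G := c.UG ⊓ centralizer ({c.tau} : Set G)

theorem u_mem_U1 {v : F} : c.u v ∈ c.U1 ↔ c.sig c.tau v = v := by
  rw [Subgroup.mem_inf, mem_centralizer_singleton_iff]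
  refine ⟨fun h => c.u_inj ?_, fun h => ⟨⟨v, rfl⟩, ?_⟩⟩
  · rw [← c.conj_u c.tau_mem, ← h.2, mul_inv_cancel_right]
  · have e := c.conj_u c.tau_mem v
    rw [h, mul_inv_eq_iff_eq_mul] at e
    exact e.symm

theorem card_U1 : Nat.card c.U1 = 3 ^ c.mm := by
  rw [← c.fix_card_pow c.mm_dvd]
  refine (Nat.card_eq_of_bijective (fun v : {v : F // c.sig (c.f ^ c.mm) v = v} =>
    (⟨c.u v.1, c.u_mem_U1.2 v.2⟩ : c.U1)) ⟨fun a b e => Subtype.ext (c.u_inj (congrArg (fun z : c.U1 => (z : G)) e)), ?_⟩).symm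
  rintro ⟨g, hg⟩
  obtain ⟨v, hv⟩ := (Subgroup.mem_inf.1 hg).1
  subst hv
  exact ⟨⟨v, c.u_mem_U1.1 hg⟩, rfl⟩

theorem r_U1 : c.r ∈ c.U1 := c.u_mem_U1.2 (map_one _)

theorem tri_eq {A : Matrix.SpecialLinearGroup (Fin 2) F} (h10 : A.1 1 0 = 0) :
    ∃ v : F, ∃ b : Fˣ, c.C.elt A = c.u v * c.d b ∧ (b : F) = A.1 0 0 := by
  have hd := PSL2.det_two A
  rw [h10, mul_zero, sub_zero] at hd
  have hA0 : A.1 0 0 ≠ 0 := left_ne_zero_of_mul_eq_one hd
  refine ⟨A.1 0 1 * A.1 0 0, Units.mk0 _ hA0, ?_, rfl⟩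
  have eA : A = PSL2.uS (A.1 0 1 * A.1 0 0) * PSL2.hS (Units.mk0 _ hA0) := by
    apply Subtype.ext
    rw [PSL2.val_mul]
    have h11 : A.1 1 1 = (A.1 0 0)⁻¹ := eq_inv_of_mul_eq_one_right hd
    ext i j
    fin_cases i <;> fin_cases j <;>
      simp [PSL2.uS, PSL2.hS, Matrix.mul_apply, Fin.sum_univ_two, h10, h11, mul_assoc, hA0]
  conv_lhs => rw [eA]
  rw [← Frame.elt_mul]
  rfl

theorem r_disj : zpowers c.r ⊓ zpowers c.tau = ⊥ := by
  refine (eq_bot_iff_forall _).2 fun y hy => ?_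
  obtain ⟨hyr, hyt⟩ := Subgroup.mem_inf.1 hy
  haveI := Fact.mk Nat.prime_three
  by_contra hne
  have hr3 : orderOf c.r = 3 := orderOf_eq_prime c.r3 c.r_ne
  have hd : orderOf y = 3 := by
    have h := (zpowers c.r).orderOf_dvd_natCard hyr
    rw [Nat.card_zpowers, hr3] at h
    rcases (Nat.dvd_prime Nat.prime_three).1 h with h | h
    · exact absurd (orderOf_eq_one_iff.1 h) hne
    · exact h
  refine c.r_not_Phi ?_
  have : zpowers y = zpowers c.r := eq_of_le_of_card_ge (zpowers_le.2 hyr) (by rw [Nat.card_zpowers, Nat.card_zpowers, hd, hr3])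
  exact (zpowers_le.2 c.tau_mem) (zpowers_le.2 hyt (this ▸ mem_zpowers c.r))

/-- Three-subgroups of `C(U₁) ∩ C(τ)`. -/
theorem card_cent_U1 [IsSimpleGroup G] {P : Subgroup G} (hP : P ≤ centralizer (c.U1 : Set G))
    (hPt : P ≤ centralizer ({c.tau} : Set G)) (h3 : IsPGroup 3 P) : Nat.card P ≤ c.t3 * (3 ^ c.mm) ^ 2 := by
  classical
  haveI := Fact.mk Nat.prime_three
  haveI := Fact.mk Nat.prime_two
  rcases (show c.mm = 1 ∨ 1 < c.mm by have := c.mm_pos; omega) with hm | hm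
  · have hH : P ≤ c.H := fun z hz => c.mem_H_of_f (by
      have := mem_centralizer_singleton_iff.1 (hPt hz)
      rw [tau, hm, pow_one] at this
      exact this.symm)
    have hr : P ≤ centralizer ({c.r} : Set G) := fun z hz =>
      mem_centralizer_singleton_iff.2 (mem_centralizer_iff.1 (hP hz) _ c.r_U1).symm
    obtain ⟨k, hk⟩ := IsPGroup.iff_card.1 h3
    have h := c.odd_cent_r hH hr (hk ▸ Odd.pow (by decide))
    rw [← c.t3_mul_mm, hm, mul_one] at h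
    rw [hm]
    exact (Nat.le_of_dvd (by have := c.t3_pos; omega) h).trans (le_of_eq (by ring))
  obtain ⟨S⟩ := c.exists_sub1 hm
  set X : Subgroup G := centralizer (c.U1 : Set G) ⊓ centralizer ({c.tau} : Set G)
  have memX : ∀ {z : G}, z ∈ X → (∀ w ∈ c.U1, w * z = z * w) ∧ z * c.tau = c.tau * z := fun h =>
    ⟨fun w hw => mem_centralizer_iff.1 (Subgroup.mem_inf.1 h).1 w hw,
      mem_centralizer_singleton_iff.1 (Subgroup.mem_inf.1 h).2⟩
  have htX : c.t ∈ X := Subgroup.mem_inf.2 ⟨mem_centralizer_iff.2 fun w hw => c.UG_t (Subgroup.mem_inf.1 hw).1,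
    mem_centralizer_singleton_iff.2 (c.C.Phi_t c.tau_mem).symm⟩
  obtain ⟨K, hKo, hK, -⟩ := c.odd_core X htX fun g hg hgK => c.BU_odd.of_dvd_nat (c.BU.orderOf_dvd_natCard
    (c.mem_BU hgK one_ne_zero (w := 1) (by
      show g * c.r * g⁻¹ = c.r
      rw [← (memX hg).1 _ c.r_U1, mul_inv_cancel_right])))
  set Z1 := c.U1 ⊔ zpowers c.tau
  have hZX : Z1 ≤ X := sup_le
    (le_inf (fun w hw => mem_centralizer_iff.2 fun y hy => c.UG_comm (Subgroup.mem_inf.1 hy).1 (Subgroup.mem_inf.1 hw).1)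
      inf_le_right)
    (zpowers_le.2 (Subgroup.mem_inf.2 ⟨mem_centralizer_iff.2 fun w hw =>
      mem_centralizer_singleton_iff.1 (Subgroup.mem_inf.1 hw).2, mem_centralizer_singleton_iff.2 rfl⟩))
  have central : ∀ g ∈ K, ∀ z ∈ Z1, g * z = z * g := by
    intro g hg z hz
    obtain ⟨h1, h2⟩ := memX ((hK g).1 hg).1
    have hle : Z1 ≤ centralizer ({g} : Set G) := sup_le
      (fun w hw => mem_centralizer_singleton_iff.2 (h1 w hw)) (zpowers_le.2 (mem_centralizer_singleton_iff.2 h2.symm))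
    exact (mem_centralizer_singleton_iff.1 (hle hz)).symm
  have hZ3 : IsPGroup 3 Z1 := by
    refine IsPGroup.to_sup_of_normal_left' (c.UG_p3.to_le inf_le_left) (IsPGroup.of_card (n := c.ee.factorization 3) ?_) ?_
    · rw [Nat.card_zpowers, c.ord_tau, t3]
    · refine zpowers_le.2 (mem_normalizer_of_map _ fun w hw => ?_)
      rw [← mem_centralizer_singleton_iff.1 (Subgroup.mem_inf.1 hw).2, mul_inv_cancel_right]
      exact hw
  have hZK : Z1 ≤ K := fun z hz => (hK z).2 ⟨hZX hz, by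
    obtain ⟨k, hk⟩ := hZ3 ⟨z, hz⟩
    exact Odd.of_dvd_nat (Odd.pow (by decide)) (orderOf_dvd_of_pow_eq_one (congrArg Subtype.val hk :))⟩
  -- the fixed points of `t`
  have fixed : ∀ g ∈ K, g * c.t = c.t * g → g ∈ Z1 := by
    intro g hg hgt
    obtain ⟨h1, h2⟩ := memX ((hK g).1 hg).1
    obtain ⟨A, h, hh, rfl⟩ := c.mem_K_cases (c.odd_mem_K hgt ((hK g).1 hg).2)
    have key : ∀ v, v ≠ 0 → c.sig c.tau v = v → A.1 1 0 = 0 ∧ A.1 0 0 ^ 2 * c.sig h v = v := fun v hv hvt =>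
      c.conj_u_cases hh hv (by rw [← h1 _ (c.u_mem_U1.2 hvt), mul_inv_cancel_right])
    obtain ⟨h10, e1⟩ := key 1 one_ne_zero (map_one _)
    rw [map_one, mul_one] at e1
    have hht : h ∈ zpowers c.tau := Sub1.mem_tau c S hh (by
      have e2 := (key _ S.a1.ne_zero S.fixed).2
      rwa [e1, one_mul] at e2)
    obtain ⟨v, b, eA, hb⟩ := c.tri_eq h10
    rw [c.d_pm (b := b) (by rw [hb]; exact sq_eq_one_iff.1 e1), mul_one] at eA
    rw [eA]
    refine mul_mem (mem_sup_left (Subgroup.mem_inf.2 ⟨⟨v, rfl⟩, mem_centralizer_singleton_iff.2 ?_⟩)) (mem_sup_right hht)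
    have hc : Commute h c.tau := c.C.Phi_comm hh c.tau_mem
    have := (show Commute (c.C.elt A * h) c.tau from h2).mul_left hc.inv_left
    rw [mul_inv_cancel_right, eA] at this
    exact this.eq
  have htK : c.t ∈ normalizer (K : Set G) := mem_normalizer_of_map _ fun g hg => (hK _).2
    ⟨mul_mem (mul_mem htX ((hK g).1 hg).1) (inv_mem htX), by
      rw [← MulAut.conj_apply, MulEquiv.orderOf_eq]; exact ((hK g).1 hg).2⟩
  have Zt : ∀ z ∈ Z1, z * c.t = c.t * z := fun z hz => mem_centralizer_singleton_iff.1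
    ((sup_le (fun w hw => mem_centralizer_singleton_iff.2 (c.UG_t (Subgroup.mem_inf.1 hw).1))
      (zpowers_le.2 (mem_centralizer_singleton_iff.2 (c.C.Phi_t c.tau_mem)))) hz)
  have inv_mod : ∀ g ∈ K, c.t * g * c.t⁻¹ * g ∈ Z1 := by
    intro g hg
    obtain ⟨a, ha, b, hb, hat, hbt, rfl⟩ := c.decomp hKo htK hg
    have haZ := fixed a ha hat
    rw [show c.t * (a * b) * c.t⁻¹ = c.t * a * c.t⁻¹ * (c.t * b * c.t⁻¹) by group, hbt, ← hat, mul_inv_cancel_right,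
      show a * b⁻¹ * (a * b) = a * (b⁻¹ * a) * b by group, central b⁻¹ (inv_mem hb) a haZ,
      show a * (a * b⁻¹) * b = a * a by group]
    exact mul_mem haZ haZ
  have hcomm : ∀ a ∈ K, ∀ b ∈ K, a * b * a⁻¹ * b⁻¹ ∈ Z1 := by
    intro a ha b hb
    obtain ⟨u1, hu1, e1⟩ : ∃ z ∈ Z1, c.t * a * c.t⁻¹ = z * a⁻¹ := ⟨_, inv_mod a ha, by group⟩
    obtain ⟨u2, hu2, e2⟩ : ∃ z ∈ Z1, c.t * b * c.t⁻¹ = z * b⁻¹ := ⟨_, inv_mod b hb, by group⟩
    have h3' := inv_mod (a * b) (mul_mem ha hb)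
    rw [show c.t * (a * b) * c.t⁻¹ = c.t * a * c.t⁻¹ * (c.t * b * c.t⁻¹) by group, e1, e2,
      show u1 * a⁻¹ * (u2 * b⁻¹) * (a * b) = u1 * (a⁻¹ * u2) * (b⁻¹ * a * b) by group, central _ (inv_mem ha) u2 hu2,
      show u1 * (u2 * a⁻¹) * (b⁻¹ * a * b) = u1 * u2 * (a⁻¹ * b⁻¹ * a * b) by group] at h3'
    have h4 : a⁻¹ * b⁻¹ * a * b ∈ Z1 := by
      have := mul_mem (inv_mem (mul_mem hu1 hu2)) h3'
      rwa [inv_mul_cancel_left] at this
    rw [show a * b * a⁻¹ * b⁻¹ = (b * a) * (a⁻¹ * b⁻¹ * a * b) * (b * a)⁻¹ by group,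
      central _ (mul_mem hb ha) _ h4, mul_inv_cancel_right]
    exact h4
  -- the Sylow subgroup
  obtain ⟨P1⟩ : Nonempty (Sylow 3 K) := inferInstance
  have hZP : Z1.subgroupOf K ≤ (P1 : Subgroup K) := by
    haveI : (Z1.subgroupOf K).Normal := ⟨fun z hz g => mem_subgroupOf.2 (by
      show (g : G) * z * (g : G)⁻¹ ∈ Z1
      rw [central g g.2 z (mem_subgroupOf.1 hz), mul_inv_cancel_right]; exact mem_subgroupOf.1 hz)⟩
    have hp := P1.2.to_sup_of_normal_right (hZ3.of_equiv (subgroupOfEquivOfLe hZK).symm)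
    exact (le_sup_right (a := (P1 : Subgroup K))).trans (P1.3 hp le_sup_left).le
  haveI hPn : (P1 : Subgroup K).Normal := ⟨fun p hp g => by
    have h := hcomm g g.2 p p.2
    have h' : g * p * g⁻¹ * p⁻¹ ∈ (P1 : Subgroup K) := hZP (mem_subgroupOf.2 h)
    simpa [mul_assoc] using mul_mem h' hp⟩
  haveI : Subsingleton (Sylow 3 K) := (Sylow.unique_of_normal P1 hPn).instSubsingleton
  set M := (P1 : Subgroup K).map K.subtype with hMdef
  have hall : ∀ g ∈ X, ∀ k : ℕ, g ^ 3 ^ k = 1 → g ∈ M := by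
    intro g hg k hk
    obtain ⟨i, -, hi⟩ := (Nat.dvd_prime_pow Nat.prime_three).1 (orderOf_dvd_of_pow_eq_one hk)
    have hgK : g ∈ K := (hK g).2 ⟨hg, hi ▸ Odd.pow (by decide)⟩
    obtain ⟨P', hP'⟩ := (IsPGroup.of_card (p := 3) (n := i) (G := zpowers (⟨g, hgK⟩ : K)) (by
      rw [Nat.card_zpowers, Subgroup.orderOf_mk, hi])).exists_le_sylow
    rw [Subsingleton.elim P' P1] at hP'
    exact ⟨⟨g, hgK⟩, hP' (mem_zpowers _), rfl⟩
  have hMK : M ≤ K := map_subtype_le _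
  have hM3 : IsPGroup 3 M := P1.2.map _
  have hPM : P ≤ M := fun g hg => by
    obtain ⟨k, hk⟩ := h3 ⟨g, hg⟩
    exact hall g (Subgroup.mem_inf.2 ⟨hP hg, hPt hg⟩) k (congrArg Subtype.val hk)
  refine (card_le_of_le hPM).trans ?_
  have hcardZ : Nat.card Z1 ≤ 3 ^ c.mm * c.t3 := by
    rw [← c.card_U1, ← c.ord_tau, ← Nat.card_zpowers]
    refine Nat.le_of_dvd (Nat.mul_pos Nat.card_pos Nat.card_pos)
      (Dvd.intro _ (Solv.card_sup_mul_card_inf' _ _ ?_))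
    refine zpowers_le.2 (mem_normalizer_of_map _ fun w hw => ?_)
    rw [← mem_centralizer_singleton_iff.1 (Subgroup.mem_inf.1 hw).2, mul_inv_cancel_right]
    exact hw
  by_cases hMZ : M ≤ Z1
  · refine (card_le_of_le hMZ).trans (hcardZ.trans ?_)
    have := pow_pos (show 0 < 3 by norm_num) c.mm
    nlinarith [c.t3_pos]
  -- the quotient
  obtain ⟨Pr, hPrM, hPr⟩ : ∃ Pr : SecPair G, Pr.M = M ∧ Pr.N = Z1 :=
    ⟨⟨Z1, M, fun z hz => ⟨⟨z, hZK hz⟩, hZP (mem_subgroupOf.2 hz), rfl⟩, fun g hg => mem_normalizer_of_map _ fun z hz => by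
      rw [central g (hMK hg) z hz, mul_inv_cancel_right]; exact hz, fun a ha b hb => hcomm a (hMK ha) b (hMK hb)⟩,
      rfl, rfl⟩
  clear_value M
  subst hPrM
  have hnormX : ∀ {n : G}, (∀ w ∈ c.U1, n * w * n⁻¹ ∈ c.U1) → n * c.tau = c.tau * n → n ∈ Pr.nrmG := by
    intro n hnU hnt
    have hU : n ∈ normalizer (c.U1 : Set G) := mem_normalizer_of_map _ hnU
    have hX : ∀ g ∈ X, n * g * n⁻¹ ∈ X := fun g hg => Subgroup.mem_inf.2 ⟨mem_centralizer_iff.2 fun w hw => by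
      have hw' : n⁻¹ * w * n ∈ c.U1 := by
        have := (mem_normalizer_iff.1 (inv_mem hU) w).1 hw
        rwa [inv_inv] at this
      have h := (memX hg).1 _ hw'
      calc w * (n * g * n⁻¹) = n * ((n⁻¹ * w * n) * g) * n⁻¹ := by group
        _ = n * (g * (n⁻¹ * w * n)) * n⁻¹ := by rw [h]
        _ = n * g * n⁻¹ * w := by group,
      mem_centralizer_singleton_iff.2 (((show Commute n c.tau from hnt).mul_left (memX hg).2).mul_left
        (show Commute n c.tau from hnt).inv_left).eq⟩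
    refine Pr.mem_nrmG.2 ⟨mem_normalizer_of_map _ fun g hg => ?_, mem_normalizer_of_map _ fun g hg => ?_⟩
    · obtain ⟨k, hk⟩ := hM3 ⟨g, hg⟩
      refine hall _ (hX g ((hK g).1 (hMK hg)).1) k ?_
      rw [conj_pow, show g ^ 3 ^ k = 1 from congrArg Subtype.val hk, mul_one, mul_inv_cancel]
    · rw [hPr] at hg ⊢
      have hle : Z1 ≤ Z1.comap (MulAut.conj n).toMonoidHom := sup_le (fun w hw => mem_sup_left (hnU w hw))
        (zpowers_le.2 (by
          show n * c.tau * n⁻¹ ∈ Z1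
          rw [hnt, mul_inv_cancel_right]; exact mem_sup_right (mem_zpowers _)))
      exact hle hg
  have hf : c.f ∈ Pr.nrmG := hnormX (fun w hw => by
    obtain ⟨v, rfl⟩ := (Subgroup.mem_inf.1 hw).1
    rw [c.conj_u c.f_mem]
    refine c.u_mem_U1.2 ?_
    have h1 := congrArg (c.sig c.f) (c.u_mem_U1.1 hw)
    show (c.sig c.tau * c.sig c.f) v = _
    rw [← c.sig_mul c.tau_mem c.f_mem, c.C.Phi_comm c.tau_mem c.f_mem, c.sig_mul c.f_mem c.tau_mem]
    exact h1) (c.C.Phi_comm c.f_mem c.tau_mem)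
  have hx1t : c.d S.a1 * c.tau = c.tau * c.d S.a1 := by
    have e := c.conj_d c.tau_mem S.a1
    rw [show Units.map (c.sig c.tau : F →* F) S.a1 = S.a1 from Units.ext S.fixed, mul_inv_eq_iff_eq_mul] at e
    exact e.symm
  have hx : c.d S.a1 ∈ Pr.nrmG := hnormX (fun w hw => by
    obtain ⟨v, rfl⟩ := (Subgroup.mem_inf.1 hw).1
    rw [c.d_u]
    refine c.u_mem_U1.2 ?_
    rw [map_mul, map_pow, c.u_mem_U1.1 hw, show c.sig c.tau (S.a1 : F) = S.a1 from S.fixed]) hx1t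
  obtain ⟨μ, hμ, hμo⟩ := c.exists_mu S.prime S.ord (n := c.mm) fun k => by
    refine ⟨fun h => ?_, fun h => c.fix_of_dvd h S.fixed⟩
    obtain ⟨j, hj⟩ := mem_zpowers_iff.1 (Sub1.mem_tau c S (pow_mem c.f_mem k) h)
    have h1 : (c.f ^ k) ^ c.t3 = 1 := by
      rw [← hj, ← zpow_natCast, ← zpow_mul, mul_comm, zpow_mul, zpow_natCast, c.pow_tau, one_zpow]
    rw [← pow_mul, c.f_pow_eq_one, ← c.t3_mul_mm, mul_comm k, Nat.mul_dvd_mul_iff_left c.t3_pos] at h1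
    exact h1
  have haut : Pr.aut ⟨c.f, hf⟩ ^ c.mm = 1 := by
    rw [← map_pow]
    refine MulEquiv.ext fun v => ?_
    obtain ⟨g, rfl⟩ := QuotientGroup.mk_surjective v
    rw [MulAut.one_apply, Pr.aut_fix]
    show c.f ^ c.mm * g * (c.f ^ c.mm)⁻¹ * (g : G)⁻¹ ∈ Pr.N
    rw [← show c.tau = c.f ^ c.mm from rfl, ← (memX ((hK _).1 (hMK g.2)).1).2, mul_inv_cancel_right, mul_inv_cancel]
    exact one_mem _
  have hxp : (c.d S.a1) ^ S.l1 = 1 := by rw [c.d_pow, ← S.ord, pow_orderOf_eq_one, c.d_one]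
  have hF : FrobAct (Pr.aut ⟨c.f, hf⟩) (Pr.aut ⟨c.d S.a1, hx⟩) S.l1 c.mm := by
    refine ⟨S.prime, ?_, Pr.fpf hM3 S.prime S.ne3 hxp fun g hg hgc => ?_, haut, c.mm_pos, μ, ?_, hμo⟩
    · rw [← map_pow, show (⟨c.d S.a1, hx⟩ : Pr.nrmG) ^ S.l1 = 1 from Subtype.ext hxp, map_one]
    · obtain ⟨k, hk⟩ := hM3 ⟨g, hg⟩
      rw [hPr]
      exact mem_sup_right (Sub1.centx_three S hgc (memX ((hK _).1 (hMK hg)).1).2 (congrArg Subtype.val hk :))
    · rw [← map_pow, ← map_inv, ← map_mul, ← map_mul]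
      exact congrArg _ (Subtype.ext hμ)
  haveI := Pr.nontrivial (hPr ▸ hMZ)
  set T := Pr.M ⊓ c.H
  have hTcard : Nat.card T ∣ 9 * c.t3 := by
    have hr : T ≤ centralizer ({c.r} : Set G) := fun z hz => mem_centralizer_singleton_iff.2
      ((memX ((hK _).1 (hMK (Subgroup.mem_inf.1 hz).1)).1).1 _ c.r_U1).symm
    obtain ⟨k, hk⟩ := IsPGroup.iff_card.1 (hM3.to_le (inf_le_left : T ≤ Pr.M))
    have h := c.odd_cent_r inf_le_right hr (hk ▸ Odd.pow (by decide))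
    rw [← c.t3_mul_mm, show 9 * (c.t3 * c.mm) = 9 * c.t3 * c.mm by ring] at h
    refine Nat.Coprime.dvd_of_dvd_mul_right ?_ h
    rw [hk]
    exact Nat.Coprime.pow_left k ((Nat.Prime.coprime_iff_not_dvd Nat.prime_three).2 c.not_three_mm)
  have hfixle : Pr.fixPre ⟨c.f, hf⟩ ≤ Z1 ⊔ T := by
    intro g hg
    obtain ⟨hgM, hgf⟩ := Pr.mem_fixPre.1 hg
    rw [hPr] at hgf
    have htM : c.t ∈ normalizer (Pr.M : Set G) := (Pr.mem_nrmG.1 (hnormX (fun w hw => by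
      rw [← c.UG_t (Subgroup.mem_inf.1 hw).1, mul_inv_cancel_right]; exact hw) (c.C.Phi_t c.tau_mem).symm)).1
    obtain ⟨a, ha, b, hb, hat, hbt, rfl⟩ := c.decomp (hKo.of_dvd_nat (card_dvd_of_le hMK)) htM hgM
    have haZ := fixed a (hMK ha) hat
    have hfa : c.f * a * c.f⁻¹ ∈ Z1 := hPr ▸ (mem_normalizer_iff.1 (Pr.mem_nrmG.1 hf).2 a).1 (hPr ▸ haZ)
    have hbf : c.f * b * c.f⁻¹ * b⁻¹ ∈ Z1 := by
      have e : c.f * (a * b) * c.f⁻¹ * (a * b)⁻¹ = c.f * a * c.f⁻¹ * ((c.f * b * c.f⁻¹ * b⁻¹) * a⁻¹) := by group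
      have := mul_mem (mul_mem (inv_mem hfa) (e ▸ hgf)) haZ
      simpa [mul_assoc] using this
    set z := c.f * b * c.f⁻¹ * b⁻¹ with hz
    have hinv : c.t * (z * b) * c.t⁻¹ = (z * b)⁻¹ := by
      rw [hz, inv_mul_cancel_right]
      have hft : Commute c.t c.f := (show Commute c.f c.t from c.f_t).symm
      rw [show c.t * (c.f * b * c.f⁻¹) * c.t⁻¹ = (c.t * c.f) * b * (c.t * c.f)⁻¹ by group, hft.eq,
        show c.f * c.t * b * (c.f * c.t)⁻¹ = c.f * (c.t * b * c.t⁻¹) * c.f⁻¹ by group, hbt]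
      group
    rw [show c.t * (z * b) * c.t⁻¹ = c.t * z * c.t⁻¹ * (c.t * b * c.t⁻¹) by group, ← Zt z hbf, mul_inv_cancel_right, hbt,
      mul_inv_rev, ← central b⁻¹ (inv_mem (hMK hb)) z hbf, mul_right_inj] at hinv
    have hz1 : z = 1 := by
      obtain ⟨k, hk⟩ := hZ3 ⟨z, hbf⟩
      rw [← orderOf_eq_one_iff]
      refine Nat.eq_one_of_dvd_coprimes (Nat.Coprime.pow_left k (by norm_num : Nat.Coprime 3 2))
        (orderOf_dvd_of_pow_eq_one (congrArg Subtype.val hk :)) (orderOf_dvd_of_pow_eq_one ?_)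
      rw [pow_two]
      nth_rw 2 [hinv]
      exact mul_inv_cancel z
    rw [hz, mul_inv_eq_one, mul_inv_eq_iff_eq_mul] at hz1
    exact mul_mem (mem_sup_left haZ) (mem_sup_right (Subgroup.mem_inf.2 ⟨hb, c.mem_H_of_f hz1⟩))
  have hinf : 3 * c.t3 ≤ Nat.card (Z1 ⊓ T : Subgroup G) := by
    have hle : zpowers c.r ⊔ zpowers c.tau ≤ Z1 ⊓ T := by
      refine sup_le (zpowers_le.2 ?_) (zpowers_le.2 ?_)
      · exact Subgroup.mem_inf.2 ⟨mem_sup_left c.r_U1, Subgroup.mem_inf.2 ⟨Pr.le (hPr ▸ mem_sup_left c.r_U1), c.r_H⟩⟩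
      · exact Subgroup.mem_inf.2 ⟨mem_sup_right (mem_zpowers _), Subgroup.mem_inf.2
          ⟨Pr.le (hPr ▸ mem_sup_right (mem_zpowers _)), c.Phi_le c.tau_mem⟩⟩
    refine le_trans ?_ (card_le_of_le hle)
    have h := Solv.card_sup_mul_card_inf' (zpowers c.r) (zpowers c.tau) (zpowers_le.2 (mem_normalizer_of_map _ fun w hw => by
      obtain ⟨i, rfl⟩ := hw
      show c.tau * c.r ^ i * c.tau⁻¹ ∈ _
      rw [((show Commute c.tau c.r from c.mem_H.1 c.r_H _ c.tau_mem).zpow_right i).eq, mul_inv_cancel_right]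
      exact ⟨i, rfl⟩))
    rw [c.r_disj, card_bot, mul_one, Nat.card_zpowers, Nat.card_zpowers, c.ord_tau,
      orderOf_eq_prime c.r3 c.r_ne] at h
    rw [h]
  have hfix : Nat.card (fixV (Pr.aut ⟨c.f, hf⟩)) ≤ 3 := by
    have h1 := card_le_of_le hfixle
    rw [Pr.card_fixPre, show Nat.card Pr.N = Nat.card Z1 by rw [hPr]] at h1
    have h2 := Solv.card_sup_mul_card_inf' Z1 T fun g hg => mem_normalizer_of_map _ fun z hz => by
      rw [central g (hMK (Subgroup.mem_inf.1 hg).1) z hz, mul_inv_cancel_right]; exact hz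
    have h3' := Nat.le_of_dvd (by have := c.t3_pos; omega) hTcard
    have h4 := Nat.mul_le_mul h1 hinf
    rw [h2] at h4
    have h5 := h4.trans (Nat.mul_le_mul_left _ h3')
    have hpos : 0 < Nat.card Z1 * c.t3 := Nat.mul_pos Nat.card_pos c.t3_pos
    by_contra hlt
    nlinarith
  have hQ3 := Pr.isPGroup hM3
  have hcardQ := hF.card_top S.three (hF.cube hQ3 S.ne3 hfix) hfix
  rw [Pr.card_eq, hcardQ, show Nat.card Pr.N = Nat.card Z1 by rw [hPr]]
  calc 3 ^ c.mm * Nat.card Z1 ≤ 3 ^ c.mm * (3 ^ c.mm * c.t3) := Nat.mul_le_mul_left _ hcardZ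
    _ = _ := by ring

/-- Abelian three-subgroups of `C(τ)`. -/
theorem abelian_lt [IsSimpleGroup G] (hB : c.TB) {A : Subgroup G} (hA : A ≤ centralizer ({c.tau} : Set G))
    (h3 : IsPGroup 3 A) (hc : ∀ a ∈ A, ∀ b ∈ A, a * b = b * a) : Nat.card A < c.t3 * (3 ^ c.mm) ^ 3 := by
  classical
  haveI := Fact.mk Nat.prime_three
  set X := centralizer ({c.tau} : Set G)
  have hpos : 0 < c.t3 * (3 ^ c.mm) ^ 3 := Nat.mul_pos c.t3_pos (pow_pos (pow_pos (by norm_num) _) _)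
  rcases lt_or_ge (Nat.card A) (c.t3 * (3 ^ c.mm) ^ 3) with h | h
  · exact h
  exfalso
  have hUX : c.U1 ≤ X := inf_le_right
  obtain ⟨PA, hPA⟩ := (h3.of_equiv (subgroupOfEquivOfLe hA).symm).exists_le_sylow
  obtain ⟨PU, hPU⟩ := ((c.UG_p3.to_le inf_le_left : IsPGroup 3 c.U1).of_equiv
    (subgroupOfEquivOfLe hUX).symm).exists_le_sylow
  obtain ⟨g, hg⟩ := MulAction.exists_smul_eq X PA PU
  have hPAe : (PA : Subgroup X) = A.subgroupOf X := by
    refine (eq_of_le_of_card_ge hPA ?_).symm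
    rw [Nat.card_congr (subgroupOfEquivOfLe hA).toEquiv, ← card_map_of_injective X.subtype_injective]
    exact (Nat.le_of_dvd hpos (hB _ (map_subtype_le _) (PA.2.map _))).trans h
  set A' : Subgroup G := A.map (MulAut.conj (g : G)).toMonoidHom with hA'
  have hA'X : A' ≤ X := by
    rintro _ ⟨a, ha, rfl⟩
    exact mul_mem (mul_mem g.2 (hA ha)) (inv_mem g.2)
  have hU : c.U1 ≤ A' := fun w hw => by
    have h1 : (⟨w, hUX hw⟩ : X) ∈ (PU : Subgroup X) := hPU (mem_subgroupOf.2 hw)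
    rw [← hg, Sylow.coe_subgroup_smul, hPAe] at h1
    obtain ⟨a, ha, ea⟩ := h1
    exact ⟨a, mem_subgroupOf.1 ha, congrArg Subtype.val ea⟩
  have hcent : A' ≤ centralizer (c.U1 : Set G) := fun a ha => mem_centralizer_iff.2 fun w hw => by
    obtain ⟨b, hb, rfl⟩ := ha
    obtain ⟨d, hd, rfl⟩ := hU hw
    rw [← map_mul, ← map_mul, hc d hd b hb]
  have h2 := c.card_cent_U1 hcent hA'X (h3.map _)
  rw [hA', card_map_of_injective (MulAut.conj (g : G)).injective] at h2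
  have hlt : c.t3 * (3 ^ c.mm) ^ 2 < c.t3 * (3 ^ c.mm) ^ 3 :=
    Nat.mul_lt_mul_of_pos_left (Nat.pow_lt_pow_right (Nat.one_lt_pow c.mm_pos.ne' (by norm_num)) (by norm_num)) c.t3_pos
  omega

end Cfg

end Cfsg.Agent.Walter.JR.Res3
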