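import Cfsg.Agent.Lib.Walter.JR.Res3.Tower
import Mathlib.GroupTheory.IndexNormal

/-!
# `Q` is elementary abelian of order `q²`

`Q ⟨τ⟩` is not a Sylow subgroup; what normalises it normalises `Q`, and cannot normalise `U`; some element outside
it centralises `τ`.
-/

set_option autoImplicit false
set_option linter.unusedSectionVars false
set_option linter.style.haveILetI false

namespace Cfsg.Agent.Walter.JR.Res3

open Subgroup Cfsg.Agent.Char.ReeThree Cfsg.Agent.Char.ReeOrder Cfsg.Agent.Small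

universe u

/-- A 3-group that is not a Sylow subgroup is normal in one three times as large. -/
theorem exists_grow {G : Type u} [Group G] [Finite G] {P : Subgroup G} (h3 : IsPGroup 3 P)
    (hco : ¬ Nat.Coprime 3 P.index) :
    ∃ P2 : Subgroup G, IsPGroup 3 P2 ∧ P ≤ P2 ∧ Nat.card P2 = 3 * Nat.card P ∧ P2 ≤ normalizer (P : Set G) := by
  haveI := Fact.mk Nat.prime_three
  obtain ⟨n, hn⟩ := IsPGroup.iff_card.1 h3
  have hdvd : 3 ^ (n + 1) ∣ Nat.card G := by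
    rw [← P.card_mul_index, hn, pow_succ]
    exact Nat.mul_dvd_mul_left _ (not_not.1 fun h => hco ((Nat.Prime.coprime_iff_not_dvd Nat.prime_three).2 h))
  obtain ⟨K, hK, hPK⟩ := Sylow.exists_subgroup_card_pow_succ hdvd hn
  refine ⟨K, IsPGroup.of_card hK, hPK, by rw [hK, hn, pow_succ, mul_comm], ?_⟩
  have hidx : (P.subgroupOf K).index = (Nat.card K).minFac := by
    have h := (P.subgroupOf K).card_mul_index
    rw [Nat.card_congr (subgroupOfEquivOfLe hPK).toEquiv, hn, hK, pow_succ] at h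
    rw [hK, Nat.Prime.pow_minFac Nat.prime_three (Nat.succ_ne_zero n)]
    exact Nat.eq_of_mul_eq_mul_left (pow_pos (by norm_num) n) h
  haveI := Subgroup.normal_of_index_eq_minFac_card hidx
  exact (Subgroup.normal_subgroupOf_iff_le_normalizer hPK).1 inferInstance

namespace Cfg

variable {G : Type u} [Group G] [Finite G] {F : Type} [Field F] [Fintype F] (c : Cfg G F)

/-- The element of order three of `⟨τ⟩` is a power of every non-trivial element. -/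
theorem tau_div_mem {i : ℕ} (hi : ¬ c.t3 ∣ i) : c.tau ^ (c.t3 / 3) ∈ zpowers (c.tau ^ i) := by
  obtain ⟨b, hb⟩ : ∃ b, c.t3 = 3 ^ b := ⟨_, rfl⟩
  obtain ⟨s', hs, hs'⟩ := (Nat.dvd_prime_pow Nat.prime_three).1
    (hb ▸ Nat.gcd_dvd_right i c.t3 : Nat.gcd i c.t3 ∣ 3 ^ b)
  have hlt : s' < b := lt_of_le_of_ne hs fun e => hi (by rw [hb, ← e, ← hs']; exact Nat.gcd_dvd_left _ _)
  have hg : c.tau ^ Nat.gcd i c.t3 ∈ zpowers (c.tau ^ i) := by
    rw [← zpow_natCast c.tau (Nat.gcd i c.t3), Nat.gcd_eq_gcd_ab, zpow_add, zpow_mul, zpow_mul, zpow_natCast, zpow_natCast, c.pow_tau,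
      one_zpow, mul_one]
    exact zpow_mem (mem_zpowers _) _
  rw [show c.t3 / 3 = Nat.gcd i c.t3 * 3 ^ (b - 1 - s') by
    rw [hs', hb, ← pow_add, show s' + (b - 1 - s') = b - 1 by omega]
    nth_rw 2 [← pow_one 3]
    exact Nat.pow_div (by omega) (by norm_num), pow_mul]
  exact pow_mem hg _

theorem r_UH : c.r ∈ c.UG ⊓ c.H := Subgroup.mem_inf.2 ⟨⟨1, rfl⟩, c.r_H⟩

theorem three_le_of_r {K : Subgroup G} (h : c.r ∈ K) : 3 ≤ Nat.card K := by
  haveI := Fact.mk Nat.prime_three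
  rw [← orderOf_eq_prime c.r3 c.r_ne]
  exact Nat.le_of_dvd Nat.card_pos (K.orderOf_dvd_natCard h)

theorem card_UH : Nat.card (c.UG ⊓ c.H : Subgroup G) ≤ 3 := by
  have key : ∀ g : (c.UG ⊓ c.H : Subgroup G), ∃ w : {v : F // c.sig c.f v = v}, c.u w.1 = g := fun g => by
    obtain ⟨v, hv⟩ := (Subgroup.mem_inf.1 g.2).1
    have h := c.mem_H.1 (Subgroup.mem_inf.1 g.2).2 c.f c.f_mem
    rw [← hv, ← mul_inv_eq_iff_eq_mul, c.conj_u c.f_mem] at h
    exact ⟨⟨v, c.u_inj h⟩, hv⟩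
  choose w hw using key
  rw [← c.fix_card]
  exact Nat.card_le_card_of_injective w fun a b h => Subtype.ext (by rw [← hw a, ← hw b, h])

theorem U_lay [IsSimpleGroup G] : c.Lay ⊥ c.UG := by
  refine Lay.of_fpf c (T := c.UG ⊓ c.H) bot_le (fun h => ?_) c.UG_p3 (by rw [normalizer_eq_top]; exact le_top)
    (by rw [normalizer_eq_top]; trivial) c.f_norm_U (by rw [normalizer_eq_top]; trivial) c.x_norm_U
    (fun a ha b hb => by rw [mem_bot, c.UG_comm ha hb]; group) (fun m hm h => ?_) ?_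
  · have := h ⟨1, rfl⟩
    rw [mem_bot] at this
    exact c.r_ne this
  · rw [mem_bot, mul_inv_eq_one, mul_inv_eq_iff_eq_mul] at h
    exact Subgroup.mem_inf.2 ⟨hm, c.mem_H_of_f h⟩
  · rw [card_bot]; exact c.card_UH

namespace IsQ

variable {c} {Q : Subgroup G} (hQ : c.IsQ Q)

include hQ

theorem norm {n : G} (hn : n ∈ normalizer (c.UG : Set G)) : n ∈ normalizer (Q : Set G) :=
  mem_normalizer_of_map _ fun a ha => by
    obtain ⟨k, hk⟩ := hQ.p3 ⟨a, ha⟩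
    refine hQ.all _ (c.norm_CU hn (hQ.le_CU ha)) k ?_
    rw [conj_pow, show a ^ 3 ^ k = 1 from congrArg Subtype.val hk, mul_one, mul_inv_cancel]

theorem f_norm : c.f ∈ normalizer (Q : Set G) := hQ.norm c.f_norm_U

theorem x_norm : c.x ∈ normalizer (Q : Set G) := hQ.norm c.x_norm_U

theorem t_norm : c.t ∈ normalizer (Q : Set G) := hQ.norm (mem_normalizer_of_map _ fun z hz => by
  rw [← c.UG_t hz, mul_inv_cancel_right]; exact hz)

theorem meet {n : ℕ} (h : c.f ^ n ∈ Q) : c.ee ∣ n := by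
  rw [← c.f_pow_eq_one]
  refine c.sig_inj (pow_mem c.f_mem n) (RingEquiv.ext fun v => ?_)
  have h1 := c.conj_u (pow_mem c.f_mem n) v
  rw [← mem_centralizer_iff.1 (hQ.le_CU h) _ ⟨v, rfl⟩, mul_inv_cancel_right] at h1
  exact (c.u_inj h1).symm

theorem odd : Odd (Nat.card Q) := by
  haveI := Fact.mk Nat.prime_three
  obtain ⟨k, hk⟩ := IsPGroup.iff_card.1 hQ.p3
  rw [hk]; exact Odd.pow (by decide)

theorem fixed_t {g : G} (hg : g ∈ Q) (h : g * c.t = c.t * g) : g ∈ c.UG :=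
  c.CU_K (hQ.le_CU hg) (c.odd_mem_K h (hQ.odd.of_dvd_nat (Q.orderOf_dvd_natCard hg)))

theorem central {g z : G} (hg : g ∈ Q) (hz : z ∈ c.UG) : g * z = z * g :=
  (mem_centralizer_iff.1 (hQ.le_CU hg) z hz).symm

/-- An inverted element fixed by `f` modulo `U` is fixed. -/
theorem fix_mod_U {b : G} (hb : b ∈ Q) (hbt : c.t * b * c.t⁻¹ = b⁻¹) (h : c.f * b * c.f⁻¹ * b⁻¹ ∈ c.UG) :
    c.f * b = b * c.f := by
  set z := c.f * b * c.f⁻¹ * b⁻¹ with hz
  have e : c.f * b * c.f⁻¹ = z * b := by rw [hz]; group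
  have e1 : c.t * (z * b) * c.t⁻¹ = z * b⁻¹ := by
    rw [show c.t * (z * b) * c.t⁻¹ = c.t * z * c.t⁻¹ * (c.t * b * c.t⁻¹) by group, hbt, ← c.UG_t h,
      mul_inv_cancel_right]
  have e2 : c.t * (c.f * b * c.f⁻¹) * c.t⁻¹ = c.f * b⁻¹ * c.f⁻¹ := by
    rw [← hbt, show c.t * (c.f * b * c.f⁻¹) * c.t⁻¹ = c.t * c.f * b * (c.t * c.f)⁻¹ by group, ← c.f_t]; group
  rw [e, e1, show c.f * b⁻¹ * c.f⁻¹ = (c.f * b * c.f⁻¹)⁻¹ by group, e, mul_inv_rev,
    hQ.central (inv_mem hb) (inv_mem h), mul_left_inj] at e2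
  have hzz : z ^ 2 = 1 := by rw [pow_two, mul_eq_one_iff_eq_inv]; exact e2
  have hz1 : z = 1 := by
    rw [← orderOf_eq_one_iff]
    exact Nat.eq_one_of_dvd_coprimes (show Nat.Coprime 2 3 by norm_num) (orderOf_dvd_of_pow_eq_one hzz)
      (orderOf_dvd_of_pow_eq_one (c.UG_cube h))
  rw [hz1, one_mul, mul_inv_eq_iff_eq_mul] at e
  exact e

theorem card_QH [IsSimpleGroup G] : Nat.card (Q ⊓ c.H : Subgroup G) ∣ 9 := by
  haveI := Fact.mk Nat.prime_three
  set A := Q ⊓ c.H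
  have hA3 : IsPGroup 3 A := hQ.p3.to_le inf_le_left
  have hnorm : A ≤ normalizer (c.C.PhiG : Set G) := fun a ha => mem_normalizer_of_map _ fun h hh => by
    rw [← c.mem_H.1 (Subgroup.mem_inf.1 ha).2 h hh, mul_inv_cancel_right]; exact hh
  have hinf : c.C.PhiG ⊓ A = ⊥ := (eq_bot_iff_forall _).2 fun y hy => by
    obtain ⟨hyP, hyA⟩ := Subgroup.mem_inf.1 hy
    rw [← c.gen, ← mem_powers_iff_mem_zpowers] at hyP
    obtain ⟨n, rfl⟩ := hyP
    exact c.f_pow_eq_one.2 (hQ.meet (Subgroup.mem_inf.1 hyA).1)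
  have h := Solv.card_sup_mul_card_inf' _ _ hnorm
  rw [hinf, card_bot, mul_one, c.C.card_PhiG, Frame.e, c.eq] at h
  have hle : c.C.PhiG ⊔ A ≤ c.H := sup_le c.Phi_le inf_le_right
  have hr : c.C.PhiG ⊔ A ≤ centralizer ({c.r} : Set G) := sup_le
    (fun y hy => mem_centralizer_singleton_iff.2 (c.mem_H.1 c.r_H y hy))
    (fun a ha => mem_centralizer_singleton_iff.2 (hQ.central (Subgroup.mem_inf.1 ha).1 ⟨1, rfl⟩))
  have hodd : Odd (Nat.card (c.C.PhiG ⊔ A : Subgroup G)) := by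
    obtain ⟨k, hk⟩ := IsPGroup.iff_card.1 hA3
    rw [h, hk]
    exact c.hodd.mul (Odd.pow (by decide))
  have h9 := c.odd_cent_r hle hr hodd
  rw [h, mul_comm 9] at h9
  exact Nat.dvd_of_mul_dvd_mul_left c.ee_pos h9

/-- Layers over `U`. -/
theorem lay_U [IsSimpleGroup G] {Z : Subgroup G} (hUZ : c.UG ≤ Z) (hZQ : Z ≤ Q) (hne : ¬ Z ≤ c.UG)
    (hf : c.f ∈ normalizer (Z : Set G)) (hx : c.x ∈ normalizer (Z : Set G)) (ht : c.t ∈ normalizer (Z : Set G)) :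
    c.Lay c.UG Z := by
  refine Lay.of_fpf c (T := c.UG ⊔ Z ⊓ c.H) hUZ hne (hQ.p3.to_le hZQ) ?_ c.f_norm_U hf c.x_norm_U hx
    (fun a ha b hb => hQ.comm a (hZQ ha) b (hZQ hb)) (fun m hm h => ?_) ?_
  · exact fun g hg => mem_normalizer_of_map _ fun z hz => by
      rw [hQ.central (hZQ hg) hz, mul_inv_cancel_right]; exact hz
  · obtain ⟨a, ha, b, hb, hat, hbt, rfl⟩ := c.decomp (hQ.odd.of_dvd_nat (card_dvd_of_le hZQ)) ht hm
    have haU := hQ.fixed_t (hZQ ha) hat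
    have hfa : c.f * a * c.f⁻¹ ∈ c.UG := (mem_normalizer_iff.1 c.f_norm_U a).1 haU
    have hb' : c.f * b * c.f⁻¹ * b⁻¹ ∈ c.UG := by
      rw [show c.f * b * c.f⁻¹ * b⁻¹ = (c.f * a * c.f⁻¹)⁻¹ * (c.f * (a * b) * c.f⁻¹ * (a * b)⁻¹) * a by group]
      exact mul_mem (mul_mem (inv_mem hfa) h) haU
    exact mul_mem (mem_sup_left haU)
      (mem_sup_right (Subgroup.mem_inf.2 ⟨hb, c.mem_H_of_f (hQ.fix_mod_U (hZQ hb) hbt hb')⟩))
  · have h := Solv.card_sup_mul_card_inf' c.UG (Z ⊓ c.H) fun g hg => mem_normalizer_of_map _ fun z hz => by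
      rw [hQ.central (hZQ (Subgroup.mem_inf.1 hg).1) hz, mul_inv_cancel_right]; exact hz
    have h3 : 3 ≤ Nat.card (c.UG ⊓ (Z ⊓ c.H) : Subgroup G) := c.three_le_of_r
      (Subgroup.mem_inf.2 ⟨⟨1, rfl⟩, Subgroup.mem_inf.2 ⟨hUZ ⟨1, rfl⟩, c.r_H⟩⟩)
    have h9 : Nat.card (Z ⊓ c.H : Subgroup G) ≤ 9 :=
      (card_le_of_le (inf_le_inf_right c.H hZQ)).trans (Nat.le_of_dvd (by norm_num) hQ.card_QH)
    have h1 := Nat.mul_le_mul_left (Nat.card (c.UG ⊔ Z ⊓ c.H : Subgroup G)) h3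
    have h2 := Nat.mul_le_mul_left (Nat.card c.UG) h9
    omega

theorem tower [IsSimpleGroup G] : c.Tower Q c.UG := by
  refine ⟨hQ.p3, hQ.f_norm, fun n => hQ.meet, ?_, hQ.U_le, c.U_lay, fun z hz p hp => hQ.central hp hz, c.U_hno⟩
  by_cases hne : Q ≤ c.UG
  · refine ⟨1, fun j => if j = 0 then ⊥ else Q, rfl, rfl, fun j hj => ?_⟩
    rw [show j = 0 by omega]
    show c.Lay ⊥ Q
    rw [le_antisymm hne hQ.U_le]
    exact c.U_lay
  · refine ⟨2, fun j => if j = 0 then ⊥ else if j = 1 then c.UG else Q, rfl, rfl, fun j hj => ?_⟩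
    rcases (show j = 0 ∨ j = 1 by omega) with rfl | rfl
    · exact c.U_lay
    · exact hQ.lay_U hQ.U_le le_rfl hne hQ.f_norm hQ.x_norm hQ.t_norm

/-- What normalises `Q ⟨τ⟩` normalises `Q`. -/
theorem norm_of_P1 [IsSimpleGroup G] {g : G} (hg : g ∈ normalizer (hQ.tower.P1 : Set G)) :
    g ∈ normalizer (Q : Set G) := by
  classical
  set T := hQ.tower
  have hP1 : Nat.card T.P1 = Nat.card Q * c.t3 := T.card_P1
  refine mem_normalizer_of_map _ fun z hz => ?_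
  obtain ⟨w, hw, i, hwi⟩ := (mem_normalizer_iff.1 hg z).1 (T.P0_le hz)
  by_cases hi : c.t3 ∣ i
  · rw [hwi, c.tau_pow_eq_one.2 hi, mul_one]; exact hw
  exfalso
  set y := g * z * g⁻¹ with hy
  -- the centraliser of `z`
  set Cz : Subgroup G := T.P1 ⊓ centralizer ({z} : Set G) with hCz
  set Cy : Subgroup G := T.P1 ⊓ centralizer ({y} : Set G) with hCy
  have hcard : Nat.card Cz ≤ Nat.card Cy := Nat.card_le_card_of_injective
    (fun a => (⟨g * a * g⁻¹, Subgroup.mem_inf.2 ⟨(mem_normalizer_iff.1 hg _).1 (Subgroup.mem_inf.1 a.2).1,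
      mem_centralizer_singleton_iff.2 (by
        rw [hy, show g * (a : G) * g⁻¹ * (g * z * g⁻¹) = g * ((a : G) * z) * g⁻¹ by group,
          mem_centralizer_singleton_iff.1 (Subgroup.mem_inf.1 a.2).2]
        group)⟩⟩ : Cy))
    fun a b h => Subtype.ext (mul_left_cancel (mul_right_cancel (congrArg Subtype.val h :)))
  -- the centraliser of `y` is small
  have hsmall1 : Nat.card Cy ≤ c.t3 * Nat.card (Cy ⊓ Q : Subgroup G) := by
    have hle : Cy ≤ normalizer (Q : Set G) := fun a ha => by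
      obtain ⟨z', hz', j, rfl⟩ := (Subgroup.mem_inf.1 ha).1
      exact mul_mem (le_normalizer hz') (pow_mem (pow_mem hQ.f_norm c.mm) j)
    have h := Solv.card_sup_mul_card_inf' Q Cy hle
    have hle2 : Nat.card (Q ⊔ Cy : Subgroup G) ≤ Nat.card Q * c.t3 :=
      hP1 ▸ card_le_of_le (sup_le T.P0_le inf_le_left)
    have h2 := Nat.mul_le_mul_right (Nat.card (Q ⊓ Cy : Subgroup G)) hle2
    rw [h, inf_comm] at h2
    exact Nat.le_of_mul_le_mul_left (h2.trans_eq (mul_assoc _ _ _)) Nat.card_pos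
  set k := 3 ^ (c.mm * (c.t3 / 3)) with hk
  obtain ⟨b, hb0, hb⟩ : ∃ b, 0 < b ∧ c.t3 = 3 ^ b :=
    ⟨_, Nat.Prime.factorization_pos_of_dvd Nat.prime_three c.ee_pos.ne' c.h3e, rfl⟩
  have hdiv : c.t3 / 3 = 3 ^ (b - 1) := by
    rw [hb]; nth_rw 2 [← pow_one 3]; exact Nat.pow_div hb0 (by norm_num)
  -- fixed points in a layer
  have layfix : ∀ {N M : Subgroup G}, c.Lay N M → ∀ A : Subgroup G, A ≤ M →
      (∀ m ∈ A, c.tau ^ i * m * (c.tau ^ i)⁻¹ * m⁻¹ ∈ N) → Nat.card A ≤ k * Nat.card (A ⊓ N : Subgroup G) := by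
    intro N M hl A hA hfix
    obtain ⟨K, hNK, hKM, hKc, hKm⟩ := hl.fixtau (b - 1) (by rw [hb]; exact pow_dvd_pow 3 (Nat.sub_le _ _))
    rw [← hdiv, ← hk] at hKc
    have hAK : A ≤ K := fun m hm => (hKm m (hA hm)).2 (by
      let S : Subgroup G :=
        { carrier := {h | h ∈ normalizer (N : Set G) ∧ h * m * h⁻¹ * m⁻¹ ∈ N}
          one_mem' := ⟨one_mem _, by simp [one_mem]⟩
          mul_mem' := fun {p r} hp hr => ⟨mul_mem hp.1 hr.1, by
            rw [show p * r * m * (p * r)⁻¹ * m⁻¹ = p * (r * m * r⁻¹ * m⁻¹) * p⁻¹ * (p * m * p⁻¹ * m⁻¹) by group]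
            exact mul_mem ((mem_normalizer_iff.1 hp.1 _).1 hr.2) hp.2⟩
          inv_mem' := fun {p} hp => ⟨inv_mem hp.1, by
            rw [show p⁻¹ * m * p⁻¹⁻¹ * m⁻¹ = p⁻¹ * (p * m * p⁻¹ * m⁻¹)⁻¹ * p⁻¹⁻¹ by group]
            exact (mem_normalizer_iff.1 (inv_mem hp.1) _).1 (inv_mem hp.2)⟩ }
      rw [← hdiv]
      exact ((zpowers_le.2 (show c.tau ^ i ∈ S from ⟨pow_mem (pow_mem hl.fN c.mm) i, hfix m hm⟩))
        (c.tau_div_mem hi)).2)
    have h1 := Solv.card_sup_mul_card_inf' N A (fun a ha => hl.nrm (hA ha))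
    have h2 := Nat.mul_le_mul_right (Nat.card (N ⊓ A : Subgroup G)) (card_le_of_le (sup_le hNK hAK))
    rw [h1, hKc, mul_comm k, mul_assoc, inf_comm] at h2
    exact Nat.le_of_mul_le_mul_left h2 Nat.card_pos
  have hfixU : Nat.card (Cy ⊓ Q ⊓ c.UG : Subgroup G) ≤ k := by
    have h := layfix c.U_lay (Cy ⊓ Q ⊓ c.UG) inf_le_right fun m hm => by
      obtain ⟨hmC, hmU⟩ := Subgroup.mem_inf.1 hm
      have hmC' : m ∈ T.P1 ⊓ centralizer ({y} : Set G) := (Subgroup.mem_inf.1 hmC).1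
      have hmy := mem_centralizer_singleton_iff.1 (Subgroup.mem_inf.1 hmC').2
      rw [hwi] at hmy
      rw [mem_bot, mul_inv_eq_one, mul_inv_eq_iff_eq_mul]
      refine mul_left_cancel (a := w) ?_
      rw [← mul_assoc, ← mul_assoc, hQ.central hw hmU, mul_assoc m w, hmy]
    rwa [inf_bot_eq, card_bot, mul_one] at h
  have hfixQ : ¬ Q ≤ c.UG → Nat.card (Cy ⊓ Q : Subgroup G) ≤ k * k := fun hne => by
    have h := layfix (hQ.lay_U hQ.U_le le_rfl hne hQ.f_norm hQ.x_norm hQ.t_norm) (Cy ⊓ Q)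
      inf_le_right fun m hm => by
      obtain ⟨hmC, hmQ⟩ := Subgroup.mem_inf.1 hm
      have hmC' : m ∈ T.P1 ⊓ centralizer ({y} : Set G) := hmC
      have hmy := mem_centralizer_singleton_iff.1 (Subgroup.mem_inf.1 hmC').2
      rw [hwi] at hmy
      have e : c.tau ^ i * m * (c.tau ^ i)⁻¹ * m⁻¹ = w⁻¹ * m * w * m⁻¹ := by
        have e1 : c.tau ^ i * m = w⁻¹ * m * (w * c.tau ^ i) := by
          rw [mul_assoc w⁻¹ m, hmy]; group
        rw [e1]; group
      rw [e]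
      simpa using hQ.comm _ (inv_mem hw) m hmQ
    exact h.trans (Nat.mul_le_mul_left _ hfixU)
  have hqU : ∀ a ∈ c.UG, a * z = z * a := fun a ha => (hQ.central hz ha).symm
  have hq : Nat.card c.UG = k * k * k := by
    rw [c.card_UG, hk, ← pow_add, ← pow_add]
    congr 1
    rw [← c.t3_mul_mm]
    conv_lhs => rw [← Nat.div_mul_cancel c.three_dvd_t3]
    ring
  have hbk : 3 ^ b < 3 * k := by
    rw [hk, hdiv, ← pow_succ']
    refine Nat.pow_lt_pow_right (by norm_num) (Nat.lt_succ_of_le ?_)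
    have h1 := Nat.lt_pow_self (n := b - 1) (by norm_num : 1 < 3)
    have h2 := Nat.le_mul_of_pos_left (3 ^ (b - 1)) c.mm_pos
    omega
  have hk3 : 3 ≤ k := Nat.le_self_pow (Nat.mul_ne_zero c.mm_pos.ne' (by rw [hdiv]; exact pow_ne_zero _ (by norm_num))) 3
  rw [← hb] at hbk
  by_cases hne : Q ≤ c.UG
  · have h1 : Nat.card (Cy ⊓ Q : Subgroup G) ≤ k :=
      le_trans (card_le_of_le (le_inf le_rfl (inf_le_right.trans hne))) hfixU
    have h2 : Nat.card Q ≤ Nat.card Cz := card_le_of_le (le_inf T.P0_le fun a ha =>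
      mem_centralizer_singleton_iff.2 (hqU a (hne ha)))
    have h3 := (card_le_of_le hQ.U_le).trans (h2.trans (hcard.trans hsmall1))
    have h4 := Nat.mul_le_mul_left c.t3 h1
    have h5 : k * k ≤ c.t3 := Nat.le_of_mul_le_mul_right ((hq ▸ h3).trans h4) (by omega)
    nlinarith
  · have h1 := hfixQ hne
    have h2 : 3 * Nat.card c.UG ≤ Nat.card Cz := by
      have hlow : ∀ A : Subgroup G, c.UG < A → A ≤ Q → 3 * Nat.card c.UG ≤ Nat.card A := fun A hlt hAQ => by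
        haveI := Fact.mk Nat.prime_three
        obtain ⟨a, ha⟩ := IsPGroup.iff_card.1 c.UG_p3
        obtain ⟨b', hb'⟩ := IsPGroup.iff_card.1 (hQ.p3.to_le hAQ)
        rw [ha, hb', ← pow_succ']
        refine Nat.pow_le_pow_right (by norm_num) ?_
        by_contra hab
        refine hlt.ne (eq_of_le_of_card_ge hlt.le ?_)
        rw [ha, hb']
        exact Nat.pow_le_pow_right (by norm_num) (by omega)
      by_cases hzU : z ∈ c.UG
      · exact (hlow Q (lt_of_le_of_ne hQ.U_le fun h => hne h.ge) le_rfl).trans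
          (card_le_of_le (le_inf T.P0_le fun a ha => mem_centralizer_singleton_iff.2 (hQ.central ha hzU)))
      · refine (hlow (c.UG ⊔ zpowers z) ?_ (sup_le hQ.U_le (zpowers_le.2 hz))).trans (card_le_of_le (le_inf
          ((sup_le hQ.U_le (zpowers_le.2 hz)).trans T.P0_le) (sup_le (fun a ha =>
          mem_centralizer_singleton_iff.2 (hqU a ha)) (zpowers_le.2 (mem_centralizer_singleton_iff.2 rfl)))))
        exact lt_of_le_of_ne le_sup_left fun h => hzU (h ▸ mem_sup_right (mem_zpowers z))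
    have h3 := h2.trans (hcard.trans hsmall1)
    have h4 := Nat.mul_le_mul_left c.t3 h1
    rw [hq] at h3
    have h5 : 3 * k * (k * k) ≤ c.t3 * (k * k) := le_trans (le_of_eq (by ring)) (h3.trans h4)
    have h6 := Nat.le_of_mul_le_mul_right h5 (by positivity)
    omega

end IsQ

/-- The elementary abelian group `Q = U × V'`. -/
structure QV (Q Vt : Subgroup G) : Prop where
  isQ : c.IsQ Q
  comm : ∀ a ∈ Q, ∀ b ∈ Q, a * b = b * a
  cube : ∀ a ∈ Q, a ^ 3 = 1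
  card : Nat.card Q = 3 ^ c.ee * 3 ^ c.ee
  card_QH : Nat.card (Q ⊓ c.H : Subgroup G) = 9
  V_le : Vt ≤ Q
  V_inv : ∀ v ∈ Vt, c.t * v * c.t⁻¹ = v⁻¹
  split : ∀ g ∈ Q, ∃ a ∈ c.UG, ∃ b ∈ Vt, g = a * b
  layV : c.Lay ⊥ Vt
  layQ : c.Lay Vt Q
  hno : ∀ g : G, g * c.f1 * g⁻¹ ∉ Vt
  card_Qtau : Nat.card (Q ⊓ centralizer ({c.tau} : Set G) : Subgroup G) = (3 ^ c.mm) ^ 2
  grow : ∃ R : Subgroup G, IsPGroup 3 R ∧ R ≤ centralizer ({c.tau} : Set G) ∧ R ≤ normalizer (Q : Set G) ∧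
    c.t3 * (3 ^ c.mm) ^ 2 < Nat.card R

theorem exists_QV [IsSimpleGroup G] (hB : c.TB) : ∃ Q Vt : Subgroup G, c.QV Q Vt := by
  classical
  haveI := Fact.mk Nat.prime_three
  obtain ⟨Q, hQ⟩ := c.exists_Q
  set T := hQ.tower
  obtain ⟨P2, hP2, hle, hcard, hnorm⟩ := exists_grow T.P1_p3 (T.not_sylow hB)
  have hP1 : Nat.card T.P1 = Nat.card Q * c.t3 := T.card_P1
  have hNQ : ∀ g ∈ P2, g ∈ normalizer (Q : Set G) := fun g hg => hQ.norm_of_P1 (hnorm hg)
  -- the centre of `Q`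
  set Z : Subgroup G := Q ⊓ centralizer (Q : Set G) with hZ
  have hUZ : c.UG ≤ Z := le_inf hQ.U_le fun z hz => mem_centralizer_iff.2 fun a ha => hQ.central ha hz
  have normZ : ∀ g, g ∈ normalizer (Q : Set G) → g ∈ normalizer (Z : Set G) := fun g hg =>
    mem_normalizer_of_map _ fun z hz => by
      refine Subgroup.mem_inf.2 ⟨(mem_normalizer_iff.1 hg z).1 (Subgroup.mem_inf.1 hz).1, mem_centralizer_iff.2 fun a ha => ?_⟩
      have ha' : g⁻¹ * a * g ∈ Q := by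
        have := (mem_normalizer_iff.1 (inv_mem hg) a).1 ha
        rwa [inv_inv] at this
      have h := mem_centralizer_iff.1 (Subgroup.mem_inf.1 hz).2 _ ha'
      calc a * (g * z * g⁻¹) = g * ((g⁻¹ * a * g) * z) * g⁻¹ := by group
        _ = g * (z * (g⁻¹ * a * g)) * g⁻¹ := by rw [h]
        _ = g * z * g⁻¹ * a := by group
  have hneZ : ¬ Z ≤ c.UG := by
    intro h
    have hZU : Z = c.UG := le_antisymm h hUZ
    have h1 := hQ.bound P2 hP2 fun g hg => hZU ▸ normZ g (hNQ g hg)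
    have h2 := Nat.le_of_dvd (Nat.mul_pos Nat.card_pos c.t3_pos) h1
    rw [hcard, hP1] at h2
    have := Nat.mul_pos (Nat.card_pos (α := Q)) c.t3_pos
    omega
  have hne : ¬ Q ≤ c.UG := fun h => hneZ (inf_le_left.trans h)
  have layU : c.Lay c.UG Q := hQ.lay_U hQ.U_le le_rfl hne hQ.f_norm hQ.x_norm hQ.t_norm
  have layZ : c.Lay c.UG Z :=
    hQ.lay_U hUZ inf_le_left hneZ (normZ _ hQ.f_norm) (normZ _ hQ.x_norm) (normZ _ hQ.t_norm)
  have hZQ : Z = Q := eq_of_le_of_card_ge inf_le_left (by rw [layU.card, layZ.card])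
  have hcomm : ∀ a ∈ Q, ∀ b ∈ Q, a * b = b * a := fun a ha b hb =>
    mem_centralizer_iff.1 (Subgroup.mem_inf.1 (hZQ.symm ▸ hb : b ∈ Z)).2 a ha
  let Vt : Subgroup G :=
    { carrier := {v | v ∈ Q ∧ c.t * v * c.t⁻¹ = v⁻¹}
      one_mem' := ⟨one_mem _, by group⟩
      mul_mem' := fun {a b} ha hb => ⟨mul_mem ha.1 hb.1, by
        rw [show c.t * (a * b) * c.t⁻¹ = c.t * a * c.t⁻¹ * (c.t * b * c.t⁻¹) by group, ha.2, hb.2,
          mul_inv_rev, hcomm _ (inv_mem ha.1) _ (inv_mem hb.1)]⟩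
      inv_mem' := fun {a} ha => ⟨inv_mem ha.1, by
        rw [show c.t * a⁻¹ * c.t⁻¹ = (c.t * a * c.t⁻¹)⁻¹ by group, ha.2]⟩ }
  have hVQ : Vt ≤ Q := fun v hv => hv.1
  have hsplit : ∀ g ∈ Q, ∃ a ∈ c.UG, ∃ b ∈ Vt, g = a * b := fun g hg => by
    obtain ⟨a, ha, b, hb, hat, hbt, e⟩ := c.decomp hQ.odd hQ.t_norm hg
    exact ⟨a, hQ.fixed_t ha hat, b, ⟨hb, hbt⟩, e⟩
  have hUV : ∀ z, z ∈ c.UG → z ∈ Vt → z = 1 := fun z hz hzV => by
    have e := hzV.2
    rw [← c.UG_t hz, mul_inv_cancel_right] at e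
    rw [← orderOf_eq_one_iff]
    exact Nat.eq_one_of_dvd_coprimes (show Nat.Coprime 2 3 by norm_num)
      (orderOf_dvd_of_pow_eq_one (by rw [pow_two, mul_eq_one_iff_eq_inv]; exact e))
      (orderOf_dvd_of_pow_eq_one (c.UG_cube hz))
  have hV3 : ∀ v ∈ Vt, v ^ 3 = 1 := fun v hv => hUV _ (layU.cube v (hVQ hv)) (pow_mem hv 3)
  have hcube : ∀ a ∈ Q, a ^ 3 = 1 := fun g hg => by
    obtain ⟨a, ha, b, hb, rfl⟩ := hsplit g hg
    rw [(show Commute a b from hcomm a (hQ.U_le ha) b (hVQ hb)).mul_pow, c.UG_cube ha, hV3 b hb, one_mul]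
  -- the fixed points
  obtain ⟨b0, hb0V, hb0H, hb0⟩ : ∃ b, b ∈ Vt ∧ b ∈ c.H ∧ b ≠ 1 := by
    obtain ⟨K, -, hKQ, hKc, hKf⟩ := layU.fixf
    obtain ⟨m, hmK, hmU⟩ := SetLike.not_le_iff_exists.1 fun h : K ≤ c.UG => by
      have := card_le_of_le h
      have := Nat.card_pos (α := c.UG)
      omega
    have hm := hKQ hmK
    have hfm := (hKf m hm).1 hmK
    obtain ⟨a, ha, b, hb, rfl⟩ := hsplit m hm
    have hfa : c.f * a * c.f⁻¹ ∈ c.UG := (mem_normalizer_iff.1 c.f_norm_U a).1 ha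
    refine ⟨b, hb, c.mem_H_of_f (hQ.fix_mod_U (hVQ hb) hb.2 ?_), fun e => hmU (by rw [e, mul_one]; exact ha)⟩
    rw [show c.f * b * c.f⁻¹ * b⁻¹ = (c.f * a * c.f⁻¹)⁻¹ * (c.f * (a * b) * c.f⁻¹ * (a * b)⁻¹) * a by group]
    exact mul_mem (mul_mem (inv_mem hfa) hfm) ha
  have hVH3 : 3 ≤ Nat.card (Vt ⊓ c.H : Subgroup G) := by
    rw [← orderOf_eq_prime (hV3 b0 hb0V) hb0]
    exact Nat.le_of_dvd Nat.card_pos ((Vt ⊓ c.H).orderOf_dvd_natCard (Subgroup.mem_inf.2 ⟨hb0V, hb0H⟩))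
  have hprod : Nat.card (c.UG ⊓ c.H : Subgroup G) * Nat.card (Vt ⊓ c.H : Subgroup G) ≤
      Nat.card (Q ⊓ c.H : Subgroup G) := by
    rw [← Nat.card_prod]
    refine Nat.card_le_card_of_injective (fun p => (⟨(p.1 : G) * p.2, Subgroup.mem_inf.2
      ⟨mul_mem (hQ.U_le (Subgroup.mem_inf.1 p.1.2).1) (hVQ (Subgroup.mem_inf.1 p.2.2).1),
        mul_mem (Subgroup.mem_inf.1 p.1.2).2 (Subgroup.mem_inf.1 p.2.2).2⟩⟩ : (Q ⊓ c.H : Subgroup G))) fun p q h => ?_
    have hd : Disjoint (c.UG ⊓ c.H) (Vt ⊓ c.H) := Subgroup.disjoint_def.2 fun {z} h1 h2 =>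
      hUV z (Subgroup.mem_inf.1 h1).1 (Subgroup.mem_inf.1 h2).1
    exact mul_injective_of_disjoint hd (congrArg Subtype.val h :)
  have hUH3 := c.three_le_of_r c.r_UH
  have h9 := Nat.le_of_dvd (by norm_num) hQ.card_QH
  have hQH : Nat.card (Q ⊓ c.H : Subgroup G) = 9 := by nlinarith
  have hVnorm : ∀ g, g ∈ normalizer (Q : Set G) → g * c.t = c.t * g → g ∈ normalizer (Vt : Set G) := fun g hg hgt =>
    mem_normalizer_of_map _ fun v hv => ⟨(mem_normalizer_iff.1 hg v).1 hv.1, by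
      rw [show c.t * (g * v * g⁻¹) * c.t⁻¹ = c.t * g * v * (c.t * g)⁻¹ by group, ← hgt,
        show g * c.t * v * (g * c.t)⁻¹ = g * (c.t * v * c.t⁻¹) * g⁻¹ by group, hv.2]
      group⟩
  have hfV := hVnorm _ hQ.f_norm c.f_t
  have hxV := hVnorm _ hQ.x_norm c.x_t
  have layV : c.Lay ⊥ Vt := by
    refine Lay.of_fpf c (T := Vt ⊓ c.H) bot_le (fun h => hb0 (mem_bot.1 (h hb0V))) (hQ.p3.to_le hVQ)
      (by rw [normalizer_eq_top]; exact le_top) (by rw [normalizer_eq_top]; trivial) hfV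
      (by rw [normalizer_eq_top]; trivial) hxV
      (fun a ha b hb => by rw [mem_bot, hcomm a (hVQ ha) b (hVQ hb)]; group) (fun m hm h => ?_) ?_
    · rw [mem_bot, mul_inv_eq_one, mul_inv_eq_iff_eq_mul] at h
      exact Subgroup.mem_inf.2 ⟨hm, c.mem_H_of_f h⟩
    · rw [card_bot]; nlinarith
  have layQ : c.Lay Vt Q := by
    refine Lay.of_fpf c (T := Vt ⊔ Q ⊓ c.H) hVQ (fun h => ?_) hQ.p3 ?_ hfV hQ.f_norm hxV hQ.x_norm
      (fun a ha b hb => by rw [hcomm a ha b hb]; simp [one_mem]) (fun m hm h => ?_) ?_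
    · exact c.r_ne (hUV _ ⟨1, rfl⟩ (h (hQ.U_le ⟨1, rfl⟩)))
    · exact fun g hg => mem_normalizer_of_map _ fun z hz => by
        rw [hcomm g hg z (hVQ hz), mul_inv_cancel_right]; exact hz
    · obtain ⟨a, ha, b, hb, rfl⟩ := hsplit m hm
      have hfb : c.f * b * c.f⁻¹ ∈ Vt := (mem_normalizer_iff.1 hfV b).1 hb
      have hfaU : c.f * a * c.f⁻¹ * a⁻¹ ∈ c.UG := mul_mem ((mem_normalizer_iff.1 c.f_norm_U a).1 ha) (inv_mem ha)
      have hfaV : c.f * a * c.f⁻¹ * a⁻¹ ∈ Vt := by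
        have hd : b⁻¹ * (c.f * b * c.f⁻¹) ∈ Vt := mul_mem (inv_mem hb) hfb
        have e : c.f * (a * b) * c.f⁻¹ * (a * b)⁻¹ =
            c.f * a * c.f⁻¹ * ((c.f * b * c.f⁻¹) * b⁻¹) * a⁻¹ := by group
        rw [e, hcomm (c.f * b * c.f⁻¹) (hVQ hfb) b⁻¹ (inv_mem (hVQ hb)), mul_assoc (c.f * a * c.f⁻¹),
          hcomm _ (hVQ hd) a⁻¹ (inv_mem (hQ.U_le ha)), ← mul_assoc] at h
        have := mul_mem h (inv_mem hd)
        rwa [mul_inv_cancel_right] at this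
      have h1 := hUV _ hfaU hfaV
      rw [mul_inv_eq_one, mul_inv_eq_iff_eq_mul] at h1
      rw [hcomm a (hQ.U_le ha) b (hVQ hb)]
      exact mul_mem (mem_sup_left hb) (mem_sup_right (Subgroup.mem_inf.2 ⟨hQ.U_le ha, c.mem_H_of_f h1⟩))
    · have h := Solv.card_sup_mul_card_inf' Vt (Q ⊓ c.H) fun g hg => mem_normalizer_of_map _ fun z hz => by
        rw [hcomm g (Subgroup.mem_inf.1 hg).1 z (hVQ hz), mul_inv_cancel_right]; exact hz
      have h3 : 3 ≤ Nat.card (Vt ⊓ (Q ⊓ c.H) : Subgroup G) := by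
        rw [← inf_assoc, inf_eq_left.2 hVQ]; exact hVH3
      have h1 := Nat.mul_le_mul_left (Nat.card (Vt ⊔ Q ⊓ c.H : Subgroup G)) h3
      rw [hQH] at h
      omega
  have hUV1 : c.U1 ⊓ (Vt ⊓ centralizer ({c.tau} : Set G)) = ⊥ := (eq_bot_iff_forall _).2 fun z hz =>
    hUV z (Subgroup.mem_inf.1 (Subgroup.mem_inf.1 hz).1).1 (Subgroup.mem_inf.1 (Subgroup.mem_inf.1 hz).2).1
  have hVtau : Nat.card (Vt ⊓ centralizer ({c.tau} : Set G) : Subgroup G) = 3 ^ c.mm := by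
    obtain ⟨K, -, hKV, hKc, hKm⟩ := layV.fixtau 0 (by simp)
    rw [card_bot, mul_one, pow_zero, mul_one] at hKc
    rw [← hKc]
    have e : Vt ⊓ centralizer ({c.tau} : Set G) = K := by
      ext m
      rw [Subgroup.mem_inf, mem_centralizer_singleton_iff]
      constructor
      · rintro ⟨hm, hmt⟩
        rw [hKm m hm, pow_zero, pow_one, mem_bot, ← hmt, mul_inv_cancel_right, mul_inv_cancel]
      · intro hm
        refine ⟨hKV hm, ?_⟩
        have := (hKm m (hKV hm)).1 hm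
        rw [pow_zero, pow_one, mem_bot, mul_inv_eq_one, mul_inv_eq_iff_eq_mul] at this
        exact this.symm
    rw [e]
  have hQtau : Nat.card (Q ⊓ centralizer ({c.tau} : Set G) : Subgroup G) = (3 ^ c.mm) ^ 2 := by
    have e : Q ⊓ centralizer ({c.tau} : Set G) = c.U1 ⊔ (Vt ⊓ centralizer ({c.tau} : Set G)) := by
      refine le_antisymm (fun g hg => ?_) (sup_le (inf_le_inf_right _ hQ.U_le) (inf_le_inf_right _ hVQ))
      obtain ⟨hgQ, hgt⟩ := Subgroup.mem_inf.1 hg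
      obtain ⟨a, ha, b, hb, rfl⟩ := hsplit g hgQ
      have htU := (mem_normalizer_iff.1 (pow_mem c.f_norm_U c.mm) a).1 ha
      have htV := (mem_normalizer_iff.1 (pow_mem hfV c.mm) b).1 hb
      have h1 : (c.tau * a * c.tau⁻¹) * (c.tau * b * c.tau⁻¹) = a * b := by
        rw [show c.tau * a * c.tau⁻¹ * (c.tau * b * c.tau⁻¹) = c.tau * (a * b) * c.tau⁻¹ by group,
          ← mem_centralizer_singleton_iff.1 hgt, mul_inv_cancel_right]
      have h2 : a⁻¹ * (c.tau * a * c.tau⁻¹) = b * (c.tau * b * c.tau⁻¹)⁻¹ := by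
        rw [eq_mul_inv_iff_mul_eq, mul_assoc, h1, inv_mul_cancel_left]
      have h3 : a⁻¹ * (c.tau * a * c.tau⁻¹) = 1 :=
        hUV _ (mul_mem (inv_mem ha) htU) (h2 ▸ mul_mem hb (inv_mem htV))
      rw [h3] at h2
      rw [inv_mul_eq_one] at h3
      rw [eq_comm, mul_inv_eq_one] at h2
      refine mul_mem (mem_sup_left (Subgroup.mem_inf.2 ⟨ha, mem_centralizer_singleton_iff.2 ?_⟩))
        (mem_sup_right (Subgroup.mem_inf.2 ⟨hb, mem_centralizer_singleton_iff.2 ?_⟩))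
      · exact (mul_inv_eq_iff_eq_mul.1 h3.symm).symm
      · exact (mul_inv_eq_iff_eq_mul.1 h2.symm).symm
    have h := Solv.card_sup_mul_card_inf' c.U1 (Vt ⊓ centralizer ({c.tau} : Set G)) fun g hg =>
      mem_normalizer_of_map _ fun z hz => by
        rw [hcomm g (hVQ (Subgroup.mem_inf.1 hg).1) z (hQ.U_le (Subgroup.mem_inf.1 hz).1), mul_inv_cancel_right]
        exact hz
    rw [hUV1, card_bot, mul_one, c.card_U1, hVtau] at h
    rw [e, h, pow_two]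
  refine ⟨Q, Vt, hQ, hcomm, hcube, ?_, hQH, hVQ, fun v hv => hv.2, hsplit, layV, layQ, ?_, hQtau, ?_⟩
  · rw [layU.card, c.card_UG]
  · intro g hg
    have hf1 : c.f1 ∈ c.C.PhiG := pow_mem c.f_mem _
    have e : g⁻¹ * c.t * g * c.f1 * (g⁻¹ * c.t * g)⁻¹ = c.f1⁻¹ := by
      rw [show g⁻¹ * c.t * g * c.f1 * (g⁻¹ * c.t * g)⁻¹ = g⁻¹ * (c.t * (g * c.f1 * g⁻¹) * c.t⁻¹) * g by group, hg.2]
      group
    have h2 := c.C.Phi_conj hf1 (inv_mem hf1) e
    have hne1 : c.f1 ≠ 1 := fun e => by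
      rw [f1, c.f_pow_eq_one] at e
      have := Nat.le_of_dvd (Nat.div_pos c.three_le (by norm_num)) e
      have := c.ee_div
      have := c.three_le
      omega
    refine hne1 ?_
    rw [← orderOf_eq_one_iff]
    exact Nat.eq_one_of_dvd_coprimes (show Nat.Coprime 2 3 by norm_num)
      (orderOf_dvd_of_pow_eq_one (by rw [pow_two, mul_eq_one_iff_eq_inv]; exact h2))
      (orderOf_dvd_of_pow_eq_one c.f1_cube)
  · -- the growth inside `C(τ)`
    refine ⟨P2 ⊓ centralizer ({c.tau} : Set G), hP2.to_le inf_le_left, inf_le_right,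
      fun g hg => hNQ g (Subgroup.mem_inf.1 hg).1, ?_⟩
    set A := (Q ⊓ centralizer ({c.tau} : Set G)) ⊔ zpowers c.tau
    have hAP1 : A ≤ T.P1 := sup_le (inf_le_left.trans T.P0_le) (zpowers_le.2 T.tau_P1)
    have hAt : A ≤ centralizer ({c.tau} : Set G) :=
      sup_le inf_le_right (zpowers_le.2 (mem_centralizer_singleton_iff.2 rfl))
    have hAcard : Nat.card A = c.t3 * (3 ^ c.mm) ^ 2 := by
      have hnorm : zpowers c.tau ≤ normalizer ((Q ⊓ centralizer ({c.tau} : Set G) : Subgroup G) : Set G) :=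
        zpowers_le.2 (mem_normalizer_of_map _ fun z hz => by
          rw [← mem_centralizer_singleton_iff.1 (Subgroup.mem_inf.1 hz).2, mul_inv_cancel_right]; exact hz)
      have hinf : Q ⊓ centralizer ({c.tau} : Set G) ⊓ zpowers c.tau = ⊥ := (eq_bot_iff_forall _).2 fun y hy => by
        obtain ⟨hyQ, hyt⟩ := Subgroup.mem_inf.1 hy
        obtain ⟨n, rfl⟩ := mem_powers_iff_mem_zpowers.2 hyt
        exact c.tau_pow_eq_one.2 (T.meet_tau (Subgroup.mem_inf.1 hyQ).1)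
      have h := Solv.card_sup_mul_card_inf' _ _ hnorm
      rwa [hinf, card_bot, mul_one, Nat.card_zpowers, c.ord_tau, hQtau, mul_comm _ c.t3] at h
    obtain ⟨g, hg, hgP1⟩ : ∃ g ∈ P2, g ∉ T.P1 := by
      refine SetLike.not_le_iff_exists.1 fun h => ?_
      have := card_le_of_le h
      rw [hcard] at this
      have := Nat.card_pos (α := T.P1)
      omega
    obtain ⟨v, hv, hvg⟩ := T.norm_cases hB ((mem_normalizer_iff.1 (hnorm hg) _).1 T.tau_P1)
    rw [← hAcard]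
    refine lt_of_le_of_ne (card_le_of_le (le_inf (hAP1.trans hle) hAt)) fun h => hgP1 ?_
    have hmem : v * g ∈ A := by
      rw [eq_of_le_of_card_ge (le_inf (hAP1.trans hle) hAt) h.ge]
      exact Subgroup.mem_inf.2 ⟨mul_mem (hle (T.P0_le hv)) hg, mem_centralizer_singleton_iff.2 hvg⟩
    simpa using mul_mem (inv_mem (T.P0_le hv)) (hAP1 hmem)

end Cfg

end Cfsg.Agent.Walter.JR.Res3
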