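import Cfsg.Agent.Lib.Walter.JR.Res3.RGroup

/-!
# The layer above `Q` and the contradiction

The preimage `M₀` of the three-core of the image of `O` in `Aut Q` has a normal Sylow 3-subgroup `P₀` with a free
layer over `Q` and `V'` in its centre; `P₀ ⟨τ⟩` is not a Sylow subgroup, so `C(τ)` has too large a 3-subgroup.
-/

set_option autoImplicit false
set_option linter.unusedSectionVars false
set_option linter.style.haveILetI false

namespace Cfsg.Agent.Walter.JR.Res3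

open Subgroup Cfsg.Agent.Char.ReeThree Cfsg.Agent.Char.ReeOrder Cfsg.Agent.Small
open scoped Pointwise

universe u

namespace Cfg

variable {G : Type u} [Group G] [Finite G] {F : Type} [Field F] [Fintype F] (c : Cfg G F)

namespace NData

variable {c} {Q Vt O : Subgroup G} (N : c.NData Q Vt O)

include N

/-- The preimage of the three-core. -/
noncomputable def M0 : Subgroup G := ((pCore 3 N.rho.range).comap N.rho.rangeRestrict).map O.subtype

theorem M0_le : N.M0 ≤ O := map_subtype_le _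

theorem mem_M0 {g : O} : (g : G) ∈ N.M0 ↔ N.rho.rangeRestrict g ∈ pCore 3 N.rho.range := by
  constructor
  · rintro ⟨a, ha, e⟩
    rw [← (Subtype.ext e : a = g)]
    exact ha
  · exact fun h => ⟨g, h, rfl⟩

theorem C_le_M0 : O ⊓ centralizer (Q : Set G) ≤ N.M0 := fun g hg => by
  have h1 : N.rho.rangeRestrict ⟨g, (Subgroup.mem_inf.1 hg).1⟩ = 1 :=
    Subtype.ext (N.rho_one.2 (show ((⟨g, (Subgroup.mem_inf.1 hg).1⟩ : O) : G) ∈ _ from hg))
  exact (N.mem_M0 (g := ⟨g, _⟩)).2 (h1 ▸ one_mem _)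

theorem norm_M0_O {n : G} (hn : n ∈ O) : n ∈ normalizer (N.M0 : Set G) :=
  mem_normalizer_of_map _ fun g hg => by
    refine (N.mem_M0 (g := ⟨n, hn⟩ * ⟨g, N.M0_le hg⟩ * ⟨n, hn⟩⁻¹)).2 ?_
    rw [map_mul, map_mul, map_inv]
    haveI : (pCore 3 N.rho.range).Characteristic := Fusion.pCore_characteristic
    exact (inferInstance : (pCore 3 N.rho.range).Normal).conj_mem _ ((N.mem_M0 (g := ⟨g, N.M0_le hg⟩)).1 hg) _

theorem norm_M0_t : c.t ∈ normalizer (N.M0 : Set G) := by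
  obtain ⟨e, he⟩ := N.exists_tG
  have hO := N.norm_O N.qv.isQ.t_norm
  refine mem_normalizer_of_map _ fun g hg => ?_
  refine (N.mem_M0 (g := ⟨c.t * g * c.t⁻¹, (mem_normalizer_iff.1 hO _).1 (N.M0_le hg)⟩)).2 ?_
  rw [← he ⟨g, N.M0_le hg⟩, ← Fusion.map_pCore_equiv e]
  exact ⟨_, (N.mem_M0 (g := ⟨g, N.M0_le hg⟩)).1 hg, rfl⟩

/-- The image of `M₀` is a 3-group. -/
theorem rho_M0 {g : O} (hg : (g : G) ∈ N.M0) : ∃ k : ℕ, N.rho g ^ 3 ^ k = 1 := by
  obtain ⟨k, hk⟩ := Fusion.isPGroup_pCore 3 _ ⟨_, N.mem_M0.1 hg⟩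
  exact ⟨k, congrArg (fun z : pCore 3 N.rho.range => ((z : N.rho.range) : MulAut Q)) hk⟩

theorem M0_prime {g : G} (hg : g ∈ N.M0) {m : ℕ} (hm : ¬ 3 ∣ m) (hgm : g ^ m = 1) :
    g ∈ O ⊓ centralizer (Q : Set G) := by
  obtain ⟨k, hk⟩ := N.rho_M0 (g := ⟨g, N.M0_le hg⟩) hg
  refine N.rho_one.1 (orderOf_eq_one_iff.1 (Nat.eq_one_of_dvd_coprimes
    (Nat.Coprime.pow_left k ((Nat.Prime.coprime_iff_not_dvd Nat.prime_three).2 hm))
    (orderOf_dvd_of_pow_eq_one hk) (orderOf_dvd_of_pow_eq_one (by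
      rw [← map_pow, show (⟨g, N.M0_le hg⟩ : O) ^ m = 1 from Subtype.ext hgm, map_one]))))

/-- The fixed points of `t` in `M₀` lie in `U`. -/
theorem M0_fixed {g : G} (hg : g ∈ N.M0) (hgt : g * c.t = c.t * g) : g ∈ c.UG := by
  refine N.C_fixed ?_ hgt
  obtain ⟨v, b, h, hh, rfl⟩ := c.BU_cases (N.cent g (N.M0_le hg) hgt)
  set b' := Units.map (c.sig h : F →* F) c.a with hb'
  -- the commutator with `x`
  have hcm : c.u v * c.d b * h * c.x * (c.u v * c.d b * h)⁻¹ * c.x⁻¹ ∈ N.M0 := by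
    rw [show c.u v * c.d b * h * c.x * (c.u v * c.d b * h)⁻¹ * c.x⁻¹ =
      c.u v * c.d b * h * (c.x * (c.u v * c.d b * h)⁻¹ * c.x⁻¹) by group]
    exact mul_mem hg ((mem_normalizer_iff.1 (N.norm_M0_O N.x_mem) _).1 (inv_mem hg))
  have hu : ∀ w : F, c.u w ∈ O ⊓ centralizer (Q : Set G) := fun w => N.Q_le_C (N.qv.isQ.U_le ⟨w, rfl⟩)
  have e : c.u v * c.d b * h * c.x * (c.u v * c.d b * h)⁻¹ * c.x⁻¹ =
      c.u v * c.u (((b' : F) ^ 2) * (-v)) * c.d (b' * c.a⁻¹) := by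
    rw [show c.u v * c.d b * h * c.x * (c.u v * c.d b * h)⁻¹ * c.x⁻¹ =
      c.u v * (c.d b * (h * c.x * h⁻¹) * (c.d b)⁻¹) * (c.u v)⁻¹ * c.x⁻¹ by group, x, c.conj_d hh, ← hb', c.d_mul,
      mul_comm b b', ← c.d_mul, mul_inv_cancel_right,
      show c.u v * c.d b' * (c.u v)⁻¹ * (c.d c.a)⁻¹ =
        c.u v * (c.d b' * (c.u v)⁻¹ * (c.d b')⁻¹) * (c.d b' * (c.d c.a)⁻¹) by group, ← c.u_neg, c.d_u,
      show (c.d c.a)⁻¹ = c.d c.a⁻¹ from inv_eq_of_mul_eq_one_left (by rw [c.d_mul, inv_mul_cancel, c.d_one]), c.d_mul]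
  rw [e] at hcm
  have hd : c.d (b' * c.a⁻¹) ∈ N.M0 := by
    have := mul_mem (inv_mem (N.C_le_M0 (mul_mem (hu v) (hu ((b' : F) ^ 2 * -v))))) hcm
    rwa [inv_mul_cancel_left] at this
  have hdC := N.M0_prime hd (m := orderOf (c.d (b' * c.a⁻¹))) (fun h3 =>
    (Nat.Prime.coprime_iff_not_dvd Nat.prime_three).1 (Nat.Coprime.coprime_dvd_left ⟨2, rfl⟩ c.card_DG_coprime)
      (h3.trans (c.DG.orderOf_dvd_natCard ⟨_, rfl⟩))) (pow_orderOf_eq_one _)
  have hb1 : b' * c.a⁻¹ = 1 := by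
    have h1 := c.d_u (b' * c.a⁻¹) 1
    rw [← mem_centralizer_iff.1 (N.cent_CU hdC) _ (show c.u 1 ∈ c.UG from ⟨1, rfl⟩), mul_inv_cancel_right] at h1
    have h2 : (b' * c.a⁻¹) ^ 2 = 1 := Units.ext (by
      rw [Units.val_pow_eq_pow_val, Units.val_one]
      have := (c.u_inj h1).symm
      rwa [mul_one] at this)
    have hl : (b' * c.a⁻¹) ^ c.ell = 1 := by
      rw [mul_pow, hb', ← map_pow, inv_pow, ← c.ha, pow_orderOf_eq_one, map_one, inv_one, mul_one]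
    exact orderOf_eq_one_iff.1 (Nat.eq_one_of_dvd_coprimes ((Nat.coprime_primes Nat.prime_two c.hl).2 (Ne.symm c.l2))
      (orderOf_dvd_of_pow_eq_one h2) (orderOf_dvd_of_pow_eq_one hl))
  rw [mul_inv_eq_one] at hb1
  obtain rfl := c.sig_inj hh (c.sig_a (σ := c.sig h) (congrArg Units.val hb1))
  rw [mul_one] at hg ⊢
  have hdb : c.d b ∈ N.M0 := by
    have := mul_mem (inv_mem (N.C_le_M0 (hu v))) hg
    rwa [inv_mul_cancel_left] at this
  refine mul_mem (hu v) (N.M0_prime hdb (m := orderOf (c.d b)) (fun h3 =>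
    (Nat.Prime.coprime_iff_not_dvd Nat.prime_three).1 (Nat.Coprime.coprime_dvd_left ⟨2, rfl⟩ c.card_DG_coprime)
      (h3.trans (c.DG.orderOf_dvd_natCard ⟨_, rfl⟩))) (pow_orderOf_eq_one _))

/-- A decomposition by `t`. -/
theorem M0_decomp {g : G} (hg : g ∈ N.M0) :
    ∃ a ∈ c.UG, ∃ b ∈ N.M0, c.t * b * c.t⁻¹ = b⁻¹ ∧ g = a * b := by
  obtain ⟨a, ha, b, hb, hat, hbt, e⟩ := c.decomp (N.odd.of_dvd_nat (card_dvd_of_le N.M0_le)) N.norm_M0_t hg
  exact ⟨a, N.M0_fixed ha hat, b, hb, hbt, e⟩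

/-- `M₀ / C(Q)` is commutative. -/
theorem M0_comm {g h : G} (hg : g ∈ N.M0) (hh : h ∈ N.M0) : g * h * g⁻¹ * h⁻¹ ∈ O ⊓ centralizer (Q : Set G) := by
  have hO := N.norm_O N.qv.isQ.t_norm
  have inv : ∀ {w : G} (hw : w ∈ N.M0),
      N.rho ⟨c.t * w * c.t⁻¹, (mem_normalizer_iff.1 hO _).1 (N.M0_le hw)⟩ = (N.rho ⟨w, N.M0_le hw⟩)⁻¹ := by
    intro w hw
    obtain ⟨a, ha, b, hb, hbt, rfl⟩ := N.M0_decomp hw
    have h1 : N.rho ⟨a, N.Q_le (N.qv.isQ.U_le ha)⟩ = 1 := N.rho_one.2 (N.Q_le_C (N.qv.isQ.U_le ha))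
    rw [show (⟨c.t * (a * b) * c.t⁻¹, _⟩ : O) = ⟨a, N.Q_le (N.qv.isQ.U_le ha)⟩ * ⟨b, N.M0_le hb⟩⁻¹ from Subtype.ext (by
        show c.t * (a * b) * c.t⁻¹ = a * b⁻¹
        rw [show c.t * (a * b) * c.t⁻¹ = c.t * a * c.t⁻¹ * (c.t * b * c.t⁻¹) by group, hbt, ← c.UG_t ha,
          mul_inv_cancel_right]),
      show (⟨a * b, _⟩ : O) = ⟨a, N.Q_le (N.qv.isQ.U_le ha)⟩ * ⟨b, N.M0_le hb⟩ from rfl, map_mul, map_mul, map_inv, h1,
      one_mul, one_mul]
  have hgh := inv (mul_mem hg hh)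
  rw [show (⟨c.t * (g * h) * c.t⁻¹, _⟩ : O) = ⟨c.t * g * c.t⁻¹, (mem_normalizer_iff.1 hO _).1 (N.M0_le hg)⟩ *
      ⟨c.t * h * c.t⁻¹, (mem_normalizer_iff.1 hO _).1 (N.M0_le hh)⟩ from Subtype.ext (by
        show c.t * (g * h) * c.t⁻¹ = c.t * g * c.t⁻¹ * (c.t * h * c.t⁻¹); group),
    map_mul, inv hg, inv hh, show (⟨g * h, _⟩ : O) = ⟨g, N.M0_le hg⟩ * ⟨h, N.M0_le hh⟩ from rfl, map_mul, mul_inv_rev]
    at hgh
  refine (N.rho_comm (a := ⟨g, N.M0_le hg⟩) (b := ⟨h, N.M0_le hh⟩)).1 ?_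
  have := congrArg (fun z => z⁻¹) hgh
  simp only [mul_inv_rev, inv_inv] at this
  exact this.symm

/-- `M₀` centralises the 3'-elements of `C(Q)`. -/
theorem M0_cent {g : G} (hg : g ∈ N.M0) {z : G} (hz : z ∈ O ⊓ centralizer (Q : Set G)) (hz3 : ¬ 3 ∣ orderOf z) :
    g * z = z * g := by
  obtain ⟨a, ha, b, hb, hbt, rfl⟩ := N.M0_decomp hg
  exact ((show Commute a z from (N.C_prime (N.Q_le_C (N.qv.isQ.U_le ha)) hz hz3).1).mul_left
    (show Commute b z from N.inv_cent (N.M0_le hb) hbt hz hz3)).eq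

/-- The Sylow 3-subgroup of `M₀`. -/
theorem exists_P0 : ∃ P0 : Subgroup G, P0 ≤ N.M0 ∧ IsPGroup 3 P0 ∧
    (∀ g ∈ N.M0, ∀ k : ℕ, g ^ 3 ^ k = 1 → g ∈ P0) ∧
    (∀ n ∈ normalizer (N.M0 : Set G), n ∈ normalizer (P0 : Set G)) ∧
    ∀ g ∈ N.M0, ∃ p ∈ P0, ∃ z ∈ O ⊓ centralizer (Q : Set G), g = p * z := by
  classical
  haveI := Fact.mk Nat.prime_three
  let Z : Subgroup G :=
    { carrier := {z | z ∈ O ⊓ centralizer (Q : Set G) ∧ ∃ m, ¬ 3 ∣ m ∧ z ^ m = 1}
      one_mem' := ⟨one_mem _, 1, by norm_num, one_pow _⟩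
      mul_mem' := fun {a b} ha hb => ⟨mul_mem ha.1 hb.1, by
        obtain ⟨m, hm, ham⟩ := ha.2
        obtain ⟨n, hn, hbn⟩ := hb.2
        refine ⟨m * n, fun h => (Nat.prime_three.dvd_mul.1 h).elim hm hn, ?_⟩
        have hab : Commute a b := (N.C_prime ha.1 hb.1 fun h => hn (h.trans (orderOf_dvd_of_pow_eq_one hbn))).1
        rw [hab.mul_pow, pow_mul, ham, one_pow, one_mul, mul_comm, pow_mul, hbn, one_pow]⟩
      inv_mem' := fun {a} ha => ⟨inv_mem ha.1, by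
        obtain ⟨m, hm, ham⟩ := ha.2
        exact ⟨m, hm, by rw [inv_pow, ham, inv_one]⟩⟩ }
  have hcent : ∀ g ∈ N.M0, ∀ z ∈ Z, g * z = z * g := fun g hg z hz => by
    obtain ⟨hzC, m, hm, hzm⟩ := hz
    exact N.M0_cent hg hzC fun h => hm (h.trans (orderOf_dvd_of_pow_eq_one hzm))
  have hZM : Z ≤ N.M0 := fun z hz => N.C_le_M0 hz.1
  set Z' : Subgroup N.M0 := Z.subgroupOf N.M0
  haveI : Z'.Normal := ⟨fun z hz g => mem_subgroupOf.2 (by
    show (g : G) * z * (g : G)⁻¹ ∈ Z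
    rw [hcent g g.2 z (mem_subgroupOf.1 hz), mul_inv_cancel_right]; exact mem_subgroupOf.1 hz)⟩
  obtain ⟨P⟩ : Nonempty (Sylow 3 N.M0) := inferInstance
  have hquot : IsPGroup 3 (N.M0 ⧸ Z') := fun v => by
    obtain ⟨g, rfl⟩ := QuotientGroup.mk_surjective v
    obtain ⟨k, m, hm, hn⟩ := Nat.exists_eq_pow_mul_and_not_dvd (orderOf_pos (g : G)).ne' 3 (by norm_num)
    refine ⟨k, ?_⟩
    rw [← QuotientGroup.mk_pow, QuotientGroup.eq_one_iff, mem_subgroupOf, Subgroup.coe_pow]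
    have hgm : ((g : G) ^ 3 ^ k) ^ m = 1 := by rw [← pow_mul, ← hn, pow_orderOf_eq_one]
    exact ⟨N.M0_prime (pow_mem g.2 _) hm hgm, m, hm, hgm⟩
  have htop : (P : Subgroup N.M0) ⊔ Z' = ⊤ := by
    rw [← Subgroup.index_eq_one]
    obtain ⟨n, hn⟩ := IsPGroup.iff_card.1 hquot
    have h1 : ((P : Subgroup N.M0) ⊔ Z').index ∣ 3 ^ n := by
      rw [← hn, ← Subgroup.index_eq_card]; exact Subgroup.index_dvd_of_le le_sup_right
    exact Nat.eq_one_of_dvd_coprimes (Nat.Coprime.pow_left n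
      ((Nat.Prime.coprime_iff_not_dvd Nat.prime_three).2 P.not_dvd_index)) h1 (Subgroup.index_dvd_of_le le_sup_left)
  haveI hPn : (P : Subgroup N.M0).Normal := by
    rw [← Subgroup.normalizer_eq_top_iff, eq_top_iff, ← htop]
    refine sup_le le_normalizer fun z hz => mem_normalizer_of_map _ fun p hp => ?_
    rw [show z * p = p * z from Subtype.ext (hcent p p.2 z (mem_subgroupOf.1 hz)).symm, mul_inv_cancel_right]
    exact hp
  haveI : Subsingleton (Sylow 3 N.M0) := (Sylow.unique_of_normal P hPn).instSubsingleton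
  have hall : ∀ g ∈ N.M0, ∀ k : ℕ, g ^ 3 ^ k = 1 → g ∈ (P : Subgroup N.M0).map N.M0.subtype := by
    intro g hg k hk
    obtain ⟨i, -, hi⟩ := (Nat.dvd_prime_pow Nat.prime_three).1 (orderOf_dvd_of_pow_eq_one hk)
    obtain ⟨P', hP'⟩ := (IsPGroup.of_card (p := 3) (n := i) (G := zpowers (⟨g, hg⟩ : N.M0)) (by
      rw [Nat.card_zpowers, Subgroup.orderOf_mk, hi])).exists_le_sylow
    rw [Subsingleton.elim P' P] at hP'
    exact ⟨⟨g, hg⟩, hP' (mem_zpowers _), rfl⟩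
  refine ⟨_, map_subtype_le _, P.2.map _, hall, fun n hn => mem_normalizer_of_map _ ?_, fun g hg => ?_⟩
  · rintro _ ⟨p, hp, rfl⟩
    obtain ⟨k, hk⟩ := P.2 ⟨p, hp⟩
    refine hall _ ((mem_normalizer_iff.1 hn _).1 p.2) k ?_
    have hk' : (p : G) ^ 3 ^ k = 1 := congrArg (fun z : (P : Subgroup N.M0) => ((z : N.M0) : G)) hk
    show (n * (p : G) * n⁻¹) ^ 3 ^ k = 1
    rw [conj_pow, hk', mul_one, mul_inv_cancel]
  · have h : (⟨g, hg⟩ : N.M0) ∈ (((P : Subgroup N.M0) ⊔ Z' : Subgroup N.M0) : Set N.M0) := by rw [htop]; trivial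
    rw [Subgroup.normal_mul] at h
    obtain ⟨p, hp, z, hz, e⟩ := h
    exact ⟨p, ⟨p, hp, rfl⟩, z, (mem_subgroupOf.1 hz : (z : G) ∈ Z).1, (congrArg Subtype.val e).symm⟩

/-- The contradiction. -/
theorem false_of [IsSimpleGroup G] (hB : c.TB) : False := by
  classical
  haveI := Fact.mk Nat.prime_three
  obtain ⟨P0, hP0M, hP03, hall, hnorm, hprod⟩ := N.exists_P0
  have hQP : Q ≤ P0 := fun g hg => by
    obtain ⟨k, hk⟩ := N.qv.isQ.p3 ⟨g, hg⟩
    exact hall g (N.C_le_M0 (N.Q_le_C hg)) k (congrArg Subtype.val hk)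
  have hP0C : ∀ g ∈ P0, g ∈ centralizer (Q : Set G) → g ∈ Q := fun g hg hgC => by
    obtain ⟨k, hk⟩ := hP03 ⟨g, hg⟩
    exact N.C_three (Subgroup.mem_inf.2 ⟨N.M0_le (hP0M hg), hgC⟩) (congrArg Subtype.val hk)
  have hP0N : P0 ≤ normalizer (Q : Set G) := fun g hg => N.O_le (N.M0_le (hP0M hg))
  have hf := hnorm _ (N.norm_M0_O N.f_mem)
  have hx := hnorm _ (N.norm_M0_O N.x_mem)
  have ht := hnorm _ N.norm_M0_t
  have hcomm : ∀ a ∈ P0, ∀ b ∈ P0, a * b * a⁻¹ * b⁻¹ ∈ Q := fun a ha b hb =>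
    hP0C _ (mul_mem (mul_mem (mul_mem ha hb) (inv_mem ha)) (inv_mem hb))
      (Subgroup.mem_inf.1 (N.M0_comm (hP0M ha) (hP0M hb))).2
  have hne : ¬ P0 ≤ Q := by
    intro hle
    refine N.three_core hB ((eq_bot_iff_forall _).2 fun y hy => ?_)
    obtain ⟨g, hg⟩ := N.rho.rangeRestrict_surjective y
    rw [← hg]
    refine Subtype.ext (N.rho_one.2 ?_)
    obtain ⟨p, hp, z, hz, e⟩ := hprod g ((N.mem_M0).2 (hg.symm ▸ hy))
    rw [e]
    exact mul_mem (N.Q_le_C (hle hp)) hz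
  -- `Φ` meets `P₀` trivially
  have hmeet : ∀ n : ℕ, c.f ^ n ∈ P0 → c.ee ∣ n := fun n hn =>
    N.qv.isQ.meet (N.qv.isQ.U_le (N.M0_fixed (hP0M hn) ((show Commute c.f c.t from c.f_t).pow_left n).eq))
  -- the layer
  set A := P0 ⊓ c.H with hA
  have hA27 : Nat.card A ≤ 27 := by
    have hAn : A ≤ normalizer (zpowers c.tau : Set G) := fun a ha => mem_normalizer_of_map _ fun h hh => by
      have hhΦ : h ∈ c.C.PhiG := (zpowers_le.2 c.tau_mem) hh
      rw [← c.mem_H.1 (Subgroup.mem_inf.1 ha).2 h hhΦ, mul_inv_cancel_right]; exact hh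
    have ht3 : IsPGroup 3 (zpowers c.tau) :=
      IsPGroup.of_card (n := c.ee.factorization 3) (by rw [Nat.card_zpowers, c.ord_tau, t3])
    have h := Solv.card_sup_mul_card_inf' _ _ hAn
    have hinf : zpowers c.tau ⊓ A = ⊥ := (eq_bot_iff_forall _).2 fun y hy => by
      obtain ⟨hyP, hyA⟩ := Subgroup.mem_inf.1 hy
      obtain ⟨n, rfl⟩ := mem_powers_iff_mem_zpowers.2 hyP
      have hm := hmeet (c.mm * n) (by rw [pow_mul]; exact (Subgroup.mem_inf.1 hyA).1)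
      show (c.f ^ c.mm) ^ n = 1
      rw [← pow_mul]
      exact c.f_pow_eq_one.2 hm
    rw [hinf, card_bot, mul_one, Nat.card_zpowers, c.ord_tau] at h
    have h27 := Nat.le_of_dvd (by have := c.t3_pos; omega) (c.three_bound
      (sup_le (zpowers_le.2 (c.Phi_le c.tau_mem)) inf_le_right)
      (IsPGroup.to_sup_of_normal_left' ht3 (hP03.to_le inf_le_left) hAn))
    rw [h, mul_comm 27] at h27
    exact Nat.le_of_mul_le_mul_left h27 c.t3_pos
  have hfix : ∀ m ∈ P0, c.f * m * c.f⁻¹ * m⁻¹ ∈ Q → m ∈ Q ⊔ A := by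
    intro m hm h
    obtain ⟨v, hv, e⟩ := N.lift_Q hB h
    rw [show m = v⁻¹ * (v * m) by group]
    exact mul_mem (mem_sup_left (inv_mem hv))
      (mem_sup_right (Subgroup.mem_inf.2 ⟨mul_mem (hQP hv) hm, c.mem_H_of_f e.symm⟩))
  have hQA : Nat.card (Q ⊓ A : Subgroup G) = 9 := by rw [hA, ← inf_assoc, inf_eq_left.2 hQP, N.qv.card_QH]
  have layR : c.Lay Q P0 := by
    refine Lay.of_fpf c (T := Q ⊔ A) hQP hne hP03 hP0N N.qv.isQ.f_norm hf N.qv.isQ.x_norm hx hcomm hfix ?_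
    have h := Solv.card_sup_mul_card_inf' Q A fun a ha => hP0N (Subgroup.mem_inf.1 ha).1
    rw [hQA] at h
    have := Nat.mul_le_mul_left (Nat.card Q) hA27
    omega
  -- the centre
  have normC : ∀ n ∈ normalizer (P0 : Set G), ∀ g ∈ centralizer (P0 : Set G), n * g * n⁻¹ ∈ centralizer (P0 : Set G) := by
    intro n hn g hg
    refine mem_centralizer_iff.2 fun a ha => ?_
    have ha' : n⁻¹ * a * n ∈ P0 := by
      have := (mem_normalizer_iff.1 (inv_mem hn) a).1 ha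
      rwa [inv_inv] at this
    have h := mem_centralizer_iff.1 hg _ ha'
    calc a * (n * g * n⁻¹) = n * ((n⁻¹ * a * n) * g) * n⁻¹ := by group
      _ = n * (g * (n⁻¹ * a * n)) * n⁻¹ := by rw [h]
      _ = n * g * n⁻¹ * a := by group
  have fV := N.qv.layV.fM
  have xV : c.x ∈ normalizer (Vt : Set G) := mem_normalizer_of_map _ fun v hv => by
    obtain ⟨a', ha', b', hb', e'⟩ := N.qv.split _ ((mem_normalizer_iff.1 N.qv.isQ.x_norm v).1 (N.qv.V_le hv))
    have h : c.t * (c.x * v * c.x⁻¹) * c.t⁻¹ = (c.x * v * c.x⁻¹)⁻¹ := by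
      rw [show c.t * (c.x * v * c.x⁻¹) * c.t⁻¹ = c.t * c.x * v * (c.t * c.x)⁻¹ by group, ← c.x_t,
        show c.x * c.t * v * (c.x * c.t)⁻¹ = c.x * (c.t * v * c.t⁻¹) * c.x⁻¹ by group, N.qv.V_inv v hv]
      group
    have ha'1 : a' = 1 := by
      rw [e', show c.t * (a' * b') * c.t⁻¹ = c.t * a' * c.t⁻¹ * (c.t * b' * c.t⁻¹) by group, N.qv.V_inv b' hb',
        ← c.UG_t ha', mul_inv_cancel_right,
        N.qv.comm a' (N.qv.isQ.U_le ha') b'⁻¹ (inv_mem (N.qv.V_le hb')), mul_inv_rev, mul_right_inj] at h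
      refine eq_one_of_sq (Odd.of_dvd_nat (by decide : Odd 3) (orderOf_dvd_of_pow_eq_one (c.UG_cube ha'))) ?_
      rw [pow_two, mul_eq_one_iff_eq_inv]; exact h
    rw [e', ha'1, one_mul]; exact hb'
  -- a layer inside a fixed subgroup centralising `P₀`
  have layC : ∀ X : Subgroup G, X ≤ Q → c.f ∈ normalizer (X : Set G) → c.x ∈ normalizer (X : Set G) →
      Nat.card (X ⊓ c.H : Subgroup G) ≤ 3 → X ⊓ centralizer (P0 : Set G) ≠ ⊥ →
      Nat.card (X ⊓ centralizer (P0 : Set G) : Subgroup G) = 3 ^ c.ee := by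
    intro X hXQ hXf hXx h3 hne'
    have hl : c.Lay ⊥ (X ⊓ centralizer (P0 : Set G)) := by
      refine Lay.of_fpf c (T := X ⊓ c.H) bot_le (fun h => hne' (le_bot_iff.1 h))
        (N.qv.isQ.p3.to_le (inf_le_left.trans hXQ)) (by rw [normalizer_eq_top]; exact le_top)
        (by rw [normalizer_eq_top]; trivial) ?_ (by rw [normalizer_eq_top]; trivial) ?_ ?_ ?_ ?_
      · exact mem_normalizer_of_map _ fun v hv => Subgroup.mem_inf.2
          ⟨(mem_normalizer_iff.1 hXf v).1 (Subgroup.mem_inf.1 hv).1, normC _ hf v (Subgroup.mem_inf.1 hv).2⟩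
      · exact mem_normalizer_of_map _ fun v hv => Subgroup.mem_inf.2
          ⟨(mem_normalizer_iff.1 hXx v).1 (Subgroup.mem_inf.1 hv).1, normC _ hx v (Subgroup.mem_inf.1 hv).2⟩
      · intro a ha b hb
        rw [mem_bot, N.qv.comm a (hXQ (Subgroup.mem_inf.1 ha).1) b (hXQ (Subgroup.mem_inf.1 hb).1)]
        group
      · intro m hm h
        rw [mem_bot, mul_inv_eq_one, mul_inv_eq_iff_eq_mul] at h
        exact Subgroup.mem_inf.2 ⟨(Subgroup.mem_inf.1 hm).1, c.mem_H_of_f h⟩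
      · rw [card_bot]; exact h3
    rw [hl.card, card_bot, mul_one]
  have hVH : Nat.card (Vt ⊓ c.H : Subgroup G) ≤ 3 := by
    obtain ⟨K, -, -, hKc, hKm⟩ := N.qv.layV.fixf
    rw [card_bot, mul_one] at hKc
    rw [← hKc]
    refine card_le_of_le fun m hm => (hKm m (Subgroup.mem_inf.1 hm).1).2 ?_
    rw [mem_bot, c.mem_H.1 (Subgroup.mem_inf.1 hm).2 c.f c.f_mem, mul_inv_cancel_right, mul_inv_cancel]
  have hZV : Vt ≤ centralizer (P0 : Set G) := by
    by_contra hnV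
    have hVbot : Vt ⊓ centralizer (P0 : Set G) = ⊥ := by
      by_contra h
      refine hnV (inf_eq_left.1 (eq_of_le_of_card_ge inf_le_left ?_))
      rw [layC Vt N.qv.V_le fV xV hVH h, N.qv.layV.card, card_bot, mul_one]
    -- so `U` meets the centre, hence lies in it
    have hW : c.UG ⊓ centralizer (P0 : Set G) ≠ ⊥ := by
      intro hU
      letI : MulAction P0 Q := MulAction.ofEndHom
        { toFun := fun g w => ⟨(g : G) * w * (g : G)⁻¹, (mem_normalizer_iff.1 (hP0N g.2) _).1 w.2⟩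
          map_one' := funext fun w => Subtype.ext (by simp; rfl)
          map_mul' := fun g g' => funext fun w => Subtype.ext (by
            show ((g : G) * g') * (w : G) * ((g : G) * g')⁻¹ = (g : G) * ((g' : G) * w * (g' : G)⁻¹) * (g : G)⁻¹
            group) }
      obtain ⟨w, hw, hw1⟩ := hP03.exists_fixed_point_of_prime_dvd_card_of_fixed_point Q
        (by rw [N.qv.card]; exact dvd_mul_of_dvd_left (dvd_pow_self 3 c.ee_pos.ne') _)
        (a := 1) (fun g => Subtype.ext (by show (g : G) * ((1 : Q) : G) * (g : G)⁻¹ = _; simp))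
      set W : Subgroup G := Q ⊓ centralizer (P0 : Set G)
      have hwW : (w : G) ∈ W := Subgroup.mem_inf.2 ⟨w.2, mem_centralizer_iff.2 fun g hg =>
        mul_inv_eq_iff_eq_mul.1 (congrArg Subtype.val (hw ⟨g, hg⟩) :)⟩
      have htW : c.t ∈ normalizer (W : Set G) := mem_normalizer_of_map _ fun v hv => Subgroup.mem_inf.2
        ⟨(mem_normalizer_iff.1 N.qv.isQ.t_norm v).1 (Subgroup.mem_inf.1 hv).1, normC _ ht v (Subgroup.mem_inf.1 hv).2⟩
      obtain ⟨a, ha, b, hb, hat, hbt, e⟩ :=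
        c.decomp (N.qv.isQ.odd.of_dvd_nat (card_dvd_of_le inf_le_left)) htW hwW
      have ha1 : a = 1 := by
        have : a ∈ c.UG ⊓ centralizer (P0 : Set G) :=
          Subgroup.mem_inf.2 ⟨N.qv.isQ.fixed_t (Subgroup.mem_inf.1 ha).1 hat, (Subgroup.mem_inf.1 ha).2⟩
        rwa [hU, mem_bot] at this
      obtain ⟨a', ha', b', hb', e'⟩ := N.qv.split b (Subgroup.mem_inf.1 hb).1
      have ha'1 : a' = 1 := by
        have h := hbt
        rw [e', show c.t * (a' * b') * c.t⁻¹ = c.t * a' * c.t⁻¹ * (c.t * b' * c.t⁻¹) by group, N.qv.V_inv b' hb',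
          ← c.UG_t ha', mul_inv_cancel_right,
          N.qv.comm a' (N.qv.isQ.U_le ha') b'⁻¹ (inv_mem (N.qv.V_le hb')), mul_inv_rev, mul_right_inj] at h
        refine eq_one_of_sq (Odd.of_dvd_nat (by decide : Odd 3) (orderOf_dvd_of_pow_eq_one (c.UG_cube ha'))) ?_
        rw [pow_two, mul_eq_one_iff_eq_inv]; exact h
      have hb1 : b = 1 := by
        have : b ∈ Vt ⊓ centralizer (P0 : Set G) := Subgroup.mem_inf.2
          ⟨by rw [e', ha'1, one_mul]; exact hb', (Subgroup.mem_inf.1 hb).2⟩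
        rwa [hVbot, mem_bot] at this
      exact hw1 (Subtype.ext (by rw [e, ha1, hb1, one_mul]; rfl)).symm
    have hUc : c.UG ≤ centralizer (P0 : Set G) := inf_eq_left.1 (eq_of_le_of_card_ge inf_le_left (by
      rw [layC c.UG N.qv.isQ.U_le c.f_norm_U c.x_norm_U c.card_UH hW, c.card_UG]))
    refine hne fun g hg => ?_
    obtain ⟨k, hk⟩ := hP03 ⟨g, hg⟩
    exact N.qv.isQ.all g (mem_centralizer_iff.2 fun z hz => (mem_centralizer_iff.1 (hUc hz) g hg).symm) k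
      (congrArg Subtype.val hk)
  -- the tower
  have T : c.Tower P0 Vt := by
    refine ⟨hP03, hf, hmeet, ⟨3, fun j => if j = 0 then ⊥ else if j = 1 then Vt else if j = 2 then Q else P0,
      rfl, rfl, fun j hj => ?_⟩, N.qv.V_le.trans hQP, N.qv.layV, fun v hv p hp => ?_, N.qv.hno⟩
    · rcases (show j = 0 ∨ j = 1 ∨ j = 2 by omega) with rfl | rfl | rfl
      exacts [N.qv.layV, N.qv.layQ, layR]
    · exact mem_centralizer_iff.1 (hZV hv) p hp
  -- the centraliser of `τ` in `P₀`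
  set B := P0 ⊓ centralizer ({c.tau} : Set G) with hB'
  have hBcard : Nat.card B = (3 ^ c.mm) ^ 3 := by
    obtain ⟨K, hQK, hKP, hKc, hKm⟩ := layR.fixtau 0 (by simp)
    rw [pow_zero, mul_one] at hKc
    have hK : Q ⊔ B = K := by
      refine le_antisymm (sup_le hQK fun m hm => (hKm m (Subgroup.mem_inf.1 hm).1).2 ?_) fun m hm => ?_
      · rw [pow_zero, pow_one, ← mem_centralizer_singleton_iff.1 (Subgroup.mem_inf.1 hm).2, mul_inv_cancel_right,
          mul_inv_cancel]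
        exact one_mem _
      · obtain ⟨v, hv, e⟩ := N.qv.isQ.tower.norm_cases hB (g := m) (by
          have h1 := (hKm m (hKP hm)).1 hm
          rw [pow_zero, pow_one] at h1
          exact ⟨(c.tau * m * c.tau⁻¹ * m⁻¹)⁻¹, inv_mem h1, 1, by group⟩)
        rw [show m = v⁻¹ * (v * m) by group]
        exact mul_mem (mem_sup_left (inv_mem hv))
          (mem_sup_right (Subgroup.mem_inf.2 ⟨mul_mem (hQP hv) (hKP hm), mem_centralizer_singleton_iff.2 e⟩))
    have h := Solv.card_sup_mul_card_inf' Q B fun a ha => hP0N (Subgroup.mem_inf.1 ha).1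
    rw [hK, hKc, hB', ← inf_assoc, inf_eq_left.2 hQP, N.qv.card_Qtau] at h
    refine Nat.eq_of_mul_eq_mul_left (Nat.card_pos (α := Q)) (h.symm.trans ?_)
    ring
  obtain ⟨P2, hP23, hle, hcard, hnP2⟩ := exists_grow T.P1_p3 (T.not_sylow hB)
  obtain ⟨g, hg, hgn⟩ : ∃ g ∈ P2, g ∉ T.P1 := by
    refine SetLike.not_le_iff_exists.1 fun h => ?_
    have := card_le_of_le h
    rw [hcard] at this
    have := Nat.card_pos (α := T.P1)
    omega
  obtain ⟨v, hv, hvg⟩ := T.norm_cases hB ((mem_normalizer_iff.1 (hnP2 hg) _).1 T.tau_P1)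
  have hBP1 : B ⊔ zpowers c.tau ≤ T.P1 := sup_le (inf_le_left.trans T.P0_le) (zpowers_le.2 T.tau_P1)
  have hBt : B ⊔ zpowers c.tau ≤ centralizer ({c.tau} : Set G) :=
    sup_le inf_le_right (zpowers_le.2 (mem_centralizer_singleton_iff.2 rfl))
  have hB0 : Nat.card (B ⊔ zpowers c.tau : Subgroup G) = c.t3 * (3 ^ c.mm) ^ 3 := by
    have hnorm : zpowers c.tau ≤ normalizer (B : Set G) := zpowers_le.2 (mem_normalizer_of_map _ fun z hz => by
      rw [← mem_centralizer_singleton_iff.1 (Subgroup.mem_inf.1 hz).2, mul_inv_cancel_right]; exact hz)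
    have hinf : B ⊓ zpowers c.tau = ⊥ := (eq_bot_iff_forall _).2 fun y hy => by
      obtain ⟨hyB, hyt⟩ := Subgroup.mem_inf.1 hy
      obtain ⟨n, rfl⟩ := mem_powers_iff_mem_zpowers.2 hyt
      exact c.tau_pow_eq_one.2 (T.meet_tau (Subgroup.mem_inf.1 hyB).1)
    have h := Solv.card_sup_mul_card_inf' _ _ hnorm
    rwa [hinf, card_bot, mul_one, Nat.card_zpowers, c.ord_tau, hBcard, mul_comm _ c.t3] at h
  have hlt : Nat.card (B ⊔ zpowers c.tau : Subgroup G) <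
      Nat.card (P2 ⊓ centralizer ({c.tau} : Set G) : Subgroup G) := by
    refine lt_of_le_of_ne (card_le_of_le (le_inf (hBP1.trans hle) hBt)) fun e => hgn ?_
    have hmem : v * g ∈ B ⊔ zpowers c.tau := by
      rw [eq_of_le_of_card_ge (le_inf (hBP1.trans hle) hBt) e.ge]
      exact Subgroup.mem_inf.2 ⟨mul_mem (hle (T.P0_le hv)) hg, mem_centralizer_singleton_iff.2 hvg⟩
    simpa using mul_mem (inv_mem (T.P0_le hv)) (hBP1 hmem)
  have hle' := Nat.le_of_dvd (Nat.mul_pos c.t3_pos (pow_pos (pow_pos (by norm_num) _) _))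
    (hB (P2 ⊓ centralizer ({c.tau} : Set G)) inf_le_right (hP23.to_le inf_le_left))
  omega

end NData

include c in
theorem absurd_cfg [IsSimpleGroup G] (hB : c.TB) : False := by
  obtain ⟨Q, Vt, h⟩ := c.exists_QV hB
  obtain ⟨O, hN⟩ := c.exists_NData h
  exact hN.false_of hB

/-- If `e` is a power of three, `C(τ) = C(Φ)`. -/
theorem TB_of_mm [IsSimpleGroup G] (hm : c.mm = 1) : c.TB := fun P hP h3 => by
  have h := c.three_bound (P := P) (fun z hz => c.mem_H_of_f (by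
    have := mem_centralizer_singleton_iff.1 (hP hz)
    rw [tau, hm, pow_one] at this
    exact this.symm)) h3
  rw [hm, pow_one, show c.t3 * 3 ^ 3 = 27 * c.t3 by ring]
  exact h

end Cfg

/-- The residual fields of characteristic three, `e` divisible by three and not by seven. -/
theorem res_three_false {G : Type u} [Group G] [Finite G] [IsSimpleGroup G] {F : Type} [Field F] [Fintype F]
    (C : Frame G F) {e : ℕ} (h3 : 3 ∣ e) (hC : C.e = e) (hq : Fintype.card F = 3 ^ e)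
    (hTB : ∀ c : Cfg G F, c.C = C → 1 < c.mm → c.TB) : False := by
  obtain ⟨c, hcC⟩ := exists_cfg C h3 hC hq
  rcases Nat.lt_or_ge 1 c.mm with h | h
  · exact c.absurd_cfg (hTB c hcC h)
  · exact c.absurd_cfg (c.TB_of_mm (le_antisymm h c.mm_pos))

end Cfsg.Agent.Walter.JR.Res3
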