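import Cfsg.Agent.Lib.Walter.JR.Res3.QLayer
import Cfsg.Agent.Lib.Walter.JR.Res3.Core3

/-!
# The action of `N(Q)` on `Q`

`N(Q)` has a normal subgroup `O` of index two; the image `Γ` of `O` in `Aut Q` satisfies the hypotheses of
`TwoMod.three_core`, as some 3-element centralising `τ` moves a fixed point of `τ` in `Q` (`card_cent_U1`); so a
non-trivial 3-subgroup of `Γ` is normal.  Elements commuting with `f` modulo `C(Q)` lift to `C(f)`.
-/

set_option autoImplicit false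
set_option linter.unusedSectionVars false
set_option linter.style.haveILetI false

namespace Cfsg.Agent.Walter.JR.Res3

open Subgroup Cfsg.Agent.Char.ReeThree Cfsg.Agent.Char.ReeOrder Cfsg.Agent.Small
open scoped Pointwise

universe u

namespace Cfg

variable {G : Type u} [Group G] [Finite G] {F : Type} [Field F] [Fintype F] (c : Cfg G F)

theorem odd_of_three {g : G} {k : ℕ} (h : g ^ 3 ^ k = 1) : Odd (orderOf g) :=
  Odd.of_dvd_nat (Odd.pow (by decide)) (orderOf_dvd_of_pow_eq_one h)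

theorem eq_one_of_pow_coprime {g : G} {m n : ℕ} (h : Nat.Coprime m n) (hm : g ^ m = 1) (hn : g ^ n = 1) : g = 1 :=
  orderOf_eq_one_iff.1 (Nat.eq_one_of_dvd_coprimes h (orderOf_dvd_of_pow_eq_one hm) (orderOf_dvd_of_pow_eq_one hn))

theorem eq_one_of_sq {g : G} (ho : Odd (orderOf g)) (h : g ^ 2 = 1) : g = 1 :=
  eq_one_of_pow_coprime ho.coprime_two_left h (pow_orderOf_eq_one g)

theorem cx_three [IsSimpleGroup G] {g : G} (hx : g * c.x = c.x * g) {k : ℕ} (h : g ^ 3 ^ k = 1) : g = 1 := by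
  refine eq_one_of_pow_coprime (Nat.Coprime.pow_left k ((Nat.Prime.coprime_iff_not_dvd Nat.prime_three).2 fun h3 =>
    c.centx_three (h3.trans (c.CX.orderOf_dvd_natCard (mem_centralizer_singleton_iff.2 hx))))) h (pow_orderOf_eq_one g)

/-- An element of `Φ` centralising `U` is trivial. -/
theorem Phi_cent_U {h : G} (hh : h ∈ c.C.PhiG) (hU : h ∈ c.CU) : h = 1 := by
  rw [← c.gen, ← mem_powers_iff_mem_zpowers] at hh
  obtain ⟨n, rfl⟩ := hh
  refine c.f_pow_eq_one.2 (c.f_pow_eq_one.1 (c.sig_inj (pow_mem c.f_mem n) (RingEquiv.ext fun v => ?_)))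
  have h1 := c.conj_u (pow_mem c.f_mem n) v
  rw [← mem_centralizer_iff.1 hU _ ⟨v, rfl⟩, mul_inv_cancel_right] at h1
  exact (c.u_inj h1).symm

/-- An element of `C(Φ) ∩ C(r)` of odd order prime to three lies in `Φ`. -/
theorem mem_Phi_of [IsSimpleGroup G] {g : G} (hH : g ∈ c.H) (hr : g * c.r = c.r * g) (ho : Odd (orderOf g))
    (h3 : ¬ 3 ∣ orderOf g) : g ∈ c.C.PhiG := by
  have hn : zpowers g ≤ normalizer (c.C.PhiG : Set G) := zpowers_le.2 (mem_normalizer_of_map _ fun h hh => by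
    rw [← c.mem_H.1 hH h hh, mul_inv_cancel_right]; exact hh)
  have hcard := Solv.card_sup_mul_card_inf' c.C.PhiG (zpowers g) hn
  rw [c.C.card_PhiG, Frame.e, c.eq, Nat.card_zpowers] at hcard
  have hodd : Odd (Nat.card (c.C.PhiG ⊔ zpowers g : Subgroup G)) :=
    (c.hodd.mul ho).of_dvd_nat (Dvd.intro _ hcard)
  have h9 := c.odd_cent_r (sup_le c.Phi_le (zpowers_le.2 hH)) (sup_le
    (fun y hy => mem_centralizer_singleton_iff.2 (c.mem_H.1 c.r_H y hy))
    (zpowers_le.2 (mem_centralizer_singleton_iff.2 hr))) hodd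
  have h1 := (hcard ▸ Nat.mul_dvd_mul_right h9 _ :
    c.ee * orderOf g ∣ 9 * c.ee * Nat.card (c.C.PhiG ⊓ zpowers g : Subgroup G))
  rw [show 9 * c.ee * Nat.card (c.C.PhiG ⊓ zpowers g : Subgroup G) =
    c.ee * (9 * Nat.card (c.C.PhiG ⊓ zpowers g : Subgroup G)) by ring] at h1
  have h2 : orderOf g ∣ Nat.card (c.C.PhiG ⊓ zpowers g : Subgroup G) :=
    (show Nat.Coprime (orderOf g) 9 from Nat.Coprime.pow_right 2
      ((Nat.Prime.coprime_iff_not_dvd Nat.prime_three).2 h3).symm).dvd_of_dvd_mul_left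
      (Nat.dvd_of_mul_dvd_mul_left c.ee_pos h1)
  have h3' : c.C.PhiG ⊓ zpowers g = zpowers g := eq_of_le_of_card_ge inf_le_right (by
    rw [Nat.card_zpowers]; exact Nat.le_of_dvd Nat.card_pos h2)
  exact (inf_eq_right.1 h3') (mem_zpowers g)

theorem BU_cases {g : G} (hg : g ∈ c.BU) : ∃ v : F, ∃ b : Fˣ, ∃ h ∈ c.C.PhiG, g = c.u v * c.d b * h := by
  obtain ⟨a, ha, w, hw, rfl⟩ : ∃ a ∈ c.UG, ∃ w ∈ c.DG ⊔ c.C.PhiG, g = a * w := by
    have h : g ∈ ((c.UG ⊔ (c.DG ⊔ c.C.PhiG) : Subgroup G) : Set G) := hg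
    rw [Subgroup.coe_mul_of_right_le_normalizer_left _ _ c.BU_inner] at h
    obtain ⟨a, ha, w, hw, e⟩ := h
    exact ⟨a, ha, w, hw, e.symm⟩
  have h : w ∈ ((c.DG ⊔ c.C.PhiG : Subgroup G) : Set G) := hw
  rw [Subgroup.coe_mul_of_right_le_normalizer_left _ _ (fun _ h => c.Phi_norm_D h)] at h
  obtain ⟨y, ⟨b, rfl⟩, h', hh', rfl⟩ := h
  obtain ⟨v, rfl⟩ := ha
  exact ⟨v, b, h', hh', by group⟩

/-- A power of `u v d b`. -/
theorem pow_ud (v : F) (b : Fˣ) (n : ℕ) : ∃ w : F, (c.u v * c.d b) ^ n = c.u w * c.d b ^ n := by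
  induction n with
  | zero => exact ⟨0, by rw [c.u_zero]; simp⟩
  | succ n ih =>
    obtain ⟨w, hw⟩ := ih
    refine ⟨w + ((b ^ n : Fˣ) : F) ^ 2 * v, ?_⟩
    rw [pow_succ (c.u v * c.d b), hw, pow_succ (c.d b), c.u_add, ← c.d_u, ← c.d_pow]
    group

theorem UG_DG {g : G} (h1 : g ∈ c.UG) (h2 : g ∈ c.DG) : g = 1 := by
  refine eq_one_of_pow_coprime ?_ (c.UG_cube h1) (orderOf_dvd_iff_pow_eq_one.1 (c.DG.orderOf_dvd_natCard h2))
  exact Nat.Coprime.coprime_dvd_left ⟨2, rfl⟩ c.card_DG_coprime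

/-- A 3-element `u v d b` is `u v`. -/
theorem three_ud {v : F} {b : Fˣ} {k : ℕ} (h : (c.u v * c.d b) ^ 3 ^ k = 1) : c.d b = 1 := by
  obtain ⟨w, hw⟩ := c.pow_ud v b (3 ^ k)
  rw [hw] at h
  have h1 : c.d b ^ 3 ^ k = 1 := c.UG_DG (g := c.d b ^ 3 ^ k)
    (by rw [eq_inv_of_mul_eq_one_right h]; exact inv_mem (show c.u w ∈ c.UG from ⟨w, rfl⟩)) (pow_mem (show c.d b ∈ c.DG from ⟨b, rfl⟩) _)
  exact c.d_three h1

/-- The data of `N(Q)`. -/
structure NData (Q Vt O : Subgroup G) : Prop where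
  qv : c.QV Q Vt
  odd : Odd (Nat.card O)
  mem : ∀ g, g ∈ O ↔ g ∈ normalizer (Q : Set G) ∧ Odd (orderOf g)
  split : ∀ g ∈ normalizer (Q : Set G), g ∈ O ∨ c.t * g ∈ O
  cent : ∀ g ∈ O, g * c.t = c.t * g → g ∈ c.BU

theorem exists_NData {Q Vt : Subgroup G} (hQV : c.QV Q Vt) : ∃ O, c.NData Q Vt O := by
  have hU : ∀ g ∈ normalizer (Q : Set G), g ∈ c.C.S.K → g ∈ c.BU := by
    intro g hg hK
    have hgt : g * c.t = c.t * g := c.C.S.comm_t hK
    have h1 : g * c.u 1 * g⁻¹ ∈ c.UG := by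
      refine hQV.isQ.fixed_t ((mem_normalizer_iff.1 hg _).1 (hQV.isQ.U_le ⟨1, rfl⟩)) ?_
      exact (((show Commute g c.t from hgt).mul_left (c.u_t 1)).mul_left (show Commute g c.t from hgt).inv_left).eq
    obtain ⟨w, hw⟩ := h1
    exact c.mem_BU hK one_ne_zero hw.symm
  obtain ⟨O, hO, hmem, hsplit⟩ := c.odd_core (normalizer (Q : Set G)) hQV.isQ.t_norm
    fun g hg hK => c.BU_odd.of_dvd_nat (c.BU.orderOf_dvd_natCard (hU g hg hK))
  exact ⟨O, hQV, hO, hmem, hsplit, fun g hg hgt => hU g ((hmem g).1 hg).1 (c.odd_mem_K hgt ((hmem g).1 hg).2)⟩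

namespace NData

variable {c} {Q Vt O : Subgroup G} (N : c.NData Q Vt O)

include N

theorem O_le : O ≤ normalizer (Q : Set G) := fun g hg => ((N.mem g).1 hg).1

theorem mem_of_three {g : G} (hg : g ∈ normalizer (Q : Set G)) {k : ℕ} (h : g ^ 3 ^ k = 1) : g ∈ O :=
  (N.mem g).2 ⟨hg, odd_of_three h⟩

theorem Q_le : Q ≤ O := fun g hg => by
  obtain ⟨k, hk⟩ := N.qv.isQ.p3 ⟨g, hg⟩
  exact N.mem_of_three (le_normalizer hg) (congrArg Subtype.val hk)

theorem x_mem : c.x ∈ O :=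
  (N.mem _).2 ⟨N.qv.isQ.x_norm, Odd.of_dvd_nat (c.hl.odd_of_ne_two c.l2) (orderOf_dvd_of_pow_eq_one c.x_pow)⟩

theorem f_mem : c.f ∈ O := (N.mem _).2 ⟨N.qv.isQ.f_norm, c.C.Phi_odd c.f_mem⟩

theorem Phi_le : c.C.PhiG ≤ O := by rw [← c.gen]; exact zpowers_le.2 N.f_mem

theorem norm_O {n : G} (hn : n ∈ normalizer (Q : Set G)) : n ∈ normalizer (O : Set G) :=
  mem_normalizer_of_map _ fun g hg => (N.mem _).2 ⟨mul_mem (mul_mem hn (N.O_le hg)) (inv_mem hn), by
    rw [← MulAut.conj_apply, MulEquiv.orderOf_eq]; exact ((N.mem g).1 hg).2⟩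

/-- `C(Q)` inside `O`. -/
theorem cent_CU {g : G} (h : g ∈ O ⊓ centralizer (Q : Set G)) : g ∈ c.CU :=
  mem_centralizer_iff.2 fun z hz => mem_centralizer_iff.1 (Subgroup.mem_inf.1 h).2 z (N.qv.isQ.U_le hz)

theorem C_three {g : G} (h : g ∈ O ⊓ centralizer (Q : Set G)) {k : ℕ} (hk : g ^ 3 ^ k = 1) : g ∈ Q :=
  N.qv.isQ.all g (N.cent_CU h) k hk

theorem Q_le_C : Q ≤ O ⊓ centralizer (Q : Set G) :=
  le_inf N.Q_le fun g hg => mem_centralizer_iff.2 fun a ha => N.qv.comm a ha g hg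

theorem C_fixed {g : G} (hg : g ∈ O ⊓ centralizer (Q : Set G)) (hgt : g * c.t = c.t * g) : g ∈ c.UG :=
  c.CU_K (N.cent_CU hg) (c.odd_mem_K hgt ((N.mem g).1 (Subgroup.mem_inf.1 hg).1).2)

theorem C_norm {n g : G} (hn : n ∈ normalizer (Q : Set G)) (hg : g ∈ O ⊓ centralizer (Q : Set G)) :
    n * g * n⁻¹ ∈ O ⊓ centralizer (Q : Set G) := by
  refine Subgroup.mem_inf.2 ⟨(mem_normalizer_iff.1 (N.norm_O hn) g).1 (Subgroup.mem_inf.1 hg).1,
    mem_centralizer_iff.2 fun a ha => ?_⟩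
  have ha' : n⁻¹ * a * n ∈ Q := by
    have := (mem_normalizer_iff.1 (inv_mem hn) a).1 ha
    rwa [inv_inv] at this
  have h := mem_centralizer_iff.1 (Subgroup.mem_inf.1 hg).2 _ ha'
  calc a * (n * g * n⁻¹) = n * ((n⁻¹ * a * n) * g) * n⁻¹ := by group
    _ = n * (g * (n⁻¹ * a * n)) * n⁻¹ := by rw [h]
    _ = n * g * n⁻¹ * a := by group

/-- `C(Q) / U` is inverted by `t`. -/
theorem C_inv {g : G} (hg : g ∈ O ⊓ centralizer (Q : Set G)) : c.t * g * c.t⁻¹ * g ∈ c.UG := by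
  set C := O ⊓ centralizer (Q : Set G)
  have htC : c.t ∈ normalizer (C : Set G) := mem_normalizer_of_map _ fun z hz => N.C_norm N.qv.isQ.t_norm hz
  obtain ⟨a, ha, b, hb, hat, hbt, rfl⟩ := c.decomp (N.odd.of_dvd_nat (card_dvd_of_le inf_le_left)) htC hg
  have haU := N.C_fixed ha hat
  have hab : b⁻¹ * a = a * b⁻¹ := (mem_centralizer_iff.1 (Subgroup.mem_inf.1 (inv_mem hb)).2 a (N.qv.isQ.U_le haU)).symm
  rw [show c.t * (a * b) * c.t⁻¹ = c.t * a * c.t⁻¹ * (c.t * b * c.t⁻¹) by group, hbt, ← hat, mul_inv_cancel_right,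
    show a * b⁻¹ * (a * b) = a * (b⁻¹ * a) * b by group, hab, show a * (a * b⁻¹) * b = a * a by group]
  exact mul_mem haU haU

/-- The 3'-elements of `C(Q)` are central in it and inverted by `t`. -/
theorem C_prime {a b : G} (ha : a ∈ O ⊓ centralizer (Q : Set G)) (hb : b ∈ O ⊓ centralizer (Q : Set G))
    (hb3 : ¬ 3 ∣ orderOf b) : a * b = b * a ∧ c.t * b * c.t⁻¹ = b⁻¹ := by
  have hco : Nat.Coprime 3 (orderOf b) := (Nat.Prime.coprime_iff_not_dvd Nat.prime_three).2 hb3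
  have central : ∀ g ∈ O ⊓ centralizer (Q : Set G), ∀ z ∈ c.UG, z * g = g * z := fun g hg z hz =>
    mem_centralizer_iff.1 (Subgroup.mem_inf.1 hg).2 z (N.qv.isQ.U_le hz)
  have key : ∀ y z : G, z ∈ c.UG → z * b = b * z → y ^ orderOf b = 1 → y = z * b → z = 1 := by
    intro y z hz hzb hy e
    rw [e, (show Commute z b from hzb).mul_pow, pow_orderOf_eq_one, mul_one] at hy
    exact eq_one_of_pow_coprime hco (c.UG_cube hz) hy
  obtain ⟨z1, hz1, e1⟩ : ∃ z ∈ c.UG, c.t * b * c.t⁻¹ = z * b⁻¹ := ⟨_, N.C_inv hb, by group⟩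
  have hinv : c.t * b * c.t⁻¹ = b⁻¹ := by
    have h2 : z1⁻¹ = 1 := by
      refine key (c.t * b⁻¹ * c.t⁻¹) z1⁻¹ (inv_mem hz1) (central b hb _ (inv_mem hz1)) ?_ ?_
      · rw [conj_pow, inv_pow, pow_orderOf_eq_one, inv_one, mul_one, mul_inv_cancel]
      · rw [show c.t * b⁻¹ * c.t⁻¹ = (c.t * b * c.t⁻¹)⁻¹ by group, e1, mul_inv_rev, inv_inv,
          central b hb _ (inv_mem hz1)]
    rw [e1, inv_eq_one.1 h2, one_mul]
  refine ⟨?_, hinv⟩
  obtain ⟨u1, hu1, f1⟩ : ∃ z ∈ c.UG, c.t * a * c.t⁻¹ = z * a⁻¹ := ⟨_, N.C_inv ha, by group⟩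
  obtain ⟨w, hw, ew⟩ : ∃ z ∈ c.UG, a * b * a⁻¹ = z * b := by
    refine ⟨a * b * a⁻¹ * b⁻¹, ?_, by group⟩
    have h := N.C_inv (mul_mem ha hb)
    rw [show c.t * (a * b) * c.t⁻¹ = c.t * a * c.t⁻¹ * (c.t * b * c.t⁻¹) by group, f1, hinv,
      show u1 * a⁻¹ * b⁻¹ * (a * b) = u1 * (a⁻¹ * b⁻¹ * a * b) by group] at h
    have h4 : a⁻¹ * b⁻¹ * a * b ∈ c.UG := by
      have := mul_mem (inv_mem hu1) h
      rwa [inv_mul_cancel_left] at this
    rw [show a * b * a⁻¹ * b⁻¹ = (b * a) * (a⁻¹ * b⁻¹ * a * b) * (b * a)⁻¹ by group,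
      ← central _ (mul_mem hb ha) _ h4, mul_inv_cancel_right]
    exact h4
  have := key (a * b * a⁻¹) w hw (central b hb w hw)
    (by rw [conj_pow, pow_orderOf_eq_one, mul_one, mul_inv_cancel]) ew
  rw [this, one_mul, mul_inv_eq_iff_eq_mul] at ew
  exact ew

/-- An inverted element centralises the 3'-elements of `C(Q)`. -/
theorem inv_cent {g : G} (hg : g ∈ O) (hgt : c.t * g * c.t⁻¹ = g⁻¹) {b : G} (hb : b ∈ O ⊓ centralizer (Q : Set G))
    (hb3 : ¬ 3 ∣ orderOf b) : g * b = b * g := by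
  have h1 := (N.C_prime hb hb hb3).2
  have hb' : g * b * g⁻¹ ∈ O ⊓ centralizer (Q : Set G) := N.C_norm (N.O_le hg) hb
  have h2 := (N.C_prime hb' hb' (by rwa [← MulAut.conj_apply, MulEquiv.orderOf_eq])).2
  rw [show c.t * (g * b * g⁻¹) * c.t⁻¹ = (c.t * g * c.t⁻¹) * (c.t * b * c.t⁻¹) * (c.t * g * c.t⁻¹)⁻¹ by group, hgt, h1,
    inv_inv, show (g * b * g⁻¹)⁻¹ = g * b⁻¹ * g⁻¹ by group] at h2
  have h3 : g ^ 2 * b = b * g ^ 2 := by
    have h4 : g⁻¹ * b * g = g * b * g⁻¹ := by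
      have := congrArg (fun z => z⁻¹) h2
      simpa [mul_assoc] using this
    calc g ^ 2 * b = g * (g * b * g⁻¹) * g := by rw [pow_two]; group
      _ = g * (g⁻¹ * b * g) * g := by rw [h4]
      _ = b * g ^ 2 := by rw [pow_two]; group
  obtain ⟨k, hk⟩ := sq_pow ((N.mem g).1 hg).2
  rw [hk]
  exact ((show Commute (g ^ 2) b from h3).pow_left k).eq

/-- An element of `C(Q)` is a product of a 3-element and a 3'-element. -/
theorem C_split {g : G} (hg : g ∈ O ⊓ centralizer (Q : Set G)) :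
    ∃ a ∈ Q, ∃ b ∈ O ⊓ centralizer (Q : Set G), ¬ 3 ∣ orderOf b ∧ g = a * b := by
  obtain ⟨k, m, hm, hn⟩ := Nat.exists_eq_pow_mul_and_not_dvd (orderOf_pos g).ne' 3 (by norm_num)
  have hco : Nat.Coprime (3 ^ k) m := Nat.Coprime.pow_left k ((Nat.Prime.coprime_iff_not_dvd Nat.prime_three).2 hm)
  have hb := Nat.gcd_eq_gcd_ab (3 ^ k) m
  rw [hco.gcd_eq_one] at hb
  set A : ℤ := Nat.gcdA (3 ^ k) m
  set B : ℤ := Nat.gcdB (3 ^ k) m
  have hord : g ^ ((3 ^ k * m : ℕ) : ℤ) = 1 := by rw [zpow_natCast, ← hn, pow_orderOf_eq_one]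
  refine ⟨g ^ ((m : ℤ) * B), N.C_three (zpow_mem hg _) (k := k) ?_, g ^ (((3 ^ k : ℕ) : ℤ) * A), zpow_mem hg _, ?_, ?_⟩
  · rw [← zpow_natCast, ← zpow_mul, show (m : ℤ) * B * ((3 ^ k : ℕ) : ℤ) = ((3 ^ k * m : ℕ) : ℤ) * B by push_cast; ring,
      zpow_mul, hord, one_zpow]
  · intro h3
    have hd : orderOf (g ^ (((3 ^ k : ℕ) : ℤ) * A)) ∣ m := orderOf_dvd_of_pow_eq_one (by
      rw [← zpow_natCast, ← zpow_mul, show ((3 ^ k : ℕ) : ℤ) * A * (m : ℤ) = ((3 ^ k * m : ℕ) : ℤ) * A by push_cast; ring,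
        zpow_mul, hord, one_zpow])
    exact hm (h3.trans hd)
  · rw [← zpow_add]
    conv_lhs => rw [← zpow_one g]
    congr 1
    push_cast at hb ⊢
    linarith

/-- An element commuting with `f` modulo `Q` lifts to `C(f)`. -/
theorem lift_Q [IsSimpleGroup G] (hB : c.TB) {g : G} (h : c.f * g * c.f⁻¹ * g⁻¹ ∈ Q) :
    ∃ v ∈ Q, v * g * c.f = c.f * (v * g) := by
  classical
  set T := N.qv.isQ.tower
  letI : CommGroup Q := { (inferInstance : Group Q) with
    mul_comm := fun a b => Subtype.ext (N.qv.comm a a.2 b b.2) }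
  have hfQ := N.qv.isQ.f_norm
  have conjf : ∀ {z : G}, z ∈ Q → ∀ n : ℕ, c.f ^ n * z * (c.f ^ n)⁻¹ ∈ Q := fun hz n =>
    (mem_normalizer_iff.1 (pow_mem hfQ n) _).1 hz
  have cocyc : ∀ {b : G}, c.f * b * c.f⁻¹ * b⁻¹ ∈ Q → ∀ n : ℕ, c.f ^ n * b * (c.f ^ n)⁻¹ * b⁻¹ ∈ Q := by
    intro b hb n
    induction n with
    | zero => simp [one_mem]
    | succ n ih =>
      rw [pow_succ, show c.f ^ n * c.f * b * (c.f ^ n * c.f)⁻¹ * b⁻¹ =
        c.f ^ n * (c.f * b * c.f⁻¹ * b⁻¹) * (c.f ^ n)⁻¹ * (c.f ^ n * b * (c.f ^ n)⁻¹ * b⁻¹) by group]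
      exact mul_mem (conjf hb n) ih
  have hgP : g * c.tau * g⁻¹ ∈ T.P1 := by
    refine ⟨(c.f ^ c.mm * g * (c.f ^ c.mm)⁻¹ * g⁻¹)⁻¹, inv_mem (cocyc h _), 1, ?_⟩
    rw [pow_one, tau]; group
  obtain ⟨v, hv, hvt⟩ := T.norm_cases hB hgP
  set h' := v * g with hh'
  have hq : c.f * h' * c.f⁻¹ * h'⁻¹ ∈ Q := by
    rw [hh', show c.f * (v * g) * c.f⁻¹ * (v * g)⁻¹ = c.f * v * c.f⁻¹ * (c.f * g * c.f⁻¹ * g⁻¹) * v⁻¹ by group]
    exact mul_mem (mul_mem ((mem_normalizer_iff.1 hfQ v).1 hv) h) (inv_mem hv)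
  let φ : Q → Q := fun z => ⟨c.f * z * c.f⁻¹, (mem_normalizer_iff.1 hfQ _).1 z.2⟩
  let φh : Q →* Q := MonoidHom.mk' φ fun a b => Subtype.ext (by
    show c.f * ((a : G) * b) * c.f⁻¹ = c.f * (a : G) * c.f⁻¹ * (c.f * (b : G) * c.f⁻¹)
    group)
  let s : ℕ → Q := fun n => ⟨c.f ^ n * h' * (c.f ^ n)⁻¹ * h'⁻¹, cocyc hq n⟩
  set q : Q := ⟨_, hq⟩ with hqdef
  have hs : ∀ n, φh (s n) * q = s (n + 1) := fun n => Subtype.ext (by
    show c.f * (c.f ^ n * h' * (c.f ^ n)⁻¹ * h'⁻¹) * c.f⁻¹ * (c.f * h' * c.f⁻¹ * h'⁻¹) =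
      c.f ^ (n + 1) * h' * (c.f ^ (n + 1))⁻¹ * h'⁻¹
    rw [pow_succ']; group)
  have hs0 : s 0 = 1 := Subtype.ext (by show c.f ^ 0 * h' * (c.f ^ 0)⁻¹ * h'⁻¹ = 1; simp)
  have hsm : s c.mm = 1 := Subtype.ext (by
    show c.f ^ c.mm * h' * (c.f ^ c.mm)⁻¹ * h'⁻¹ = 1
    rw [← show c.tau = c.f ^ c.mm from rfl, ← hvt, mul_inv_cancel_right, mul_inv_cancel])
  set w := ∏ k ∈ Finset.range c.mm, s k
  have hw : φh w * q ^ c.mm = w := by
    have e1 : φh w * q ^ c.mm = ∏ k ∈ Finset.range c.mm, s (k + 1) := by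
      rw [map_prod, ← Finset.card_range c.mm, ← Finset.prod_const, Finset.card_range, ← Finset.prod_mul_distrib]
      exact Finset.prod_congr rfl fun k _ => hs k
    have e2 := (Finset.prod_range_succ' s c.mm).symm.trans (Finset.prod_range_succ s c.mm)
    rw [hs0, hsm, mul_one, mul_one] at e2
    exact e1.trans e2
  obtain ⟨j, -, hj⟩ := Nat.exists_mul_mod_eq_one_of_coprime
    ((Nat.Prime.coprime_iff_not_dvd Nat.prime_three).2 c.not_three_mm).symm (by norm_num : 1 < 3)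
  have hqj : (q ^ c.mm) ^ j = q := by
    have h3 : q ^ 3 = 1 := Subtype.ext (N.qv.cube _ q.2)
    rw [← pow_mul, ← Nat.div_add_mod (c.mm * j) 3, hj, pow_add, pow_mul, h3, one_pow, one_mul, pow_one]
  have hu : φh (w ^ j) * q = w ^ j := by
    conv_lhs => rw [← hqj, map_pow, ← mul_pow, hw]
  have hu' : c.f * ((w ^ j : Q) : G) * c.f⁻¹ * (c.f * h' * c.f⁻¹ * h'⁻¹) = ((w ^ j : Q) : G) :=
    congrArg Subtype.val hu
  refine ⟨((w ^ j : Q) : G) * v, mul_mem (w ^ j : Q).2 hv, ?_⟩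
  rw [mul_assoc _ v g, ← hh']
  refine (mul_inv_eq_iff_eq_mul.1 ?_).symm
  rw [show c.f * (((w ^ j : Q) : G) * h') * c.f⁻¹ =
    c.f * ((w ^ j : Q) : G) * c.f⁻¹ * (c.f * h' * c.f⁻¹ * h'⁻¹) * h' by group, hu']

/-- An element of `O` commuting with `f` modulo `C(Q)` lifts to `C(f)`. -/
theorem lift_f [IsSimpleGroup G] (hB : c.TB) {g : G} (hg : g ∈ O)
    (h : c.f * g * c.f⁻¹ * g⁻¹ ∈ O ⊓ centralizer (Q : Set G)) :
    ∃ z ∈ O ⊓ centralizer (Q : Set G), z * g * c.f = c.f * (z * g) := by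
  classical
  set C := O ⊓ centralizer (Q : Set G) with hC
  let C' : Subgroup G :=
    { carrier := {b | b ∈ C ∧ ¬ 3 ∣ orderOf b}
      one_mem' := ⟨one_mem _, by simp⟩
      mul_mem' := fun {a b} ha hb => ⟨mul_mem ha.1 hb.1, fun h3 => by
        have hc : Commute a b := (N.C_prime ha.1 hb.1 hb.2).1
        rcases Nat.prime_three.dvd_mul.1 (h3.trans hc.orderOf_mul_dvd_mul_orderOf) with h | h
        exacts [ha.2 h, hb.2 h]⟩
      inv_mem' := fun {a} ha => ⟨inv_mem ha.1, by rw [orderOf_inv]; exact ha.2⟩ }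
  have hfC' : ∀ b ∈ C', c.f * b * c.f⁻¹ ∈ C' := fun b hb =>
    ⟨N.C_norm N.qv.isQ.f_norm hb.1, by rw [← MulAut.conj_apply, MulEquiv.orderOf_eq]; exact hb.2⟩
  let δ : C' → C' := fun b => ⟨c.f * b * c.f⁻¹ * (b : G)⁻¹, mul_mem (hfC' b b.2) (inv_mem b.2)⟩
  have hδ : Function.Injective δ := by
    intro a b e
    have e' : c.f * (a : G) * c.f⁻¹ * (a : G)⁻¹ = c.f * (b : G) * c.f⁻¹ * (b : G)⁻¹ := congrArg Subtype.val e
    have hab : (b : G)⁻¹ * a ∈ C' := mul_mem (inv_mem b.2) a.2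
    have hcom : ∀ {p r : G}, p ∈ C' → r ∈ C' → Commute p r := fun hp hr => (N.C_prime hp.1 hr.1 hr.2).1
    have hfix : c.f * ((b : G)⁻¹ * a) = (b : G)⁻¹ * a * c.f := by
      rw [← mul_inv_eq_iff_eq_mul, show c.f * ((b : G)⁻¹ * a) * c.f⁻¹ =
        (c.f * (b : G) * c.f⁻¹)⁻¹ * (c.f * (a : G) * c.f⁻¹ * (a : G)⁻¹) * a by group, e',
        show (c.f * (b : G) * c.f⁻¹)⁻¹ * (c.f * (b : G) * c.f⁻¹ * (b : G)⁻¹) * a = (b : G)⁻¹ * a by group]
    have h1 := c.Phi_cent_U (c.mem_Phi_of (c.mem_H_of_f hfix)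
      (mem_centralizer_iff.1 (N.cent_CU hab.1) _ ⟨1, rfl⟩).symm
      ((N.mem _).1 (Subgroup.mem_inf.1 hab.1).1).2 hab.2) (N.cent_CU hab.1)
    exact Subtype.ext (inv_mul_eq_one.1 h1).symm
  obtain ⟨qa, hqa, b, hb, hb3, e⟩ := N.C_split h
  obtain ⟨d, hd⟩ := Finite.injective_iff_surjective.1 hδ ⟨b⁻¹, inv_mem (show b ∈ C' from ⟨hb, hb3⟩)⟩
  have hd' : c.f * (d : G) * c.f⁻¹ * (d : G)⁻¹ = b⁻¹ := congrArg Subtype.val hd
  have hfd : c.f * (d : G) * c.f⁻¹ = b⁻¹ * d := by rw [← hd', inv_mul_cancel_right]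
  obtain ⟨v, hv, hvg⟩ := N.lift_Q hB (g := (d : G) * g) (by
    have hqb : Commute (b⁻¹ * (d : G)) qa := (mem_centralizer_iff.1
      (Subgroup.mem_inf.1 (mul_mem (inv_mem hb) d.2.1)).2 _ hqa).symm
    have hbd : Commute (d : G) b := (N.C_prime d.2.1 hb hb3).1
    rw [show c.f * ((d : G) * g) * c.f⁻¹ * ((d : G) * g)⁻¹ =
      c.f * (d : G) * c.f⁻¹ * (c.f * g * c.f⁻¹ * g⁻¹) * (d : G)⁻¹ by group, hfd, e, ← mul_assoc, hqb.eq,
      show qa * (b⁻¹ * (d : G)) * b * (d : G)⁻¹ = qa * (b⁻¹ * ((d : G) * b) * (d : G)⁻¹) by group, hbd.eq,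
      inv_mul_cancel_left, mul_inv_cancel, mul_one]
    exact hqa)
  exact ⟨v * d, mul_mem (N.Q_le_C hv) d.2.1, by rw [mul_assoc v (d : G) g]; exact hvg⟩

/-- The action of `O` on `Q`. -/
noncomputable def rho : O →* MulAut Q where
  toFun g :=
    { toFun := fun z => ⟨(g : G) * z * (g : G)⁻¹, (mem_normalizer_iff.1 (N.O_le g.2) _).1 z.2⟩
      invFun := fun z => ⟨(g : G)⁻¹ * z * g, by
        have := (mem_normalizer_iff.1 (inv_mem (N.O_le g.2)) (z : G)).1 z.2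
        rwa [inv_inv] at this⟩
      left_inv := fun z => Subtype.ext (by simp [mul_assoc])
      right_inv := fun z => Subtype.ext (by simp [mul_assoc])
      map_mul' := fun a b => Subtype.ext (by simp [mul_assoc]) }
  map_one' := MulEquiv.ext fun z => Subtype.ext (by simp)
  map_mul' g h := MulEquiv.ext fun z => Subtype.ext (by simp [mul_assoc])

theorem rho_one {g : O} : N.rho g = 1 ↔ (g : G) ∈ O ⊓ centralizer (Q : Set G) := by
  constructor
  · intro h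
    refine Subgroup.mem_inf.2 ⟨g.2, mem_centralizer_iff.2 fun z hz => ?_⟩
    have h1 := congrArg Subtype.val (DFunLike.congr_fun h ⟨z, hz⟩)
    exact (mul_inv_eq_iff_eq_mul.1 h1).symm
  · intro h
    refine MulEquiv.ext fun z => Subtype.ext ?_
    show (g : G) * z * (g : G)⁻¹ = z
    rw [← mem_centralizer_iff.1 (Subgroup.mem_inf.1 h).2 _ z.2, mul_inv_cancel_right]

theorem rho_comm {a b : O} :
    N.rho a * N.rho b = N.rho b * N.rho a ↔ (a : G) * b * (a : G)⁻¹ * (b : G)⁻¹ ∈ O ⊓ centralizer (Q : Set G) := by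
  show _ ↔ ((a * b * a⁻¹ * b⁻¹ : O) : G) ∈ O ⊓ centralizer (Q : Set G)
  rw [← N.rho_one (g := a * b * a⁻¹ * b⁻¹), map_mul, map_mul, map_mul, map_inv, map_inv, mul_inv_eq_one,
    mul_inv_eq_iff_eq_mul]

/-- The elements of `C(t)` in `O` commuting with `x` modulo `C(Q)`. -/
theorem cent_t_comm_x {a : G} (hat : a ∈ c.BU) (ha : a * c.x * a⁻¹ * c.x⁻¹ ∈ O ⊓ centralizer (Q : Set G)) :
    ∃ v b, a = c.u v * c.d b := by
  obtain ⟨v, b, y, hy, rfl⟩ := c.BU_cases hat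
  refine ⟨v, b, ?_⟩
  set b' := Units.map (c.sig y : F →* F) c.a with hb'
  have hcomm : c.u v * c.d b * y * c.x * (c.u v * c.d b * y)⁻¹ * c.x⁻¹ = c.u v * c.d b' * (c.u v)⁻¹ * c.x⁻¹ := by
    rw [show c.u v * c.d b * y * c.x * (c.u v * c.d b * y)⁻¹ * c.x⁻¹ =
      c.u v * (c.d b * (y * c.x * y⁻¹) * (c.d b)⁻¹) * (c.u v)⁻¹ * c.x⁻¹ by group, x, c.conj_d hy, ← hb', c.d_mul,
      mul_comm b b', ← c.d_mul, mul_inv_cancel_right]
  rw [hcomm] at ha
  -- it centralises `u 1`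
  have hU := mem_centralizer_iff.1 (N.cent_CU ha) _ (show c.u 1 ∈ c.UG from ⟨1, rfl⟩)
  have e : c.u v * c.d b' * (c.u v)⁻¹ * c.x⁻¹ * c.u 1 * (c.u v * c.d b' * (c.u v)⁻¹ * c.x⁻¹)⁻¹ =
      c.u (((b' * c.a⁻¹ : Fˣ) : F) ^ 2) := by
    have hx' : c.x⁻¹ = c.d c.a⁻¹ := inv_eq_of_mul_eq_one_left (by rw [x, c.d_mul, inv_mul_cancel, c.d_one])
    have hu : ∀ p q : F, c.u p * c.u q * (c.u p)⁻¹ = c.u q := fun p q => by rw [c.u_comm, mul_inv_cancel_right]
    have e1 : (c.u v)⁻¹ * (c.x⁻¹ * c.u 1 * c.x⁻¹⁻¹) * c.u v = c.x⁻¹ * c.u 1 * c.x⁻¹⁻¹ := by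
      rw [hx', c.d_u, ← c.u_neg, c.u_comm, mul_assoc, c.u_comm (-v), ← mul_assoc, ← c.u_add, ← c.u_add]
      congr 1; ring
    rw [show c.u v * c.d b' * (c.u v)⁻¹ * c.x⁻¹ * c.u 1 * (c.u v * c.d b' * (c.u v)⁻¹ * c.x⁻¹)⁻¹ =
      c.u v * (c.d b' * ((c.u v)⁻¹ * (c.x⁻¹ * c.u 1 * c.x⁻¹⁻¹) * c.u v) * (c.d b')⁻¹) * (c.u v)⁻¹ by group,
      e1, hx', c.d_u, c.d_u, hu]
    congr 1
    push_cast; ring
  rw [← hU, mul_inv_cancel_right] at e
  have hb1 : b' * c.a⁻¹ = 1 := by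
    have h2 : (b' * c.a⁻¹) ^ 2 = 1 := Units.ext (by rw [Units.val_pow_eq_pow_val, Units.val_one]; exact (c.u_inj e).symm)
    have hl : (b' * c.a⁻¹) ^ c.ell = 1 := by
      rw [mul_pow, hb', ← map_pow, inv_pow, ← c.ha, pow_orderOf_eq_one, map_one, inv_one, mul_one]
    exact orderOf_eq_one_iff.1 (Nat.eq_one_of_dvd_coprimes ((Nat.coprime_primes Nat.prime_two c.hl).2 (Ne.symm c.l2))
      (orderOf_dvd_of_pow_eq_one h2) (orderOf_dvd_of_pow_eq_one hl))
  rw [mul_inv_eq_one] at hb1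
  have hσ := c.sig_a (σ := c.sig y) (congrArg Units.val hb1)
  rw [c.sig_inj hy hσ, mul_one]

/-- The action of `t` on the image. -/
theorem exists_tG : ∃ tG : N.rho.range ≃* N.rho.range, ∀ (g : O) (h : c.t * g * c.t⁻¹ ∈ O),
    tG (N.rho.rangeRestrict g) = N.rho.rangeRestrict ⟨_, h⟩ := by
  let tq : MulAut Q :=
    { toFun := fun z => ⟨c.t * z * c.t⁻¹, (mem_normalizer_iff.1 N.qv.isQ.t_norm _).1 z.2⟩
      invFun := fun z => ⟨c.t⁻¹ * z * c.t, by
        have := (mem_normalizer_iff.1 (inv_mem N.qv.isQ.t_norm) (z : G)).1 z.2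
        rwa [inv_inv] at this⟩
      left_inv := fun z => Subtype.ext (by simp [mul_assoc])
      right_inv := fun z => Subtype.ext (by simp [mul_assoc])
      map_mul' := fun a b => Subtype.ext (by simp [mul_assoc]) }
  have hO := N.norm_O N.qv.isQ.t_norm
  have key : ∀ g : O, MulAut.conj tq (N.rho g) = N.rho ⟨c.t * g * c.t⁻¹, (mem_normalizer_iff.1 hO _).1 g.2⟩ := by
    intro g
    refine MulEquiv.ext fun z => Subtype.ext ?_
    show c.t * ((g : G) * (c.t⁻¹ * z * c.t) * (g : G)⁻¹) * c.t⁻¹ = c.t * g * c.t⁻¹ * z * (c.t * g * c.t⁻¹)⁻¹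
    group
  have hmap : N.rho.range.map (MulAut.conj tq).toMonoidHom = N.rho.range := by
    refine eq_of_le_of_card_ge ?_ (card_map_of_injective (f := (MulAut.conj tq).toMonoidHom) (MulAut.conj tq).injective).ge
    rintro _ ⟨_, ⟨g, rfl⟩, rfl⟩
    exact ⟨_, (key g).symm⟩
  exact ⟨((MulAut.conj tq).subgroupMap N.rho.range).trans (MulEquiv.subgroupCongr hmap),
    fun g h => Subtype.ext (key g)⟩

/-- The hypotheses of `TwoMod.three_core`. -/
theorem three_core [IsSimpleGroup G] (hB : c.TB) : pCore 3 N.rho.range ≠ ⊥ := by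
  classical
  haveI := Fact.mk Nat.prime_three
  haveI := Fact.mk Nat.prime_two
  letI : CommGroup Q := { (inferInstance : Group Q) with
    mul_comm := fun a b => Subtype.ext (N.qv.comm a a.2 b b.2) }
  let xO : O := ⟨c.x, N.x_mem⟩
  let fO : O := ⟨c.f, N.f_mem⟩
  -- a three-element of `C(τ)` moving a fixed point of `τ`
  obtain ⟨y, hyO, k, hy3, hyt, z, hzQ, hzt, hyz⟩ : ∃ y, ∃ _ : y ∈ O, ∃ k : ℕ, y ^ 3 ^ k = 1 ∧
      y * c.tau = c.tau * y ∧ ∃ z ∈ Q, z * c.tau = c.tau * z ∧ y * z * y⁻¹ ≠ z := by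
    obtain ⟨R, hR3, hRt, hRN, hRcard⟩ := N.qv.grow
    by_contra hne
    push Not at hne
    refine absurd (c.card_cent_U1 (P := R) (fun y hy => mem_centralizer_iff.2 fun w hw => ?_) hRt hR3) (not_le.2 hRcard)
    obtain ⟨k, hk⟩ := hR3 ⟨y, hy⟩
    obtain ⟨hwU, hwt⟩ := Subgroup.mem_inf.1 hw
    have h := hne y (N.mem_of_three (hRN hy) (congrArg Subtype.val hk :)) k (congrArg Subtype.val hk :)
      (mem_centralizer_singleton_iff.1 (hRt hy)) w (N.qv.isQ.U_le hwU) (mem_centralizer_singleton_iff.1 hwt)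
    exact (mul_inv_eq_iff_eq_mul.1 h).symm
  obtain ⟨tG, htG⟩ := N.exists_tG
  have htO : ∀ g : O, c.t * g * c.t⁻¹ ∈ O := fun g => (mem_normalizer_iff.1 (N.norm_O N.qv.isQ.t_norm) _).1 g.2
  obtain ⟨μ, hμ, hμo⟩ := c.exists_mu c.hl c.ha c.fix_a_iff
  have hgodd : Odd (Nat.card N.rho.range) := N.odd.of_dvd_nat (Subgroup.card_range_dvd _)
  have hsq1 : ∀ g : N.rho.range, g ^ 2 = 1 → g = 1 := fun g hg =>
    eq_one_of_sq (hgodd.of_dvd_nat (_root_.orderOf_dvd_natCard g)) hg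
  let M : TwoMod N.rho.range Q c.ee c.ell :=
    { ρ := N.rho.range.subtype
      tt := tG
      x := N.rho.rangeRestrict xO
      f := N.rho.rangeRestrict fO
      inj := Subtype.val_injective
      odd := hgodd
      cube := fun v => Subtype.ext (N.qv.cube v v.2)
      card := by rw [N.qv.card, two_mul, pow_add]
      prime := c.hl
      ne3 := c.l3
      pos := c.ee_pos
      ord3 := c.ord3
      hx := by rw [← map_pow, show xO ^ c.ell = 1 from Subtype.ext c.x_pow, map_one]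
      fpf := fun v hv => by
        obtain ⟨k, hk⟩ := N.qv.isQ.p3 v
        refine Subtype.ext (c.cx_three ?_ (congrArg Subtype.val hk))
        have h : c.x * (v : G) * c.x⁻¹ = v := congrArg Subtype.val hv
        exact (mul_inv_eq_iff_eq_mul.1 h).symm
      hf := by rw [← map_pow, show fO ^ c.ee = 1 from Subtype.ext c.pow_f, map_one]
      μ := μ
      hμ := by rw [← map_inv, ← map_mul, ← map_mul, ← map_pow]; exact congrArg _ (Subtype.ext hμ)
      hμo := hμo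
      tt_tt := fun g => by
        obtain ⟨g0, rfl⟩ := N.rho.rangeRestrict_surjective g
        rw [htG g0 (htO g0), htG _ (htO ⟨_, htO g0⟩)]
        refine congrArg _ (Subtype.ext ?_)
        show c.t * (c.t * (g0 : G) * c.t⁻¹) * c.t⁻¹ = g0
        rw [show c.t * (c.t * (g0 : G) * c.t⁻¹) * c.t⁻¹ = c.t * c.t * g0 * (c.t * c.t)⁻¹ by group, c.C.S.sq_t]
        group
      tt_x := by
        rw [htG xO (htO xO)]
        exact congrArg _ (Subtype.ext (show c.t * c.x * c.t⁻¹ = c.x by rw [← c.x_t, mul_inv_cancel_right]))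
      tt_f := by
        rw [htG fO (htO fO)]
        exact congrArg _ (Subtype.ext (show c.t * c.f * c.t⁻¹ = c.f by rw [← c.f_t, mul_inv_cancel_right]))
      fixt := fun a ha => by
        obtain ⟨g0, rfl⟩ := N.rho.rangeRestrict_surjective a
        obtain ⟨A, hA, B, hB', hAt, hBt, e⟩ := c.decomp N.odd (N.norm_O N.qv.isQ.t_norm) g0.2
        have e0 : g0 = ⟨A, hA⟩ * ⟨B, hB'⟩ := Subtype.ext e
        have hA' : tG (N.rho.rangeRestrict ⟨A, hA⟩) = N.rho.rangeRestrict ⟨A, hA⟩ := by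
          rw [htG _ (htO _)]
          exact congrArg _ (Subtype.ext (show c.t * A * c.t⁻¹ = A by rw [← hAt, mul_inv_cancel_right]))
        have hB1 : N.rho.rangeRestrict ⟨B, hB'⟩ = 1 := by
          have hB2 : tG (N.rho.rangeRestrict ⟨B, hB'⟩) = (N.rho.rangeRestrict ⟨B, hB'⟩)⁻¹ := by
            rw [htG _ (htO _), ← map_inv]
            exact congrArg _ (Subtype.ext hBt)
          rw [e0, map_mul, map_mul, hA', hB2, mul_right_inj] at ha
          refine hsq1 _ ?_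
          rw [pow_two, mul_eq_one_iff_eq_inv]
          exact ha.symm
        rw [e0, map_mul, hB1, mul_one]
        obtain ⟨v, b, h, hh, rfl⟩ := c.BU_cases (N.cent A hA hAt)
        obtain ⟨i, hi⟩ := c.conj_x hh
        refine ⟨i, ?_⟩
        show N.rho.rangeRestrict xO ^ i = _
        rw [← map_zpow, ← map_inv, ← map_mul, ← map_mul]
        refine Subtype.ext ?_
        show N.rho (xO ^ i) = N.rho _
        have hd : c.d b * c.x ^ i * (c.d b)⁻¹ = c.x ^ i := by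
          have hc : Commute (c.d b) c.x := by
            show c.d b * c.d c.a = c.d c.a * c.d b
            rw [c.d_mul, c.d_mul, mul_comm]
          rw [(hc.zpow_right i).eq, mul_inv_cancel_right]
        have hu : c.u v ∈ O ⊓ centralizer (Q : Set G) := N.Q_le_C (N.qv.isQ.U_le ⟨v, rfl⟩)
        have e1 : N.rho ⟨c.u v, (Subgroup.mem_inf.1 hu).1⟩ = 1 := N.rho_one.2 hu
        have e2 : (⟨c.u v * c.d b * h, hA⟩ * xO * ⟨c.u v * c.d b * h, hA⟩⁻¹ : O) =
            ⟨c.u v, (Subgroup.mem_inf.1 hu).1⟩ * xO ^ i * ⟨c.u v, (Subgroup.mem_inf.1 hu).1⟩⁻¹ := Subtype.ext (by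
          show c.u v * c.d b * h * c.x * (c.u v * c.d b * h)⁻¹ = c.u v * c.x ^ i * (c.u v)⁻¹
          rw [show c.u v * c.d b * h * c.x * (c.u v * c.d b * h)⁻¹ =
            c.u v * (c.d b * (h * c.x * h⁻¹) * (c.d b)⁻¹) * (c.u v)⁻¹ by group,
            ← show c.x ^ i = h * c.x * h⁻¹ from hi, hd])
        rw [e2, map_mul, map_mul, map_inv, e1, inv_one, one_mul, mul_one]
      invfix := fun b q k hq hq3 hbk hbt hbf => by
        haveI := Fact.mk hq
        obtain ⟨g0, rfl⟩ := N.rho.rangeRestrict_surjective b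
        have hbf' : N.rho g0 * N.rho fO = N.rho fO * N.rho g0 := congrArg Subtype.val hbf
        obtain ⟨z, hz, hzg⟩ := N.lift_f hB g0.2 (N.rho_comm.1 hbf'.symm)
        set w : O := ⟨z * g0, mul_mem (Subgroup.mem_inf.1 hz).1 g0.2⟩ with hwdef
        have hwH : (w : G) ∈ c.H := c.mem_H_of_f hzg.symm
        have hrho : N.rho.rangeRestrict w = N.rho.rangeRestrict g0 := by
          rw [show w = ⟨z, (Subgroup.mem_inf.1 hz).1⟩ * g0 from rfl, map_mul,
            show N.rho.rangeRestrict ⟨z, (Subgroup.mem_inf.1 hz).1⟩ = 1 from Subtype.ext (N.rho_one.2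
              (show ((⟨z, (Subgroup.mem_inf.1 hz).1⟩ : O) : G) ∈ O ⊓ centralizer (Q : Set G) from hz)), one_mul]
        rw [← hrho] at hbk hbt ⊢
        by_cases hq2 : q = 2
        · subst hq2
          refine orderOf_eq_one_iff.1 (Nat.eq_one_of_dvd_coprimes (Nat.Coprime.pow_left k
            (Nat.coprime_two_left.2 (hgodd.of_dvd_nat (_root_.orderOf_dvd_natCard _))))
            (orderOf_dvd_of_pow_eq_one hbk) dvd_rfl)
        obtain ⟨j, m, hm, hn⟩ := Nat.exists_eq_pow_mul_and_not_dvd (orderOf_pos (w : G)).ne' q hq.ne_one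
        set W' := (w : G) ^ m with hW'
        have hWo : W' ^ q ^ j = 1 := by rw [hW', ← pow_mul, mul_comm, ← hn, pow_orderOf_eq_one]
        have hWO : W' ∈ O := pow_mem w.2 m
        have hWH : W' ∈ c.H := pow_mem hwH m
        -- it fixes `C_Q(f)`
        have hmem : zpowers W' ≤ normalizer ((Q ⊓ c.H : Subgroup G) : Set G) :=
          zpowers_le.2 (mem_normalizer_of_map _ fun a ha => Subgroup.mem_inf.2
            ⟨(mem_normalizer_iff.1 (N.O_le hWO) a).1 (Subgroup.mem_inf.1 ha).1,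
              mul_mem (mul_mem hWH (Subgroup.mem_inf.1 ha).2) (inv_mem hWH)⟩)
        letI : MulAction (zpowers W') (Q ⊓ c.H : Subgroup G) :=
          MulAction.ofEndHom
            { toFun := fun p a => ⟨(p : G) * a * (p : G)⁻¹, (mem_normalizer_iff.1 (hmem p.2) _).1 a.2⟩
              map_one' := funext fun a => Subtype.ext (by simp; rfl)
              map_mul' := fun p r => funext fun a => Subtype.ext (by
                show ((p : G) * r) * (a : G) * ((p : G) * r)⁻¹ = (p : G) * ((r : G) * a * (r : G)⁻¹) * (p : G)⁻¹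
                group) }
        obtain ⟨i, -, hi⟩ := (Nat.dvd_prime_pow hq).1 (orderOf_dvd_of_pow_eq_one hWo)
        have hfx := (IsPGroup.of_card (p := q) (n := i) (G := zpowers W') (by
          rw [Nat.card_zpowers, hi])).card_modEq_card_fixedPoints (Q ⊓ c.H : Subgroup G)
        rw [N.qv.card_QH] at hfx
        have hsub : Nat.card (MulAction.fixedPoints (zpowers W') (Q ⊓ c.H : Subgroup G)) =
            Nat.card (Q ⊓ c.H ⊓ centralizer ({W'} : Set G) : Subgroup G) := by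
          refine Nat.card_congr
            { toFun := fun a => ⟨(a.1 : G), Subgroup.mem_inf.2 ⟨a.1.2, mem_centralizer_singleton_iff.2
                (mul_inv_eq_iff_eq_mul.1 (congrArg Subtype.val (a.2 ⟨W', mem_zpowers _⟩))).symm⟩⟩
              invFun := fun a => ⟨⟨(a : G), (Subgroup.mem_inf.1 a.2).1⟩, fun p => Subtype.ext (by
                show (p : G) * a * (p : G)⁻¹ = a
                obtain ⟨n, hn⟩ := mem_zpowers_iff.1 p.2
                rw [← hn, ((show Commute W' (a : G) from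
                  (mem_centralizer_singleton_iff.1 (Subgroup.mem_inf.1 a.2).2).symm).zpow_left n).eq,
                  mul_inv_cancel_right])⟩
              left_inv := fun a => rfl
              right_inv := fun a => rfl }
        rw [hsub] at hfx
        have hd9 : Nat.card (Q ⊓ c.H ⊓ centralizer ({W'} : Set G) : Subgroup G) ∣ 3 ^ 2 :=
          (card_dvd_of_le inf_le_left).trans (dvd_of_eq N.qv.card_QH)
        obtain ⟨i', hi'2, hi'⟩ := (Nat.dvd_prime_pow Nat.prime_three).1 hd9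
        have hall : Q ⊓ c.H ⊓ centralizer ({W'} : Set G) = Q ⊓ c.H := by
          refine eq_of_le_of_card_ge inf_le_left ?_
          rw [N.qv.card_QH, hi']
          rw [hi'] at hfx
          have hd := (Nat.modEq_iff_dvd' (Nat.pow_le_pow_right (by norm_num) hi'2)).1 hfx.symm
          interval_cases i'
          · exact absurd ((Nat.prime_dvd_prime_iff_eq hq Nat.prime_two).1
              (hq.dvd_of_dvd_pow (n := 3) (by simpa using hd))) hq2
          · rcases (Nat.Prime.dvd_mul hq).1 (show q ∣ 2 * 3 by simpa using hd) with h | h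
            · exact absurd ((Nat.prime_dvd_prime_iff_eq hq Nat.prime_two).1 h) hq2
            · exact absurd ((Nat.prime_dvd_prime_iff_eq hq Nat.prime_three).1 h) hq3
          · norm_num
        have hr : c.r ∈ Q ⊓ c.H ⊓ centralizer ({W'} : Set G) :=
          hall.symm ▸ Subgroup.mem_inf.2 ⟨N.qv.isQ.U_le ⟨1, rfl⟩, c.r_H⟩
        have hWΦ := c.mem_Phi_of hWH (mem_centralizer_singleton_iff.1 (Subgroup.mem_inf.1 hr).2).symm
          ((N.mem W').1 hWO).2 (by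
            rw [hi]
            exact fun h => hq3 ((Nat.prime_dvd_prime_iff_eq Nat.prime_three hq).1 (Nat.prime_three.dvd_of_dvd_pow h)).symm)
        -- its image is inverted and fixed
        set β := N.rho.rangeRestrict w with hβ
        have hfix : tG (β ^ m) = β ^ m := by
          rw [hβ, ← map_pow, htG _ (htO _)]
          refine congrArg _ (Subtype.ext ?_)
          show c.t * W' * c.t⁻¹ = W'
          rw [← c.C.Phi_t hWΦ, mul_inv_cancel_right]
        rw [map_pow, hbt, inv_pow] at hfix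
        have h1 : β ^ m = 1 := hsq1 _ (by rw [pow_two, mul_eq_one_iff_eq_inv]; exact hfix.symm)
        exact orderOf_eq_one_iff.1 (Nat.eq_one_of_dvd_coprimes ((hq.coprime_iff_not_dvd.2 hm).pow_left k)
          (orderOf_dvd_of_pow_eq_one hbk) (orderOf_dvd_of_pow_eq_one h1))
      centx := fun g hg3 hgx => by
        obtain ⟨_, ⟨g0, rfl⟩⟩ := g
        by_contra hne
        have hg3' : N.rho g0 ^ 3 = 1 := congrArg Subtype.val hg3
        -- the preimage of `C(x)`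
        let Y : Subgroup G :=
          { carrier := {z | z ∈ O ∧ z * c.x * z⁻¹ * c.x⁻¹ ∈ O ⊓ centralizer (Q : Set G)}
            one_mem' := ⟨one_mem _, by simp [one_mem]⟩
            mul_mem' := fun {a b} ha hb => ⟨mul_mem ha.1 hb.1, by
              rw [show a * b * c.x * (a * b)⁻¹ * c.x⁻¹ =
                a * (b * c.x * b⁻¹ * c.x⁻¹) * a⁻¹ * (a * c.x * a⁻¹ * c.x⁻¹) by group]
              exact mul_mem (N.C_norm (N.O_le ha.1) hb.2) ha.2⟩
            inv_mem' := fun {a} ha => ⟨inv_mem ha.1, by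
              rw [show a⁻¹ * c.x * a⁻¹⁻¹ * c.x⁻¹ = a⁻¹ * (a * c.x * a⁻¹ * c.x⁻¹)⁻¹ * a⁻¹⁻¹ by group]
              exact N.C_norm (inv_mem (N.O_le ha.1)) (inv_mem ha.2)⟩ }
        have hYO : Y ≤ O := fun z hz => hz.1
        have hg0Y : (g0 : G) ∈ Y := ⟨g0.2, N.rho_comm.1 (congrArg Subtype.val hgx :)⟩
        have htY : zpowers c.t ≤ normalizer (Y : Set G) := zpowers_le.2 (mem_normalizer_of_map _ fun z hz =>
          ⟨(mem_normalizer_iff.1 (N.norm_O N.qv.isQ.t_norm) z).1 hz.1, by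
            have hxt : c.t⁻¹ * c.x * c.t = c.x := by rw [mul_assoc, c.x_t, inv_mul_cancel_left]
            rw [show c.t * z * c.t⁻¹ * c.x * (c.t * z * c.t⁻¹)⁻¹ * c.x⁻¹ =
              c.t * (z * (c.t⁻¹ * c.x * c.t) * z⁻¹ * (c.t⁻¹ * c.x * c.t)⁻¹) * c.t⁻¹ by group, hxt]
            exact N.C_norm N.qv.isQ.t_norm hz.2⟩)
        obtain ⟨P3, hP3, hP3t⟩ := Solv.exists_invariant_sylow (A := zpowers c.t) (K := Y) htY (by
          rw [Nat.card_zpowers, c.C.S.ht]
          exact (N.odd.of_dvd_nat (card_dvd_of_le hYO)).coprime_two_left)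
          (Or.inl (Group.isSolvable_of_comm fun a b => Subtype.ext (by
            obtain ⟨i, hi⟩ := mem_zpowers_iff.1 a.2
            obtain ⟨j, hj⟩ := mem_zpowers_iff.1 b.2
            show (a : G) * b = b * a
            rw [← hi, ← hj, ← zpow_add, ← zpow_add, add_comm]))) 3
        -- an element of `P3` outside `C(Q)`
        obtain ⟨p, hp, hpC⟩ : ∃ p ∈ P3, p ∉ centralizer (Q : Set G) := by
          refine SetLike.not_le_iff_exists.1 fun hle => hne (Subtype.ext ?_)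
          obtain ⟨k, m, hm, hn⟩ := Nat.exists_eq_pow_mul_and_not_dvd (orderOf_pos (g0 : G)).ne' 3 (by norm_num)
          have hgm : ((g0 : G) ^ m) ^ 3 ^ k = 1 := by rw [← pow_mul, mul_comm, ← hn, pow_orderOf_eq_one]
          obtain ⟨Q3, hQ3, hQ3m⟩ : ∃ P' : Subgroup G, Solv.IsSylIn 3 P' Y ∧ (g0 : G) ^ m ∈ P' := by
            obtain ⟨i, -, hi⟩ := (Nat.dvd_prime_pow Nat.prime_three).1 (orderOf_dvd_of_pow_eq_one hgm)
            have hgY : (g0 : G) ^ m ∈ Y := pow_mem hg0Y m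
            obtain ⟨S3, hS3⟩ := (IsPGroup.of_card (p := 3) (n := i) (G := zpowers (⟨_, hgY⟩ : Y)) (by
              rw [Nat.card_zpowers, Subgroup.orderOf_mk, hi])).exists_le_sylow
            exact ⟨_, Solv.IsSylIn.of_sylow S3, ⟨⟨_, hgY⟩, hS3 (mem_zpowers _), rfl⟩⟩
          obtain ⟨k', hk', hk'P⟩ := hQ3.exists_conj hP3
          have h1 : k' * (g0 : G) ^ m * k'⁻¹ ∈ O ⊓ centralizer (Q : Set G) := by
            have hmem : k' * (g0 : G) ^ m * k'⁻¹ ∈ P3 := hk'P ▸ ⟨_, hQ3m, rfl⟩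
            exact Subgroup.mem_inf.2 ⟨hYO (hP3.1 hmem), hle hmem⟩
          have h2 : (g0 : G) ^ m ∈ O ⊓ centralizer (Q : Set G) := by
            have := N.C_norm (inv_mem (N.O_le (hYO hk'))) h1
            simpa [mul_assoc] using this
          have h3 : N.rho g0 ^ m = 1 := by rw [← map_pow, N.rho_one]; exact h2
          show N.rho g0 = 1
          rw [← orderOf_eq_one_iff]
          exact Nat.eq_one_of_dvd_coprimes ((Nat.Prime.coprime_iff_not_dvd Nat.prime_three).2 hm)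
            (orderOf_dvd_of_pow_eq_one hg3') (orderOf_dvd_of_pow_eq_one h3)
        obtain ⟨a, ha, b, hb, hat, hbt, rfl⟩ := c.decomp (N.odd.of_dvd_nat (card_dvd_of_le (hP3.1.trans hYO)))
          (hP3t (mem_zpowers _)) hp
        have haC : a ∈ centralizer (Q : Set G) := by
          obtain ⟨v, d', e⟩ := N.cent_t_comm_x (N.cent a (hYO (hP3.1 ha)) hat) (hP3.1 ha).2
          obtain ⟨k, hk⟩ := hP3.isPGroup ⟨_, ha⟩
          have hk' : a ^ 3 ^ k = 1 := congrArg Subtype.val hk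
          rw [e] at hk' ⊢
          rw [c.three_ud hk', mul_one]
          exact (Subgroup.mem_inf.1 (N.Q_le_C (N.qv.isQ.U_le ⟨v, rfl⟩))).2
        have hbC : b ∉ centralizer (Q : Set G) := fun h => hpC (mul_mem haC h)
        obtain ⟨hbO, hbx⟩ := hP3.1 hb
        obtain ⟨c3, hc3, c', hc', hc'3, e⟩ := N.C_split hbx
        -- adjust by an element of `Q`
        let δ : Q → Q := fun q => ⟨(q : G) * c.x * (q : G)⁻¹ * c.x⁻¹, by
          rw [show (q : G) * c.x * (q : G)⁻¹ * c.x⁻¹ = q * (c.x * (q : G)⁻¹ * c.x⁻¹) by group]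
          exact mul_mem q.2 ((mem_normalizer_iff.1 N.qv.isQ.x_norm _).1 (inv_mem q.2))⟩
        have hδ : Function.Injective δ := fun q q' h => by
          have h' : (q : G) * c.x * (q : G)⁻¹ * c.x⁻¹ = q' * c.x * (q' : G)⁻¹ * c.x⁻¹ := congrArg Subtype.val h
          obtain ⟨k, hk⟩ := N.qv.isQ.p3 (q'⁻¹ * q)
          refine (inv_mul_eq_one.1 (Subtype.ext (c.cx_three (g := (q' : G)⁻¹ * q) ?_ (congrArg Subtype.val hk)))).symm
          have h'' := mul_right_cancel h'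
          calc (q' : G)⁻¹ * q * c.x = (q' : G)⁻¹ * ((q : G) * c.x * (q : G)⁻¹) * q := by group
            _ = (q' : G)⁻¹ * ((q' : G) * c.x * (q' : G)⁻¹) * q := by rw [h'']
            _ = c.x * ((q' : G)⁻¹ * q) := by group
        have hb' : b⁻¹ * c3⁻¹ * b ∈ Q := by
          have := (mem_normalizer_iff.1 (inv_mem (N.O_le hbO)) c3⁻¹).1 (inv_mem hc3)
          rwa [inv_inv] at this
        obtain ⟨q1, hq1⟩ := (Finite.injective_iff_surjective.1 hδ) ⟨_, hb'⟩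
        have hq1' : (q1 : G) * c.x * (q1 : G)⁻¹ * c.x⁻¹ = b⁻¹ * c3⁻¹ * b := congrArg Subtype.val hq1
        set g1 := b * (q1 : G) with hg1
        have hconj : g1 * c.x * g1⁻¹ = c' * c.x := by
          rw [hg1, show b * (q1 : G) * c.x * (b * (q1 : G))⁻¹ =
            b * ((q1 : G) * c.x * (q1 : G)⁻¹ * c.x⁻¹) * b⁻¹ * (b * c.x * b⁻¹ * c.x⁻¹) * c.x by group, hq1', e]
          group
        have hg1c : g1 * c' = c' * g1 :=
          ((show Commute b c' from N.inv_cent hbO hbt hc' hc'3).mul_left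
            (mem_centralizer_iff.1 (Subgroup.mem_inf.1 hc').2 _ q1.2)).eq
        have hpow : ∀ n : ℕ, g1 ^ n * c.x * (g1 ^ n)⁻¹ = c' ^ n * c.x := by
          intro n
          induction n with
          | zero => simp
          | succ n ih =>
            have hcn : Commute g1 (c' ^ n) := (show Commute g1 c' from hg1c).pow_right n
            rw [pow_succ' g1, show g1 * g1 ^ n * c.x * (g1 * g1 ^ n)⁻¹ = g1 * (g1 ^ n * c.x * (g1 ^ n)⁻¹) * g1⁻¹ by group,
              ih, ← mul_assoc, hcn.eq, show c' ^ n * g1 * c.x * g1⁻¹ = c' ^ n * (g1 * c.x * g1⁻¹) by group, hconj,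
              pow_succ, mul_assoc]
        obtain ⟨j, hj⟩ : ∃ j, g1 ^ 3 ^ j = 1 := by
          have hle : zpowers b ≤ normalizer (Q : Set G) := zpowers_le.2 (N.O_le hbO)
          obtain ⟨k, hk⟩ := hP3.isPGroup ⟨b, hb⟩
          have hbp : IsPGroup 3 (zpowers b) := hP3.isPGroup.to_le (zpowers_le.2 hb)
          obtain ⟨j, hj⟩ := IsPGroup.to_sup_of_normal_left' N.qv.isQ.p3 hbp hle
            ⟨g1, mul_mem (mem_sup_right (mem_zpowers _)) (mem_sup_left q1.2)⟩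
          exact ⟨j, congrArg Subtype.val hj⟩
        have hc'1 : c' = 1 := by
          have h := hpow (3 ^ j)
          rw [hj, one_mul, inv_one, mul_one] at h
          exact eq_one_of_pow_coprime
            (Nat.Coprime.pow_left j ((Nat.Prime.coprime_iff_not_dvd Nat.prime_three).2 hc'3))
            (mul_eq_right.1 h.symm) (pow_orderOf_eq_one c')
        rw [hc'1, one_mul, mul_inv_eq_iff_eq_mul] at hconj
        have hg11 := c.cx_three hconj hj
        refine hbC ?_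
        rw [show b = (q1 : G)⁻¹ from eq_inv_of_mul_eq_one_left hg11]
        exact (Subgroup.mem_inf.1 (N.Q_le_C (inv_mem q1.2))).2 }
  have htau : N.rho.rangeRestrict fO ^ c.mm = N.rho.rangeRestrict ⟨c.tau, pow_mem N.f_mem _⟩ := by
    rw [← map_pow]; exact congrArg _ (Subtype.ext rfl)
  refine M.three_core (a := c.ee.factorization 3) (m := c.mm) c.t3_mul_mm.symm c.not_three_mm
    (g := N.rho.rangeRestrict ⟨y, hyO⟩) (k := k) ?_ ?_ (v := ⟨z, hzQ⟩) ?_ ?_
  · rw [← map_pow, show (⟨y, hyO⟩ : O) ^ 3 ^ k = 1 from Subtype.ext hy3, map_one]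
  · show _ * N.rho.rangeRestrict fO ^ c.mm = N.rho.rangeRestrict fO ^ c.mm * _
    rw [htau, ← map_mul, ← map_mul]
    exact congrArg _ (Subtype.ext hyt)
  · show ((N.rho.rangeRestrict fO ^ c.mm : N.rho.range) : MulAut Q) ⟨z, hzQ⟩ = _
    rw [htau]
    refine Subtype.ext ?_
    show c.tau * z * c.tau⁻¹ = z
    rw [← hzt, mul_inv_cancel_right]
  · exact fun e => hyz (congrArg Subtype.val e :)

end NData

end Cfg

end Cfsg.Agent.Walter.JR.Res3
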