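import Cfsg.Agent.Lib.Walter.JR.Res3.Base

/-!
# The root group and the split torus for `q = 3 ^ e`, `Φ` of order `e`, `3 ∣ e`

`U = {u v}`, `D = {d b}`; `x = d a` with `a` of prime order `ℓ`, `3` of order `e` modulo `ℓ`.
-/

set_option autoImplicit false
set_option linter.unusedSectionVars false
set_option linter.style.haveILetI false

namespace Cfsg.Agent.Walter.JR.Res3

open Subgroup Cfsg.Agent.Small Cfsg.Agent.Char.ReeThree Cfsg.Agent.Char.ReeOrder

universe u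

/-- The configuration. -/
structure Cfg (G : Type u) [Group G] (F : Type) [Field F] [Fintype F] extends Base G F where
  ell : ℕ
  a : Fˣ
  h3e : 3 ∣ ee
  hl : ell.Prime
  l3 : ell ≠ 3
  l2 : ell ≠ 2
  ord : ∀ k, 0 < k → k < ee → ¬ 3 ^ k ≡ 1 [MOD ell]
  ha : orderOf a = ell

theorem exists_primitive_prime {e : ℕ} (h3 : 3 ≤ e) (ho : Odd e) :
    ∃ ℓ : ℕ, ℓ.Prime ∧ ℓ ≠ 3 ∧ ℓ ≠ 2 ∧ ℓ ∣ 3 ^ e - 1 ∧ ∀ k, 0 < k → k < e → ¬ 3 ^ k ≡ 1 [MOD ℓ] := by
  rcases PrimPart.good (q := 3) (e := e) (by norm_num) with h | h | ⟨m, hm, hcop, hm1⟩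
  · omega
  · obtain ⟨k, rfl⟩ := ho
    simp only [PrimPart.excs, List.mem_cons, Prod.mk.injEq, List.not_mem_nil, or_false] at h
    omega
  · have hl := Nat.minFac_prime (show m ≠ 1 by omega)
    have hd : m.minFac ∣ 3 ^ e - 1 := m.minFac_dvd.trans hm
    have hord : ∀ k, 0 < k → k < e → ¬ m.minFac ∣ 3 ^ k - 1 := fun k h0 hk hdk =>
      hl.not_dvd_one (((hcop k (Finset.mem_range.2 hk) (by omega)).coprime_dvd_left m.minFac_dvd).eq_one_of_dvd hdk ▸
        dvd_refl _)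
    refine ⟨m.minFac, hl, fun e3 => ?_, fun e2 => ?_, hd, fun k h0 hk hmod => ?_⟩
    · rw [e3] at hd
      have h1 : 1 ≤ 3 ^ e := Nat.one_le_pow _ _ (by norm_num)
      have h2 : 3 ∣ 3 ^ e := dvd_pow_self 3 (by omega)
      omega
    · exact hord 1 one_pos (by omega) (by rw [e2]; norm_num)
    · exact hord k h0 hk ((Nat.modEq_iff_dvd' (Nat.one_le_pow _ _ (by norm_num))).1 hmod.symm)

theorem exists_cfg {G : Type u} [Group G] [Finite G] {F : Type} [Field F] [Fintype F] (C : Frame G F) {e : ℕ}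
    (h3 : 3 ∣ e) (hC : Nat.card C.Phi = e) (hq : Fintype.card F = 3 ^ e) :
    ∃ c : Cfg G F, c.C = C := by
  have ho : Odd e := hC ▸ C.odd
  obtain ⟨ℓ, hℓ, h3', h2, hdvd, hord⟩ := exists_primitive_prime (Nat.le_of_dvd ho.pos h3) ho
  haveI := Fact.mk hℓ
  obtain ⟨a, ha⟩ := exists_prime_orderOf_dvd_card' (G := Fˣ) ℓ (by
    rwa [Nat.card_units, Nat.card_eq_fintype_card, hq])
  haveI : IsCyclic C.Phi := by
    obtain ⟨p, hp⟩ := CharP.exists F
    haveI := Fact.mk (CharP.char_is_prime F p)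
    obtain ⟨n, -, hn⟩ := FiniteField.card F p
    obtain ⟨ψ⟩ := PSLn.fieldAut_equiv hn
    exact isCyclic_of_injective (ψ.toMonoidHom.comp C.alpha) (ψ.injective.comp C.alpha_inj)
  obtain ⟨g, hg⟩ := IsCyclic.exists_zpow_surjective (G := C.Phi)
  refine ⟨⟨⟨C, e, ((g : C.S.K) : G), ho, hC, hq, ?_⟩, ℓ, a, h3, hℓ, h3', h2, hord, ha⟩, rfl⟩
  refine le_antisymm (zpowers_le.2 ⟨_, g.2, rfl⟩) ?_
  rintro _ ⟨y, hy, rfl⟩
  obtain ⟨k, hk⟩ := hg ⟨y, hy⟩
  exact ⟨k, by
    show ((g : C.S.K) : G) ^ k = (y : G)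
    have := congrArg (fun z : C.Phi => ((z : C.S.K) : G)) hk
    simpa using this⟩

namespace Cfg

variable {G : Type u} [Group G] [Finite G] {F : Type} [Field F] [Fintype F] (c : Cfg G F)

theorem three_le : 3 ≤ c.ee := Nat.le_of_dvd c.ee_pos c.h3e

/-- An automorphism fixing `a` is trivial. -/
theorem sig_a {σ : F ≃+* F} (h : σ (c.a : F) = c.a) : σ = 1 := by
  classical
  let K : Subfield F :=
    { carrier := {x | σ x = x}
      zero_mem' := map_zero _
      one_mem' := map_one _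
      add_mem' := fun {p q} hp hq => by show σ (p + q) = p + q; rw [map_add, hp, hq]
      mul_mem' := fun {p q} hp hq => by show σ (p * q) = p * q; rw [map_mul, hp, hq]
      neg_mem' := fun {p} hp => by show σ (-p) = -p; rw [map_neg, hp]
      inv_mem' := fun p hp => by show σ p⁻¹ = p⁻¹; rw [map_inv₀, hp] }
  haveI := c.char3
  haveI := Fact.mk Nat.prime_three
  obtain ⟨d, hd⟩ : ∃ d, Nat.card K = 3 ^ d := by
    have h1 : Nat.card K.toSubring.toAddSubgroup ∣ Nat.card F := AddSubgroup.card_addSubgroup_dvd_card _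
    rw [Nat.card_eq_fintype_card (α := F), c.hq] at h1
    obtain ⟨d, -, hd⟩ := (Nat.dvd_prime_pow Nat.prime_three).1 h1
    exact ⟨d, hd⟩
  let ak : Kˣ := Units.mk0 ⟨(c.a : F), h⟩ fun e => c.a.ne_zero (congrArg Subtype.val e)
  have hak : orderOf ak = c.ell := by
    rw [← c.ha, ← orderOf_injective (Units.map (K.subtype : K →* F))
      (Units.map_injective Subtype.val_injective) ak]
    congr 1
    exact Units.ext rfl
  have hdiv : c.ell ∣ 3 ^ d - 1 := by
    rw [← hd, ← hak, ← Nat.card_units]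
    exact orderOf_dvd_natCard ak
  have hd0 : 0 < d := by
    rcases Nat.eq_zero_or_pos d with h0 | h0
    · exfalso
      rw [h0, pow_zero] at hd
      exact zero_ne_one (α := K) ((Nat.card_eq_one_iff_unique.1 hd).1.elim 0 1)
    · exact h0
  have hde : c.ee ≤ d := not_lt.1 fun hlt =>
    c.ord d hd0 hlt ((Nat.modEq_iff_dvd' (Nat.one_le_pow _ _ (by norm_num))).2 hdiv).symm
  refine RingEquiv.ext fun v => ?_
  have hall : Function.Surjective (Subtype.val : K → F) := by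
    refine (Function.Injective.bijective_of_nat_card_le Subtype.val_injective ?_).2
    rw [Nat.card_eq_fintype_card (α := F), c.hq, hd]
    exact Nat.pow_le_pow_right (by norm_num) hde
  obtain ⟨w, rfl⟩ := hall v
  exact w.2

theorem a_ne_inv : (c.a : F) ≠ (c.a : F)⁻¹ := fun h => by
  have h2 : c.a ^ 2 = 1 := by
    rw [pow_two, mul_eq_one_iff_eq_inv]
    exact Units.ext (by simpa using h)
  have := orderOf_dvd_of_pow_eq_one h2
  rw [c.ha] at this
  exact c.l2 ((Nat.prime_dvd_prime_iff_eq c.hl Nat.prime_two).1 this)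

/-- `± 1` of order dividing `ℓ`. -/
theorem eq_one_of_pm {y : F} (h : y ^ c.ell = 1) (hpm : y = 1 ∨ y = -1) : y = 1 := by
  rcases hpm with h' | h'
  · exact h'
  · rw [h', (c.hl.odd_of_ne_two c.l2).neg_one_pow] at h
    rw [h', h]

theorem a_pow : (c.a : F) ^ c.ell = 1 := by
  rw [← Units.val_pow_eq_pow_val, ← c.ha, pow_orderOf_eq_one]; rfl

/-! ### The elements -/

/-- The element of the root group. -/
noncomputable def u (v : F) : G := c.C.elt (PSL2.uS v)

/-- The element of the split torus. -/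
noncomputable def d (b : Fˣ) : G := c.C.elt (PSL2.hS b)

/-- The element of order `ℓ`. -/
noncomputable def x : G := c.d c.a

theorem elt_inj_iff {A B : Matrix.SpecialLinearGroup (Fin 2) F} :
    c.C.elt A = c.C.elt B ↔ PSL2.pr A = PSL2.pr B :=
  ⟨fun h => c.C.iso.symm.injective (c.C.embL_inj h), fun h => by rw [Frame.elt, h]; rfl⟩

theorem u_add (v w : F) : c.u (v + w) = c.u v * c.u w := by rw [u, u, u, Frame.elt_mul, PSL2.uS_add]

theorem u_zero : c.u 0 = 1 := by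
  have h := c.u_add 0 0
  rw [add_zero] at h
  exact mul_eq_left.1 h.symm

theorem u_neg (v : F) : c.u (-v) = (c.u v)⁻¹ :=
  eq_inv_of_mul_eq_one_left (by rw [← c.u_add, neg_add_cancel, c.u_zero])

theorem u_inj {v w : F} (h : c.u v = c.u w) : v = w := PSL2.pr_uS_inj (c.elt_inj_iff.1 h)

theorem u_comm (v w : F) : c.u v * c.u w = c.u w * c.u v := by rw [← c.u_add, ← c.u_add, add_comm]

theorem elt_K (A : Matrix.SpecialLinearGroup (Fin 2) F) : c.C.elt A ∈ c.C.S.K := c.C.embL_mem_K _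

theorem u_t (v : F) : c.u v * c.t = c.t * c.u v := c.C.S.comm_t (c.elt_K _)

theorem d_t (b : Fˣ) : c.d b * c.t = c.t * c.d b := c.C.S.comm_t (c.elt_K _)

theorem conj_elt {g : G} (hg : g ∈ c.C.PhiG) (A : Matrix.SpecialLinearGroup (Fin 2) F) :
    g * c.C.elt A * g⁻¹ = c.C.elt (PSL2.fieldSL (c.sig g) A) := by
  obtain ⟨y, hy, rfl⟩ := hg
  rw [show c.C.S.K.subtype y = (((⟨y, hy⟩ : c.C.Phi) : c.C.S.K) : G) from rfl, c.sig_eq, Frame.elt, c.C.conj_embL,
    c.C.iso.apply_symm_apply, PSL2.fieldP_apply]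
  rfl

theorem conj_u {g : G} (hg : g ∈ c.C.PhiG) (v : F) : g * c.u v * g⁻¹ = c.u (c.sig g v) := by
  rw [u, c.conj_elt hg, u]
  congr 1
  ext i j
  rw [PSL2.fieldSL_apply]
  fin_cases i <;> fin_cases j <;> simp [PSL2.uS]

theorem conj_d {g : G} (hg : g ∈ c.C.PhiG) (b : Fˣ) :
    g * c.d b * g⁻¹ = c.d (Units.map (c.sig g : F →* F) b) := by
  rw [d, c.conj_elt hg, d]
  congr 1
  ext i j
  rw [PSL2.fieldSL_apply]
  fin_cases i <;> fin_cases j <;> simp [PSL2.hS, map_inv₀]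

theorem d_u (b : Fˣ) (v : F) : c.d b * c.u v * (c.d b)⁻¹ = c.u ((b : F) ^ 2 * v) := by
  rw [d, u, u, Frame.elt_mul, PSL2.hS_uS, ← Frame.elt_mul, mul_inv_cancel_right]

theorem d_mul (b b' : Fˣ) : c.d b * c.d b' = c.d (b * b') := by
  rw [d, d, d, Frame.elt_mul, Solv.Partition.AutPSL.hS_mul]

theorem d_one : c.d 1 = 1 := by rw [d, Solv.Partition.AutPSL.hS_one, Frame.elt_one]

theorem d_pow (b : Fˣ) (n : ℕ) : c.d b ^ n = c.d (b ^ n) := by
  induction n with
  | zero => rw [pow_zero, pow_zero, c.d_one]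
  | succ n ih => rw [pow_succ, pow_succ, ih, c.d_mul]

theorem x_pow : c.x ^ c.ell = 1 := by rw [x, c.d_pow, ← c.ha, pow_orderOf_eq_one, c.d_one]

theorem x_t : c.x * c.t = c.t * c.x := c.d_t _

theorem x_ne : c.x ≠ 1 := fun h => by
  have h1 := c.d_u c.a 1
  rw [← x, h, one_mul, inv_one, mul_one, mul_one] at h1
  have := c.u_inj h1
  exact c.a_ne_inv (eq_inv_of_mul_eq_one_left (by rw [← pow_two]; exact this.symm))

theorem s_x : c.C.s * c.x * c.C.s⁻¹ = c.x⁻¹ := by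
  rw [← c.C.elt_wS, x, d]
  rw [mul_inv_eq_iff_eq_mul, eq_inv_mul_iff_mul_eq, Frame.elt_mul, Frame.elt_mul]
  congr 1
  apply Subtype.ext
  rw [PSL2.val_mul, PSL2.val_mul]
  ext i j
  fin_cases i <;> fin_cases j <;> simp [PSL2.hS, Matrix.mul_apply, Fin.sum_univ_two]

/-- The elements of `K` as products. -/
theorem mem_K_cases {g : G} (hg : g ∈ c.C.S.K) :
    ∃ A : Matrix.SpecialLinearGroup (Fin 2) F, ∃ h ∈ c.C.PhiG, g = c.C.elt A * h := by
  obtain ⟨v, hv, l, h, hh, e⟩ := c.C.cent_t (c.C.S.comm_t hg)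
  have hv1 : v = 1 := by
    rcases hv with rfl | rfl
    · rfl
    · exfalso
      refine c.C.S.not_both hg ?_
      rw [e, mul_assoc, ← mul_assoc, c.C.S.sq_t, one_mul]
      exact mul_mem (c.C.embL_mem_K l) (c.C.Phi_K hh)
  obtain ⟨A, hA⟩ := PSL2.pr_surjective (c.C.iso l)
  refine ⟨A, h, hh, ?_⟩
  rw [e, hv1, one_mul, Frame.elt, hA, c.C.iso.symm_apply_apply]

theorem odd_mem_K {g : G} (hg : g * c.t = c.t * g) (ho : Odd (orderOf g)) : g ∈ c.C.S.K := by
  rcases c.C.S.split (c.C.S.mem_C.2 hg) with h | h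
  · exact h
  · exfalso
    refine c.C.S.t_not_mem ?_
    have h2 := pow_mem h (orderOf g)
    rw [(show Commute c.C.S.t g from hg.symm).mul_pow, pow_orderOf_eq_one, mul_one] at h2
    obtain ⟨k, hk⟩ := ho
    rwa [hk, pow_succ, pow_mul, pow_two, c.C.S.sq_t, one_pow, one_mul] at h2

/-! ### Centralisers inside `C(t)` -/

/-- An element of `K` sending a non-trivial `u v` to `u w`. -/
theorem conj_u_cases {A : Matrix.SpecialLinearGroup (Fin 2) F} {h : G} (hh : h ∈ c.C.PhiG) {v w : F} (hv : v ≠ 0)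
    (e : c.C.elt A * h * c.u v * (c.C.elt A * h)⁻¹ = c.u w) :
    A.1 1 0 = 0 ∧ A.1 0 0 ^ 2 * c.sig h v = w := by
  have e' : c.C.elt A * c.u (c.sig h v) = c.u w * c.C.elt A := by
    rw [← c.conj_u hh, ← e]; group
  rw [u, u, Frame.elt_mul, Frame.elt_mul] at e'
  have hp := c.elt_inj_iff.1 e'
  rw [map_mul, map_mul] at hp
  have hv' : c.sig h v ≠ 0 := fun h0 => hv ((c.sig h).injective (h0.trans (map_zero _).symm))
  have htr := PSL2.triangular_of_conj hv' hp
  refine ⟨htr, ?_⟩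
  have h2 := PSL2.triangular_mul_uS A htr (c.sig h v)
  rw [← map_mul, h2, map_mul] at hp
  exact PSL2.pr_uS_inj (mul_right_cancel hp)

theorem conj_u_of_tri {A : Matrix.SpecialLinearGroup (Fin 2) F} (htr : A.1 1 0 = 0) {h : G} (hh : h ∈ c.C.PhiG)
    (v : F) : c.C.elt A * h * c.u v * (c.C.elt A * h)⁻¹ = c.u (A.1 0 0 ^ 2 * c.sig h v) := by
  rw [show c.C.elt A * h * c.u v * (c.C.elt A * h)⁻¹ = c.C.elt A * (h * c.u v * h⁻¹) * (c.C.elt A)⁻¹ by group,
    c.conj_u hh, u, Frame.elt_mul, PSL2.triangular_mul_uS A htr, ← Frame.elt_mul, mul_inv_cancel_right, u]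

/-- `C_K(U) = U`. -/
theorem cent_U {g : G} (hg : g ∈ c.C.S.K) (hc : ∀ v, g * c.u v = c.u v * g) : ∃ v, g = c.u v := by
  obtain ⟨A, h, hh, rfl⟩ := c.mem_K_cases hg
  have key : ∀ v, v ≠ 0 → A.1 1 0 = 0 ∧ A.1 0 0 ^ 2 * c.sig h v = v := fun v hv =>
    c.conj_u_cases hh hv (by rw [hc v, mul_inv_cancel_right])
  obtain ⟨-, h1⟩ := key 1 one_ne_zero
  rw [map_one, mul_one] at h1
  have hσ : c.sig h = 1 := RingEquiv.ext fun v => by
    by_cases hv : v = 0
    · rw [hv, map_zero]; exact (map_zero (1 : F ≃+* F)).symm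
    · have h2 := (key v hv).2
      rw [h1, one_mul] at h2
      exact h2
  have h1' := c.sig_inj hh hσ
  subst h1'
  rw [mul_one]
  have hcu : Commute (PSL2.pr A) (PSL2.pr (PSL2.uS 1)) := by
    have h3 := hc 1
    rw [mul_one, u, Frame.elt_mul, Frame.elt_mul, c.elt_inj_iff, map_mul, map_mul] at h3
    exact h3
  obtain ⟨v, hv⟩ := (PSL2.mem_U _).1 (PSL2.mem_U_of_commute one_ne_zero hcu)
  exact ⟨v, c.elt_inj_iff.2 hv.symm⟩

/-- No element of `C(t)` inverts a non-trivial `u v`. -/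
theorem no_invert {g : G} (hg : g * c.t = c.t * g) {v : F} (hv : v ≠ 0) : g * c.u v * g⁻¹ ≠ (c.u v)⁻¹ := by
  intro e
  have key : ∀ k, k ∈ c.C.S.K → k * c.u v * k⁻¹ ≠ (c.u v)⁻¹ := by
    intro k hk e
    obtain ⟨A, h, hh, rfl⟩ := c.mem_K_cases hk
    rw [← c.u_neg] at e
    obtain ⟨-, h2⟩ := c.conj_u_cases hh hv e
    -- iterate over the odd order of `h`
    have hn : ∀ n : ℕ, ∃ r : F, r ^ 2 * (c.sig h ^ n) v = (-1) ^ n * v := by
      intro n
      induction n with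
      | zero => exact ⟨1, by simp⟩
      | succ n ih =>
        obtain ⟨r, hr⟩ := ih
        refine ⟨c.sig h r * A.1 0 0, ?_⟩
        rw [show (c.sig h ^ (n + 1)) v = c.sig h ((c.sig h ^ n) v) by rw [pow_succ']; rfl]
        have := congrArg (c.sig h) hr
        simp only [map_mul, map_pow, map_neg, map_one] at this
        calc (c.sig h r * A.1 0 0) ^ 2 * c.sig h ((c.sig h ^ n) v)
            = A.1 0 0 ^ 2 * (c.sig h r ^ 2 * c.sig h ((c.sig h ^ n) v)) := by ring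
          _ = (-1) ^ n * (A.1 0 0 ^ 2 * c.sig h v) := by rw [this]; ring
          _ = _ := by rw [h2, pow_succ]; ring
    obtain ⟨r, hr⟩ := hn (orderOf h)
    rw [← c.sig_pow hh, pow_orderOf_eq_one, show c.sig 1 = 1 by rw [← pow_zero c.f, c.sig_pow c.f_mem, pow_zero],
      (c.C.Phi_odd hh).neg_one_pow] at hr
    refine c.neg_one_nonsquare ⟨r, ?_⟩
    apply mul_right_cancel₀ hv
    rw [← pow_two]
    exact hr.symm
  rcases c.C.S.split (c.C.S.mem_C.2 hg) with h | h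
  · exact key g h e
  · refine key _ h ?_
    rw [show c.C.S.t * g * c.u v * (c.C.S.t * g)⁻¹ = c.C.S.t * (g * c.u v * g⁻¹) * c.C.S.t⁻¹ by group, e,
      ← (show Commute (c.u v) c.t from c.u_t v).inv_left.eq, mul_inv_cancel_right]

/-- The 3-part of `e`. -/
def t3 : ℕ := 3 ^ c.ee.factorization 3

/-- The 3'-part of `e`. -/
def mm : ℕ := c.ee / c.t3

theorem t3_mul_mm : c.t3 * c.mm = c.ee := Nat.ordProj_mul_ordCompl_eq_self _ _

theorem t3_pos : 0 < c.t3 := pow_pos (by norm_num) _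

theorem three_dvd_t3 : 3 ∣ c.t3 :=
  dvd_pow_self 3 (Nat.Prime.factorization_pos_of_dvd Nat.prime_three c.ee_pos.ne' c.h3e).ne'

theorem not_three_mm : ¬ 3 ∣ c.mm := Nat.not_dvd_ordCompl Nat.prime_three c.ee_pos.ne'

theorem mm_pos : 0 < c.mm := Nat.ordCompl_pos 3 c.ee_pos.ne'

theorem mm_dvd : c.mm ∣ c.ee := Nat.ordCompl_dvd _ _

theorem t3_dvd : c.t3 ∣ c.ee := Dvd.intro _ c.t3_mul_mm

theorem mm_odd : Odd c.mm := c.hodd.of_dvd_nat c.mm_dvd

/-- The 3-part of `f`. -/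
def tau : G := c.f ^ c.mm

/-- The element of order three of `Φ`. -/
def f1 : G := c.f ^ (c.ee / 3)

theorem ee_div : c.ee / 3 * 3 = c.ee := Nat.div_mul_cancel c.h3e

theorem f1_cube : c.f1 ^ 3 = 1 := by rw [f1, ← pow_mul, c.ee_div, c.pow_f]

theorem tau_mem : c.tau ∈ c.C.PhiG := pow_mem c.f_mem _

theorem tau_pow_eq_one {n : ℕ} : c.tau ^ n = 1 ↔ c.t3 ∣ n := by
  rw [tau, ← pow_mul, c.f_pow_eq_one, ← c.t3_mul_mm, mul_comm c.t3, Nat.mul_dvd_mul_iff_left c.mm_pos]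

theorem pow_tau : c.tau ^ c.t3 = 1 := c.tau_pow_eq_one.2 dvd_rfl

theorem ord_tau : orderOf c.tau = c.t3 :=
  Nat.dvd_antisymm (orderOf_dvd_of_pow_eq_one c.pow_tau) (c.tau_pow_eq_one.1 (pow_orderOf_eq_one _))

include c in
/-- The elements fixed by `f ^ d`, `d ∣ e`. -/
theorem fix_card_pow {d : ℕ} (hd : d ∣ c.ee) : Nat.card {v : F // c.sig (c.f ^ d) v = v} = 3 ^ d := by
  classical
  obtain ⟨y, hy, hf⟩ := c.f_mem
  set fP : c.C.Phi := ⟨y, hy⟩
  have hfP : ∀ n : ℕ, c.sig (c.f ^ n) = c.C.alpha (fP ^ n) := fun n => by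
    rw [← hf, ← map_pow, show c.C.S.K.subtype (y ^ n) = (((fP ^ n : c.C.Phi) : c.C.S.K) : G) from rfl, c.sig_eq]
  set P : Subgroup c.C.Phi := zpowers (fP ^ d)
  letI : MulSemiringAction P F := MulSemiringAction.compHom F (c.C.alpha.comp P.subtype)
  haveI : FaithfulSMul P F := ⟨fun {p q} h => Subtype.ext (c.C.alpha_inj (RingEquiv.ext h))⟩
  haveI := Fintype.ofFinite P
  obtain ⟨n, hn⟩ := hd
  have hd0 : 0 < d := Nat.pos_of_ne_zero fun h0 => c.ee_pos.ne' (by rw [hn, h0, zero_mul])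
  have hP : Fintype.card P = n := by
    have ho : orderOf fP = c.ee := by
      rw [← c.ord_f, ← Subgroup.orderOf_coe fP, ← Subgroup.orderOf_coe (fP : c.C.S.K),
        show ((fP : c.C.S.K) : G) = c.f from hf]
    rw [← Nat.card_eq_fintype_card, Nat.card_zpowers, orderOf_pow' _ hd0.ne', ho,
      show Nat.gcd c.ee d = d from Nat.gcd_eq_right ⟨n, hn⟩, hn, Nat.mul_div_cancel_left _ hd0]
  have h1 := FixedPoints.finrank_eq_card P F
  have h2 := Module.card_eq_pow_finrank (K := FixedPoints.subfield P F) (V := F)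
  rw [h1, hP, c.hq, hn, pow_mul] at h2
  have hn0 : n ≠ 0 := fun h0 => c.ee_pos.ne' (by rw [hn, h0, mul_zero])
  have h3 : Fintype.card (FixedPoints.subfield P F) = 3 ^ d := (Nat.pow_left_injective hn0 h2).symm
  rw [← h3, ← Nat.card_eq_fintype_card]
  refine Nat.card_congr (Equiv.subtypeEquivRight fun v => ⟨fun h z => ?_, fun h => ?_⟩)
  · obtain ⟨k, hk⟩ := (mem_powers_iff_mem_zpowers.2 z.2 : (z : c.C.Phi) ∈ Submonoid.powers (fP ^ d))
    have hk' : (fP ^ d) ^ k = (z : c.C.Phi) := hk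
    show c.C.alpha (z : c.C.Phi) v = v
    rw [← hk', map_pow, ← hfP]
    clear hk hk'
    induction k with
    | zero => rfl
    | succ k ih => rw [pow_succ]; show (c.sig (c.f ^ d) ^ k) (c.sig (c.f ^ d) v) = v; rw [h, ih]
  · rw [hfP]
    exact h ⟨fP ^ d, mem_zpowers _⟩

theorem fix_of_dvd {d i : ℕ} (hdi : d ∣ i) {v : F} (h : c.sig (c.f ^ d) v = v) : c.sig (c.f ^ i) v = v := by
  obtain ⟨k, rfl⟩ := hdi
  rw [pow_mul, c.sig_pow (pow_mem c.f_mem d)]
  induction k with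
  | zero => rfl
  | succ k ih => rw [pow_succ]; show (c.sig (c.f ^ d) ^ k) (c.sig (c.f ^ d) v) = v; rw [h, ih]

/-- The elements of `Φ` fixing `v`. -/
noncomputable def stab (v : F) : Subgroup G where
  carrier := {g | g ∈ c.C.PhiG ∧ c.sig g v = v}
  one_mem' := ⟨one_mem _, by rw [← pow_zero c.f, c.sig_pow c.f_mem, pow_zero]; rfl⟩
  mul_mem' := fun {p q} hp hq => ⟨mul_mem hp.1 hq.1, by
    rw [c.sig_mul hp.1 hq.1]; show c.sig p (c.sig q v) = v; rw [hq.2, hp.2]⟩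
  inv_mem' := fun {p} hp => ⟨inv_mem hp.1, by
    refine (c.sig p).injective ?_
    rw [hp.2]
    show (c.sig p * c.sig p⁻¹) v = v
    rw [← c.sig_mul hp.1 (inv_mem hp.1), mul_inv_cancel, ← pow_zero c.f, c.sig_pow c.f_mem, pow_zero]; rfl⟩

theorem stab_gcd {v : F} {i j : ℕ} (hi : c.f ^ i ∈ c.stab v) (hj : c.f ^ j ∈ c.stab v) :
    c.f ^ Nat.gcd i j ∈ c.stab v := by
  rw [← zpow_natCast c.f, Nat.gcd_eq_gcd_ab, zpow_add, zpow_mul, zpow_mul, zpow_natCast, zpow_natCast]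
  exact mul_mem (zpow_mem hi _) (zpow_mem hj _)

theorem fix_gcd {i : ℕ} {v : F} (h : c.sig (c.f ^ i) v = v) : c.sig (c.f ^ Nat.gcd i c.ee) v = v :=
  (c.stab_gcd ⟨pow_mem c.f_mem i, h⟩ (show c.f ^ c.ee ∈ c.stab v by rw [c.pow_f]; exact one_mem _)).2

/-- A torus element for the fixed field of `tau`. -/
structure Sub1 where
  a1 : Fˣ
  l1 : ℕ
  prime : l1.Prime
  ne2 : l1 ≠ 2
  ne3 : l1 ≠ 3
  ord : orderOf a1 = l1
  low : ∀ k, 0 < k → k < c.mm → ¬ 3 ^ k ≡ 1 [MOD l1]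
  three : orderOf (3 : ZMod l1) = c.mm
  fixed : c.sig c.tau (a1 : F) = a1

theorem orderOf_three_eq {l k : ℕ} (hk : 0 < k) (hd : l ∣ 3 ^ k - 1) (hlow : ∀ j, 0 < j → j < k → ¬ 3 ^ j ≡ 1 [MOD l]) :
    orderOf (3 : ZMod l) = k := by
  have e : ∀ j : ℕ, (3 : ZMod l) ^ j = 1 ↔ 3 ^ j ≡ 1 [MOD l] := fun j => by
    rw [← ZMod.natCast_eq_natCast_iff]; push_cast; rfl
  refine (orderOf_eq_iff hk).2 ⟨(e k).2 ((Nat.modEq_iff_dvd' (Nat.one_le_pow _ _ (by norm_num))).2 hd).symm, ?_⟩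
  exact fun j hj h0 h => hlow j h0 hj ((e j).1 h)

include c in
theorem ord3 : orderOf (3 : ZMod c.ell) = c.ee := by
  refine orderOf_three_eq c.ee_pos ?_ c.ord
  have h := orderOf_dvd_natCard c.a
  rwa [c.ha, Nat.card_units, Nat.card_eq_fintype_card, c.hq] at h

theorem exists_sub1 (h : 1 < c.mm) : Nonempty c.Sub1 := by
  classical
  have h3 : 3 ≤ c.mm := by obtain ⟨k, hk⟩ := c.mm_odd; omega
  obtain ⟨l, hl, hl3, hl2, hd, hlow⟩ := exists_primitive_prime h3 c.mm_odd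
  haveI := Fact.mk hl
  let K : Subfield F :=
    { carrier := {x | c.sig c.tau x = x}
      zero_mem' := map_zero _
      one_mem' := map_one _
      add_mem' := fun {p q} hp hq => by show c.sig c.tau (p + q) = p + q; rw [map_add, hp, hq]
      mul_mem' := fun {p q} hp hq => by show c.sig c.tau (p * q) = p * q; rw [map_mul, hp, hq]
      neg_mem' := fun {p} hp => by show c.sig c.tau (-p) = -p; rw [map_neg, hp]
      inv_mem' := fun p hp => by show c.sig c.tau p⁻¹ = p⁻¹; rw [map_inv₀, hp] }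
  have hK : Nat.card K = 3 ^ c.mm := c.fix_card_pow c.mm_dvd
  obtain ⟨b, hb⟩ := exists_prime_orderOf_dvd_card' (G := Kˣ) l (by rwa [Nat.card_units, hK])
  refine ⟨⟨Units.map (K.subtype : K →* F) b, l, hl, hl2, hl3, ?_, hlow, orderOf_three_eq c.mm_pos hd hlow,
    (b : K).2⟩⟩
  rw [orderOf_injective (Units.map (K.subtype : K →* F)) (Units.map_injective Subtype.val_injective), hb]

/-- An element of `Φ` fixing the torus element lies in `⟨tau⟩`. -/
theorem Sub1.mem_tau (S : c.Sub1) {g : G} (hg : g ∈ c.C.PhiG) (h : c.sig g (S.a1 : F) = S.a1) :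
    g ∈ zpowers c.tau := by
  rw [← c.gen, ← mem_powers_iff_mem_zpowers] at hg
  obtain ⟨i, rfl⟩ := hg
  have h1 := c.fix_gcd h
  have h2 : c.sig (c.f ^ Nat.gcd (Nat.gcd i c.ee) c.mm) (S.a1 : F) = S.a1 :=
    (c.stab_gcd ⟨pow_mem c.f_mem _, h1⟩ ⟨pow_mem c.f_mem _, S.fixed⟩).2
  set g' := Nat.gcd (Nat.gcd i c.ee) c.mm
  have hg' : g' ∣ c.ee := (Nat.gcd_dvd_right _ _).trans c.mm_dvd
  classical
  haveI := Fact.mk S.prime
  have hdvd : S.l1 ∣ 3 ^ g' - 1 := by
    let K : Subfield F :=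
      { carrier := {x | c.sig (c.f ^ g') x = x}
        zero_mem' := map_zero _
        one_mem' := map_one _
        add_mem' := fun {p q} hp hq => by show c.sig (c.f ^ g') (p + q) = p + q; rw [map_add, hp, hq]
        mul_mem' := fun {p q} hp hq => by show c.sig (c.f ^ g') (p * q) = p * q; rw [map_mul, hp, hq]
        neg_mem' := fun {p} hp => by show c.sig (c.f ^ g') (-p) = -p; rw [map_neg, hp]
        inv_mem' := fun p hp => by show c.sig (c.f ^ g') p⁻¹ = p⁻¹; rw [map_inv₀, hp] }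
    let ak : Kˣ := Units.mk0 ⟨(S.a1 : F), h2⟩ fun e => S.a1.ne_zero (congrArg Subtype.val e)
    have hak : orderOf ak = S.l1 := by
      rw [← S.ord, ← orderOf_injective (Units.map (K.subtype : K →* F))
        (Units.map_injective Subtype.val_injective) ak]
      congr 1
      exact Units.ext rfl
    have h6 := _root_.orderOf_dvd_natCard ak
    rwa [hak, Nat.card_units, show Nat.card K = 3 ^ g' from c.fix_card_pow hg'] at h6
  have hgm : g' = c.mm := by
    rcases lt_or_eq_of_le (Nat.le_of_dvd c.mm_pos (Nat.gcd_dvd_right _ _)) with hlt | he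
    · exact absurd ((Nat.modEq_iff_dvd' (Nat.one_le_pow _ _ (by norm_num))).2 hdvd).symm
        (S.low _ (Nat.pos_of_ne_zero fun h0 => c.mm_pos.ne' (Nat.eq_zero_of_gcd_eq_zero_right h0)) hlt)
    · exact he
  obtain ⟨j, hj⟩ : c.mm ∣ i := by
    rw [← hgm]; exact (Nat.gcd_dvd_left _ _).trans (Nat.gcd_dvd_left _ _)
  show c.f ^ i ∈ zpowers c.tau
  rw [show c.f ^ i = c.tau ^ j by rw [tau, ← pow_mul, hj]]
  exact pow_mem (mem_zpowers _) j

/-- `C_K(d b₀)` for `b₀` of odd prime order. -/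
theorem cent_d {b0 : Fˣ} {l : ℕ} (hl : l.Prime) (l2 : l ≠ 2) (hb : orderOf b0 = l) {g : G} (hg : g ∈ c.C.S.K)
    (hc : g * c.d b0 = c.d b0 * g) : ∃ b, ∃ h ∈ c.C.PhiG, c.sig h (b0 : F) = b0 ∧ g = c.d b * h := by
  have hbp : (b0 : F) ^ l = 1 := by
    rw [← Units.val_pow_eq_pow_val, ← hb, pow_orderOf_eq_one]; rfl
  have hne : (b0 : F) ≠ (b0 : F)⁻¹ := fun h => by
    have h2 : b0 ^ 2 = 1 := by
      rw [pow_two, mul_eq_one_iff_eq_inv]
      exact Units.ext (by simpa using h)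
    have := orderOf_dvd_of_pow_eq_one h2
    rw [hb] at this
    exact l2 ((Nat.prime_dvd_prime_iff_eq hl Nat.prime_two).1 this)
  have pm : ∀ {y : F}, y ^ l = 1 → (y = 1 ∨ y = -1) → y = 1 := by
    intro y h hpm
    rcases hpm with h' | h'
    · exact h'
    · rw [h', (hl.odd_of_ne_two l2).neg_one_pow] at h
      rw [h', h]
  obtain ⟨A, h, hh, rfl⟩ := c.mem_K_cases hg
  set σ := c.sig h with hσ
  have e' : c.C.elt A * c.d (Units.map (σ : F →* F) b0) = (c.d b0) * c.C.elt A := by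
    rw [hσ, ← c.conj_d hh, show c.C.elt A * (h * (c.d b0) * h⁻¹) = c.C.elt A * h * (c.d b0) * h⁻¹ by group, hc]
    group
  rw [d, d, Frame.elt_mul, Frame.elt_mul, c.elt_inj_iff] at e'
  obtain ⟨ε, hε, hm⟩ := (PSL2.pr_eq_iff _ _).1 e'
  have hεpm : ε = 1 ∨ ε = -1 := mul_self_eq_one_iff.1 hε
  have ha0 : (b0 : F) ≠ 0 := b0.ne_zero
  have hσ0 : σ (b0 : F) ≠ 0 := fun h0 => ha0 (σ.injective (h0.trans (map_zero _).symm))
  rw [Matrix.SpecialLinearGroup.coe_mul, Matrix.SpecialLinearGroup.coe_mul] at hm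
  have h00 := congrFun (congrFun hm 0) 0
  have h01 := congrFun (congrFun hm 0) 1
  have h10 := congrFun (congrFun hm 1) 0
  rw [Matrix.smul_apply, Matrix.mul_apply, Matrix.mul_apply, Fin.sum_univ_two, Fin.sum_univ_two] at h00 h01 h10
  simp [PSL2.hS] at h00 h01 h10
  have hσp : σ (b0 : F) ^ l = 1 := by rw [← map_pow, hbp, map_one]
  by_cases hA : A.1 0 0 = 0
  · exfalso
    have hd := PSL2.det_two A
    rw [hA, zero_mul, zero_sub] at hd
    have hA10 : A.1 1 0 ≠ 0 := fun h0 => by simp [h0] at hd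
    have h1 : σ (b0 : F) * b0 = ε := by
      field_simp at h10
      exact h10
    have h2 : σ (b0 : F) * b0 = 1 := by
      rw [h1]
      refine pm ?_ hεpm
      rw [← h1, mul_pow, hσp, hbp, one_mul]
    have h3 : σ (b0 : F) = (b0 : F)⁻¹ := eq_inv_of_mul_eq_one_left h2
    have h4 : (σ * σ) (b0 : F) = b0 := by
      show σ (σ (b0 : F)) = b0
      rw [h3, map_inv₀, h3, inv_inv]
    have h6 : h ∈ c.stab (b0 : F) := by
      have h7 : h ^ 2 ∈ c.stab (b0 : F) := ⟨pow_mem hh 2, by rw [c.sig_pow hh, pow_two, ← hσ]; exact h4⟩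
      obtain ⟨k, hk⟩ := c.C.Phi_odd hh
      have e1 : h = h ^ orderOf h * ((h ^ 2) ^ k)⁻¹ := by
        rw [hk, pow_succ', ← pow_mul, mul_inv_cancel_right]
      rw [e1, pow_orderOf_eq_one, one_mul]
      exact inv_mem (pow_mem h7 k)
    exact hne (h6.2.symm.trans h3)
  · have h1 : σ (b0 : F) = ε * b0 := by
      apply mul_left_cancel₀ hA
      linear_combination h00
    have hε1 : ε = 1 := by
      refine pm ?_ hεpm
      have := congrArg (· ^ l) h1
      simp only [mul_pow, hσp, hbp, mul_one] at this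
      exact this.symm
    subst hε1
    rw [one_mul] at h1 h00 h01 h10
    have z10 : A.1 1 0 = 0 := by
      by_contra hne'
      apply hne
      apply mul_left_cancel₀ hne'
      rw [h1] at h10
      simpa [mul_comm] using h10
    have z01 : A.1 0 1 = 0 := by
      by_contra hne'
      apply hne
      apply mul_left_cancel₀ hne'
      rw [h1] at h01
      simpa [mul_comm] using h01.symm
    have hd := PSL2.det_two A
    rw [z01, zero_mul, sub_zero] at hd
    refine ⟨Units.mk0 _ hA, h, hh, h1, ?_⟩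
    congr 1
    rw [d]
    congr 1
    ext i j
    fin_cases i <;> fin_cases j <;> simp [PSL2.hS, z10, z01]
    exact eq_inv_of_mul_eq_one_right hd

/-- `C_K(x) = D`. -/
theorem cent_x {g : G} (hg : g ∈ c.C.S.K) (hc : g * c.x = c.x * g) : ∃ b, g = c.d b := by
  obtain ⟨b, h, hh, hfix, rfl⟩ := c.cent_d c.hl c.l2 c.ha hg hc
  exact ⟨b, by rw [c.sig_inj hh (c.sig_a hfix), mul_one]⟩

end Cfg

end Cfsg.Agent.Walter.JR.Res3
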