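import Cfsg.Agent.Lib.Walter.JR.Res3.Local1
import Cfsg.Agent.Lib.Fusion.TransferPow

/-!
# The transfer lemma

A 3-group `P₀` with free layers normalised by `f`, containing a central free layer `Z₀` without conjugates of
`f ^ (e / 3)`, with `τ` the 3-part of `f`: every element of `N(P₀ ⟨τ⟩)` lies in `P₀ C(τ)`, and `P₀ ⟨τ⟩` is not a
Sylow subgroup.
-/

set_option autoImplicit false
set_option linter.unusedSectionVars false
set_option linter.style.haveILetI false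

namespace Cfsg.Agent.Walter.JR.Res3

open Subgroup Cfsg.Agent.Char.ReeThree Cfsg.Agent.Char.ReeOrder Cfsg.Agent.Small

universe u

namespace Cfg

variable {G : Type u} [Group G] [Finite G] {F : Type} [Field F] [Fintype F] (c : Cfg G F)

/-- A 3-group with free layers. -/
structure Tower (P0 Z0 : Subgroup G) : Prop where
  p3 : IsPGroup 3 P0
  fP : c.f ∈ normalizer (P0 : Set G)
  meet : ∀ n : ℕ, c.f ^ n ∈ P0 → c.ee ∣ n
  chain : ∃ (n : ℕ) (L : ℕ → Subgroup G), L 0 = ⊥ ∧ L n = P0 ∧ ∀ j < n, c.Lay (L j) (L (j + 1))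
  zle : Z0 ≤ P0
  zlay : c.Lay ⊥ Z0
  central : ∀ z ∈ Z0, ∀ p ∈ P0, p * z = z * p
  hno : ∀ g : G, g * c.f1 * g⁻¹ ∉ Z0

namespace Tower

variable {c} {P0 Z0 : Subgroup G} (T : c.Tower P0 Z0)

include T

theorem tau_norm : c.tau ∈ normalizer (P0 : Set G) := pow_mem T.fP _

theorem meet_tau {n : ℕ} (h : c.tau ^ n ∈ P0) : c.t3 ∣ n := by
  rw [tau, ← pow_mul] at h
  have h1 := T.meet _ h
  rw [← c.t3_mul_mm, mul_comm c.t3] at h1
  exact Nat.dvd_of_mul_dvd_mul_left c.mm_pos h1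

theorem tau_inv_pow (i : ℕ) : c.tau ^ (c.t3 * i - i) = (c.tau ^ i)⁻¹ := eq_inv_of_mul_eq_one_left (by
  rw [← pow_add, Nat.sub_add_cancel (Nat.le_mul_of_pos_left i c.t3_pos), pow_mul, c.pow_tau, one_pow])

/-- `P₀ ⟨τ⟩`. -/
def P1 : Subgroup G where
  carrier := {h | ∃ z ∈ P0, ∃ i : ℕ, h = z * c.tau ^ i}
  one_mem' := ⟨1, one_mem _, 0, by simp⟩
  mul_mem' := by
    rintro _ _ ⟨z, hz, i, rfl⟩ ⟨z', hz', j, rfl⟩
    refine ⟨z * (c.tau ^ i * z' * (c.tau ^ i)⁻¹), mul_mem hz ((mem_normalizer_iff.1 (pow_mem T.tau_norm i) _).1 hz'),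
      i + j, ?_⟩
    rw [pow_add]; group
  inv_mem' := by
    rintro _ ⟨z, hz, i, rfl⟩
    refine ⟨(c.tau ^ i)⁻¹ * z⁻¹ * c.tau ^ i, ?_, c.t3 * i - i, ?_⟩
    · have := (mem_normalizer_iff.1 (inv_mem (pow_mem T.tau_norm i)) z⁻¹).1 (inv_mem hz)
      rwa [inv_inv] at this
    · rw [T.tau_inv_pow]; group

theorem mem_P1 {h : G} : h ∈ T.P1 ↔ ∃ z ∈ P0, ∃ i : ℕ, h = z * c.tau ^ i := Iff.rfl

theorem P0_le : P0 ≤ T.P1 := fun z hz => ⟨z, hz, 0, by simp⟩

theorem tau_P1 : c.tau ∈ T.P1 := ⟨1, one_mem _, 1, by simp⟩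

theorem exp_unique {z z' : G} (hz : z ∈ P0) (hz' : z' ∈ P0) {i j : ℕ} (h : z * c.tau ^ i = z' * c.tau ^ j) :
    c.tau ^ i = c.tau ^ j := by
  have h1 : c.tau ^ (j + (c.t3 * i - i)) ∈ P0 := by
    rw [pow_add, T.tau_inv_pow, show c.tau ^ j * (c.tau ^ i)⁻¹ = z'⁻¹ * (z' * c.tau ^ j) * (c.tau ^ i)⁻¹ by group, ← h,
      show z'⁻¹ * (z * c.tau ^ i) * (c.tau ^ i)⁻¹ = z'⁻¹ * z by group]
    exact mul_mem (inv_mem hz') hz
  have h2 := c.tau_pow_eq_one.2 (T.meet_tau h1)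
  rw [pow_add, T.tau_inv_pow, mul_inv_eq_one] at h2
  exact h2.symm

/-- Elements `z τ ^ i` of the order of `τ ^ i` are conjugate to `τ ^ i`. -/
theorem conj_unit {i : ℕ} {z : G} (hz : z ∈ P0) (he : (z * c.tau ^ i) ^ orderOf (c.tau ^ i) = 1) :
    ∃ w ∈ P0, w * (z * c.tau ^ i) * w⁻¹ = c.tau ^ i := by
  have hp : c.tau ^ i = c.f ^ (c.mm * i) := by rw [tau, ← pow_mul]
  rw [hp] at he ⊢
  obtain ⟨n, L, h0, hn, hL⟩ := T.chain
  have mono : ∀ j ≤ n, L j ≤ P0 := by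
    intro j hj
    induction hd : n - j generalizing j with
    | zero => rw [show j = n by omega, hn]
    | succ d ih => exact ((hL j (by omega)).le).trans (ih (j + 1) (by omega) (by omega))
  suffices h : ∀ d ≤ n, ∃ w ∈ P0, w * (z * c.f ^ (c.mm * i)) * w⁻¹ * (c.f ^ (c.mm * i))⁻¹ ∈ L (n - d) by
    obtain ⟨w, hw, hw'⟩ := h n le_rfl
    rw [Nat.sub_self, h0, mem_bot, mul_inv_eq_one] at hw'
    exact ⟨w, hw, hw'⟩
  intro d
  induction d with
  | zero => exact fun _ => ⟨1, one_mem _, by simpa [hn] using hz⟩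
  | succ d ih =>
    intro hd
    obtain ⟨w, hw, hw'⟩ := ih (by omega)
    have hl := hL (n - (d + 1)) (by omega)
    rw [show n - (d + 1) + 1 = n - d by omega] at hl
    obtain ⟨v, hv, hv'⟩ := hl.conj (c.mm * i) _ hw' (by
      rw [show w * (z * c.f ^ (c.mm * i)) * w⁻¹ * (c.f ^ (c.mm * i))⁻¹ * c.f ^ (c.mm * i) =
        w * (z * c.f ^ (c.mm * i)) * w⁻¹ by group, conj_pow, he]
      simp [one_mem])
    refine ⟨v * w, mul_mem (mono _ (by omega) hv) hw, ?_⟩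
    rwa [show v * w * (z * c.f ^ (c.mm * i)) * (v * w)⁻¹ * (c.f ^ (c.mm * i))⁻¹ =
      v * (w * (z * c.f ^ (c.mm * i)) * w⁻¹ * (c.f ^ (c.mm * i))⁻¹ * c.f ^ (c.mm * i)) * v⁻¹ *
        (c.f ^ (c.mm * i))⁻¹ by group]

theorem ord_tau_pow {i : ℕ} (hi : ¬ 3 ∣ i) : orderOf (c.tau ^ i) = c.t3 := by
  rw [Nat.Coprime.orderOf_pow, c.ord_tau]
  rw [c.ord_tau, t3]
  exact Nat.Coprime.pow_left _ ((Nat.Prime.coprime_iff_not_dvd Nat.prime_three).2 hi)

/-- No conjugate of `τ` lies in `P₀ ⟨τ ^ 3⟩`. -/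
theorem not_in_kernel [IsSimpleGroup G] (hB : c.TB) {g z : G} {i : ℕ} (hz : z ∈ P0)
    (hw : g * c.tau * g⁻¹ = z * c.tau ^ i) (hi : 3 ∣ i) : False := by
  classical
  haveI := Fact.mk Nat.prime_three
  set w := g * c.tau * g⁻¹ with hwdef
  have hwe : orderOf w = c.t3 := by
    rw [hwdef, show g * c.tau * g⁻¹ = MulAut.conj g c.tau from rfl, MulEquiv.orderOf_eq, c.ord_tau]
  obtain ⟨K, -, hK, hKcard, hKfix⟩ := T.zlay.fixtau 1 (by rw [pow_one]; exact c.three_dvd_t3)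
  rw [card_bot, mul_one, pow_one] at hKcard
  obtain ⟨j, rfl⟩ := hi
  have hKw : ∀ a ∈ K, Commute a w := fun a ha => by
    have h1 : Commute (c.tau ^ 3) a := by
      have := (hKfix a (hK ha)).1 ha
      rw [mem_bot, mul_inv_eq_one, mul_inv_eq_iff_eq_mul, pow_one] at this
      exact this
    rw [hw, pow_mul]
    exact (show Commute a z from (T.central a (hK ha) z hz).symm).mul_right (h1.symm.pow_right j)
  set A := K ⊔ zpowers w with hA
  have hwK : zpowers w ≤ normalizer (K : Set G) := zpowers_le.2 (mem_normalizer_of_map _ fun a ha => by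
    rw [← (hKw a ha).eq, mul_inv_cancel_right]; exact ha)
  have hwp : IsPGroup 3 (zpowers w) := IsPGroup.of_card (n := c.ee.factorization 3) (by rw [Nat.card_zpowers, hwe, t3])
  have hA3 : IsPGroup 3 A := IsPGroup.to_sup_of_normal_left' (T.p3.to_le (hK.trans T.zle)) hwp hwK
  have hcomm : IsMulCommutative A := by
    rw [hA, sup_eq_closure]
    refine isMulCommutative_closure ?_
    rintro a (ha | ha) b (hb | hb)
    · exact (T.central b (hK hb) a (T.zle (hK ha)))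
    · obtain ⟨k, rfl⟩ := hb; exact ((hKw a ha).zpow_right k).eq
    · obtain ⟨k, rfl⟩ := ha; exact ((hKw b hb).zpow_right k).eq.symm
    · obtain ⟨k, rfl⟩ := ha; obtain ⟨l, rfl⟩ := hb; exact (Commute.zpow_zpow_self w k l).eq
  set B : Subgroup G := A.map (MulAut.conj g⁻¹).toMonoidHom with hB'
  have hBt : B ≤ centralizer ({c.tau} : Set G) := by
    rintro _ ⟨a, ha, rfl⟩
    have hc : a * w = w * a := congrArg Subtype.val (hcomm.is_comm.comm ⟨a, ha⟩ ⟨w, mem_sup_right (mem_zpowers w)⟩)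
    refine mem_centralizer_singleton_iff.2 ?_
    show g⁻¹ * a * g⁻¹⁻¹ * c.tau = c.tau * (g⁻¹ * a * g⁻¹⁻¹)
    rw [inv_inv, show c.tau = g⁻¹ * w * g by rw [hwdef]; group,
      show g⁻¹ * a * g * (g⁻¹ * w * g) = g⁻¹ * (a * w) * g by group, hc]
    group
  have hlt := c.abelian_lt hB hBt (hA3.map _) (by
    rintro _ ⟨a, ha, rfl⟩ _ ⟨b, hb, rfl⟩
    rw [← map_mul, ← map_mul]
    exact congrArg _ (congrArg Subtype.val (hcomm.is_comm.comm ⟨a, ha⟩ ⟨b, hb⟩) :))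
  rw [hB', card_map_of_injective (MulAut.conj g⁻¹).injective] at hlt
  have hdis : Disjoint K (zpowers w) := by
    rw [Subgroup.disjoint_def]
    intro a haK haw
    by_contra ha1
    obtain ⟨n, hn⟩ := mem_powers_iff_mem_zpowers.2 haw
    change w ^ n = a at hn
    have hgK : w ^ Nat.gcd n c.t3 ∈ K := by
      rw [← zpow_natCast, Nat.gcd_eq_gcd_ab, zpow_add, zpow_mul, zpow_mul, zpow_natCast, zpow_natCast, hn, ← hwe,
        pow_orderOf_eq_one, one_zpow, mul_one]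
      exact zpow_mem haK _
    obtain ⟨k, hk⟩ : ∃ k, c.t3 / 3 = Nat.gcd n c.t3 * k := by
      obtain ⟨b, hb⟩ : ∃ b, c.t3 = 3 ^ b := ⟨_, rfl⟩
      obtain ⟨s', hs, hs'⟩ := (Nat.dvd_prime_pow Nat.prime_three).1 (hb ▸ Nat.gcd_dvd_right n c.t3 : Nat.gcd n c.t3 ∣ 3 ^ b)
      have hlt : s' < b := by
        refine lt_of_le_of_ne hs fun e => ha1 ?_
        rw [← hn]
        refine orderOf_dvd_iff_pow_eq_one.1 ?_
        rw [hwe, hb, ← e, ← hs']
        exact Nat.gcd_dvd_left _ _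
      refine ⟨3 ^ (b - 1 - s'), ?_⟩
      rw [hs', hb, ← pow_add, show s' + (b - 1 - s') = b - 1 by omega]
      nth_rw 2 [← pow_one 3]
      exact Nat.pow_div (by omega) (by norm_num)
    have e1 : g * c.f1 * g⁻¹ = w ^ (c.t3 / 3) := by
      rw [hwdef, conj_pow, f1, tau, ← pow_mul, ← c.t3_mul_mm, mul_comm c.t3,
        Nat.mul_div_assoc _ c.three_dvd_t3]
    refine T.hno g (hK ?_)
    rw [e1, hk, pow_mul]
    exact pow_mem hgK k
  have hcard : Nat.card K * Nat.card (zpowers w) ≤ Nat.card A := by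
    rw [← Nat.card_prod]
    refine Nat.card_le_card_of_injective
      (fun p => ⟨(p.1 : G) * p.2, mul_mem (mem_sup_left p.1.2) (mem_sup_right p.2.2)⟩) fun p q h => ?_
    have h' : (p.1 : G) * p.2 = q.1 * q.2 := congrArg Subtype.val h
    exact mul_injective_of_disjoint hdis h'
  rw [Nat.card_zpowers, hwe, hKcard, mul_comm] at hcard
  rw [← pow_mul] at hlt
  omega

/-- An element conjugating `τ` into `P₀ ⟨τ⟩` is, up to `P₀`, in `C(τ)`. -/
theorem norm_cases [IsSimpleGroup G] (hB : c.TB) {g : G} (hg : g * c.tau * g⁻¹ ∈ T.P1) :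
    ∃ v ∈ P0, v * g * c.tau = c.tau * (v * g) := by
  obtain ⟨z, hz, i, hw⟩ := hg
  have hi : ¬ 3 ∣ i := fun h => T.not_in_kernel hB hz hw h
  obtain ⟨v, hv, e⟩ := T.conj_unit hz (by rw [T.ord_tau_pow hi, ← hw, conj_pow, c.pow_tau, mul_one, mul_inv_cancel])
  refine ⟨v, hv, ?_⟩
  have e' : v * g * c.tau * (v * g)⁻¹ = c.tau ^ i := by
    rw [← e, ← hw]; group
  have hf := c.C.Phi_conj c.tau_mem (pow_mem c.tau_mem i) e'
  rw [← hf, mul_inv_eq_iff_eq_mul] at e'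
  exact e'

/-- `P₀ ⟨τ⟩` is a 3-group. -/
theorem P1_p3 : IsPGroup 3 T.P1 := by
  haveI := Fact.mk Nat.prime_three
  have hf : IsPGroup 3 (zpowers c.tau) :=
    IsPGroup.of_card (n := c.ee.factorization 3) (by rw [Nat.card_zpowers, c.ord_tau, t3])
  refine (IsPGroup.to_sup_of_normal_left' T.p3 hf (zpowers_le.2 T.tau_norm)).to_le ?_
  rintro _ ⟨z, hz, i, rfl⟩
  exact mul_mem (mem_sup_left hz) (mem_sup_right (pow_mem (mem_zpowers _) i))

/-- The order of `P₀ ⟨τ⟩`. -/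
theorem card_P1 : Nat.card T.P1 = Nat.card P0 * c.t3 := by
  have key : Function.Bijective (fun p : P0 × Fin c.t3 =>
      (⟨(p.1 : G) * c.tau ^ (p.2 : ℕ), p.1, p.1.2, p.2, rfl⟩ : T.P1)) := by
    constructor
    · rintro ⟨z, i⟩ ⟨z', j⟩ h
      have h' : (z : G) * c.tau ^ (i : ℕ) = z' * c.tau ^ (j : ℕ) := congrArg Subtype.val h
      have hij := T.exp_unique z.2 z'.2 h'
      rw [← hij] at h'
      have e1 : z = z' := Subtype.ext (mul_right_cancel h')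
      rw [pow_eq_pow_iff_modEq, c.ord_tau] at hij
      rw [e1, show i = j from Fin.ext (Nat.ModEq.eq_of_lt_of_lt hij i.2 j.2)]
    · rintro ⟨_, z, hz, i, rfl⟩
      exact ⟨(⟨z, hz⟩, ⟨i % c.t3, Nat.mod_lt _ c.t3_pos⟩), Subtype.ext (by
        show z * c.tau ^ (i % c.t3) = z * c.tau ^ i
        rw [← c.ord_tau, pow_mod_orderOf])⟩
  rw [← Nat.card_eq_of_bijective _ key, Nat.card_prod, Nat.card_fin]

/-- The transfer. -/
theorem not_sylow [IsSimpleGroup G] (hB : c.TB) : ¬ Nat.Coprime 3 T.P1.index := by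
  classical
  intro hco
  haveI := Fact.mk Nat.prime_three
  have hrep : ∀ h : T.P1, ∃ i : ℕ, ∃ z ∈ P0, (h : G) = z * c.tau ^ i := fun h => by
    obtain ⟨z, hz, i, e⟩ := h.2
    exact ⟨i, z, hz, e⟩
  choose ix zz hzz hix using hrep
  have mod3 : ∀ {i j : ℕ}, c.tau ^ i = c.tau ^ j → ((i : ZMod 3) = (j : ZMod 3)) := fun {i j} h => by
    rw [pow_eq_pow_iff_modEq, c.ord_tau] at h
    rw [ZMod.natCast_eq_natCast_iff]
    exact h.of_dvd c.three_dvd_t3
  let ϕ : T.P1 →* Multiplicative (ZMod 3) :=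
    MonoidHom.mk' (fun h => Multiplicative.ofAdd (ix h : ZMod 3)) fun a b => by
      rw [← ofAdd_add, ← Nat.cast_add]
      refine congrArg _ (mod3 (T.exp_unique (hzz (a * b))
        (mul_mem (hzz a) ((mem_normalizer_iff.1 (pow_mem T.tau_norm (ix a)) _).1 (hzz b))) ?_))
      rw [← hix, Subgroup.coe_mul, hix a, hix b, pow_add]; group
  have hϕ : ∀ (z : G) (i : ℕ) (hz : z ∈ P0) (h : z * c.tau ^ i ∈ T.P1),
      ϕ ⟨z * c.tau ^ i, h⟩ = Multiplicative.ofAdd (i : ZMod 3) := fun z i hz h =>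
    show Multiplicative.ofAdd (ix ⟨z * c.tau ^ i, h⟩ : ZMod 3) = _ from
    congrArg _ (mod3 (T.exp_unique (hzz _) hz (hix ⟨_, h⟩).symm))
  have hϕf : ϕ ⟨c.tau, T.tau_P1⟩ = Multiplicative.ofAdd (1 : ZMod 3) := by
    have := hϕ 1 1 (one_mem _) (by simpa using T.tau_P1)
    simpa using this
  have hmem : ∀ {z : G}, z ∈ P0 → ∀ i k : ℕ, ∃ z' ∈ P0, (z * c.tau ^ i) ^ k = z' * c.tau ^ (i * k) := by
    intro z hz i k
    induction k with
    | zero => exact ⟨1, one_mem _, by simp⟩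
    | succ k ih =>
      obtain ⟨z', hz', e'⟩ := ih
      refine ⟨z' * (c.tau ^ (i * k) * z * (c.tau ^ (i * k))⁻¹),
        mul_mem hz' ((mem_normalizer_iff.1 (pow_mem T.tau_norm _) _).1 hz), ?_⟩
      rw [pow_succ, e', Nat.mul_succ, pow_add]; group
  have hctrl : ∀ (m : ℕ) (a : G) (h : a⁻¹ * c.tau ^ m * a ∈ T.P1), ϕ ⟨_, h⟩ = ϕ ⟨c.tau, T.tau_P1⟩ ^ m := by
    intro m a h
    rw [hϕf, ← ofAdd_nsmul, nsmul_eq_mul, mul_one]
    by_cases h3 : 3 ∣ m
    · rw [show ((m : ℕ) : ZMod 3) = 0 from (ZMod.natCast_eq_zero_iff m 3).2 h3, ofAdd_zero]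
      obtain ⟨z, hz, i, e⟩ := h
      have hzi : z * c.tau ^ i ∈ T.P1 := ⟨z, hz, i, rfl⟩
      have hh : (⟨a⁻¹ * c.tau ^ m * a, ⟨z, hz, i, e⟩⟩ : T.P1) = ⟨z * c.tau ^ i, hzi⟩ := Subtype.ext e
      rw [hh, hϕ z i hz]
      have hone : (a⁻¹ * c.tau ^ m * a) ^ (c.t3 / 3) = 1 := by
        have hd : c.tau ^ (m * (c.t3 / 3)) = 1 := c.tau_pow_eq_one.2 (by
          conv_lhs => rw [← Nat.mul_div_cancel' c.three_dvd_t3]
          exact Nat.mul_dvd_mul_right h3 _)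
        have := conj_pow (i := c.t3 / 3) (a := a⁻¹) (b := c.tau ^ m)
        rw [inv_inv] at this
        rw [this, ← pow_mul, hd, mul_one, inv_mul_cancel]
      obtain ⟨z', hz', e'⟩ := hmem hz i (c.t3 / 3)
      rw [← e, hone] at e'
      have hd := T.meet_tau (n := i * (c.t3 / 3)) (by rw [eq_inv_of_mul_eq_one_right e'.symm]; exact inv_mem hz')
      have hi3 : 3 ∣ i := by
        nth_rw 1 [← Nat.mul_div_cancel' c.three_dvd_t3] at hd
        exact Nat.dvd_of_mul_dvd_mul_right (Nat.div_pos (Nat.le_of_dvd c.t3_pos c.three_dvd_t3) (by norm_num)) hd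
      rw [(ZMod.natCast_eq_zero_iff i 3).2 hi3, ofAdd_zero]
    · obtain ⟨j, hfm⟩ := exists_pow_eq_self_of_coprime (x := c.tau) (n := m) (by
        rw [c.ord_tau, t3]
        exact (((Nat.Prime.coprime_iff_not_dvd Nat.prime_three).2 h3).pow_left _).symm)
      have hw : a⁻¹ * c.tau * a ∈ T.P1 := by
        have := pow_mem h j
        have e := conj_pow (i := j) (a := a⁻¹) (b := c.tau ^ m)
        rw [inv_inv] at e
        rwa [e, hfm] at this
      obtain ⟨z, hz, i, e⟩ := hw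
      have hi : ¬ 3 ∣ i := fun hd => T.not_in_kernel hB (g := a⁻¹) hz (by rw [inv_inv]; exact e) hd
      obtain ⟨v, hv, ev⟩ := T.conj_unit hz (by
        have e2 := conj_pow (i := c.t3) (a := a⁻¹) (b := c.tau)
        rw [inv_inv] at e2
        rw [T.ord_tau_pow hi, ← e, e2, c.pow_tau, mul_one, inv_mul_cancel])
      have e' : (v * a⁻¹) * c.tau * (v * a⁻¹)⁻¹ = c.tau ^ i := by rw [← ev, ← e]; group
      have hf := c.C.Phi_conj c.tau_mem (pow_mem c.tau_mem i) e'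
      have hwP : a⁻¹ * c.tau * a ∈ T.P1 := ⟨z, hz, i, e⟩
      have hhw : (⟨a⁻¹ * c.tau ^ m * a, h⟩ : T.P1) = ⟨a⁻¹ * c.tau * a, hwP⟩ ^ m := Subtype.ext (by
        have e2 := conj_pow (i := m) (a := a⁻¹) (b := c.tau)
        rw [inv_inv] at e2
        rw [Subgroup.coe_pow, e2])
      have hzi : z * c.tau ^ i ∈ T.P1 := ⟨z, hz, i, rfl⟩
      rw [hhw, map_pow, show (⟨a⁻¹ * c.tau * a, hwP⟩ : T.P1) = ⟨z * c.tau ^ i, hzi⟩ from Subtype.ext e,
        hϕ z i hz hzi, show ((i : ℕ) : ZMod 3) = ((1 : ℕ) : ZMod 3) from mod3 (by rw [pow_one, ← hf]), Nat.cast_one,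
        ← ofAdd_nsmul, nsmul_eq_mul, mul_one]
  have hne := Fusion.transfer_ne_one ϕ c.tau T.tau_P1 (show orderOf c.tau = 3 ^ _ by rw [c.ord_tau, t3]) hco
    (by rw [hϕf]; exact fun h => one_ne_zero (Multiplicative.ofAdd.injective h)) hctrl
  -- `G` is not commutative
  have hker : (MonoidHom.transfer ϕ).ker = ⊥ :=
    ((MonoidHom.normal_ker _).eq_bot_or_eq_top).resolve_right fun h => hne (MonoidHom.mem_ker.1 (h ▸ mem_top c.tau))
  have hcomm : c.d c.a * c.u 1 = c.u 1 * c.d c.a :=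
    (MonoidHom.ker_eq_bot_iff _).1 hker (by rw [map_mul, map_mul, mul_comm])
  have h := c.d_u c.a 1
  rw [hcomm, mul_inv_cancel_right, mul_one] at h
  have h2 := c.u_inj h
  exact c.a_ne_inv (eq_inv_of_mul_eq_one_left (by rw [← pow_two]; exact h2.symm))

end Tower

end Cfg

end Cfsg.Agent.Walter.JR.Res3
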