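import Cfsg.Agent.Lib.Walter.JR.Res3.Lay
import Cfsg.Agent.Lib.Solv.Coprime

/-!
# The root group: `C(U)` and `N(U)`

`O(C(U)) / U` is inverted by `t`, so the 3-elements of `C(U)` form a subgroup `Q` with commutators in `U`; a
3-subgroup of `N(U)` has order dividing `|Q|` times the 3-part of `e`; no conjugate of `f ^ (e / 3)` lies in `U`.
-/

set_option autoImplicit false
set_option linter.unusedSectionVars false
set_option linter.style.haveILetI false

namespace Cfsg.Agent.Walter.JR.Res3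

open Subgroup Cfsg.Agent.Char.ReeThree Cfsg.Agent.Char.ReeOrder Cfsg.Agent.Small

universe u

namespace Cfg

variable {G : Type u} [Group G] [Finite G] {F : Type} [Field F] [Fintype F] (c : Cfg G F)

/-- `U`. -/
def UG : Subgroup G where
  carrier := Set.range c.u
  one_mem' := ⟨0, c.u_zero⟩
  mul_mem' := by rintro _ _ ⟨v, rfl⟩ ⟨w, rfl⟩; exact ⟨v + w, c.u_add v w⟩
  inv_mem' := by rintro _ ⟨v, rfl⟩; exact ⟨-v, c.u_neg v⟩

/-- `D`. -/
def DG : Subgroup G where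
  carrier := Set.range c.d
  one_mem' := ⟨1, c.d_one⟩
  mul_mem' := by rintro _ _ ⟨v, rfl⟩ ⟨w, rfl⟩; exact ⟨v * w, (c.d_mul v w).symm⟩
  inv_mem' := by
    rintro _ ⟨v, rfl⟩
    exact ⟨v⁻¹, eq_inv_of_mul_eq_one_left (by rw [c.d_mul, inv_mul_cancel, c.d_one])⟩

theorem card_UG : Nat.card c.UG = 3 ^ c.ee := by
  rw [← c.hq, ← Nat.card_eq_fintype_card]
  exact (Nat.card_congr (Equiv.ofInjective c.u fun _ _ h => c.u_inj h)).symm

theorem UG_t {g : G} (hg : g ∈ c.UG) : g * c.t = c.t * g := by obtain ⟨v, rfl⟩ := hg; exact c.u_t v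

theorem UG_comm {a b : G} (ha : a ∈ c.UG) (hb : b ∈ c.UG) : a * b = b * a := by
  obtain ⟨v, rfl⟩ := ha; obtain ⟨w, rfl⟩ := hb; exact c.u_comm v w

theorem UG_p3 : IsPGroup 3 c.UG := IsPGroup.of_card c.card_UG

theorem UG_cube {g : G} (hg : g ∈ c.UG) : g ^ 3 = 1 := by
  haveI := c.char3
  obtain ⟨v, rfl⟩ := hg
  rw [pow_three, ← c.u_add, ← c.u_add, show v + (v + v) = ((3 : ℕ) : F) * v by push_cast; ring, CharP.cast_eq_zero,
    zero_mul, c.u_zero]

theorem DG_norm_U {g : G} (hg : g ∈ c.DG) : g ∈ normalizer (c.UG : Set G) := by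
  obtain ⟨b, rfl⟩ := hg
  exact mem_normalizer_of_map _ fun z hz => by
    obtain ⟨v, rfl⟩ := hz
    exact ⟨_, (c.d_u b v).symm⟩

theorem Phi_norm_U {g : G} (hg : g ∈ c.C.PhiG) : g ∈ normalizer (c.UG : Set G) :=
  mem_normalizer_of_map _ fun z hz => by obtain ⟨v, rfl⟩ := hz; exact ⟨_, (c.conj_u hg v).symm⟩

theorem Phi_norm_D {g : G} (hg : g ∈ c.C.PhiG) : g ∈ normalizer (c.DG : Set G) :=
  mem_normalizer_of_map _ fun z hz => by obtain ⟨v, rfl⟩ := hz; exact ⟨_, (c.conj_d hg v).symm⟩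

theorem x_norm_U : c.x ∈ normalizer (c.UG : Set G) := c.DG_norm_U ⟨c.a, rfl⟩

theorem f_norm_U : c.f ∈ normalizer (c.UG : Set G) := c.Phi_norm_U c.f_mem

/-- `U D Φ`. -/
def BU : Subgroup G := c.UG ⊔ (c.DG ⊔ c.C.PhiG)

theorem card_DG_coprime : Nat.Coprime 6 (Nat.card c.DG) := by
  have key : ∀ p : ℕ, p.Prime → p ∣ 6 → ¬ p ∣ Nat.card c.DG := by
    intro p hp h6 hdvd
    haveI := Fact.mk hp
    obtain ⟨⟨g, hg⟩, ho⟩ := exists_prime_orderOf_dvd_card' (G := c.DG) p hdvd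
    rw [Subgroup.orderOf_mk] at ho
    obtain ⟨b, rfl⟩ := hg
    have hodd := c.d_odd b
    have h1 : orderOf (c.d b) ∣ Fintype.card F - 1 := orderOf_dvd_of_pow_eq_one (by
      rw [c.d_pow]; exact c.d_pm (Or.inl (by
        rw [Units.val_pow_eq_pow_val]; exact FiniteField.pow_card_sub_one_eq_one _ b.ne_zero)))
    rw [ho] at hodd h1
    have h23 : p = 2 ∨ p = 3 := by
      have hle := Nat.le_of_dvd (by norm_num) h6
      interval_cases p <;> revert hp h6 <;> norm_num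
    rcases h23 with rfl | rfl
    · exact absurd hodd (by decide)
    · have h3 : 3 ∣ 3 ^ c.ee := dvd_pow_self 3 c.ee_pos.ne'
      rw [c.hq] at h1
      have : 1 ≤ 3 ^ c.ee := Nat.one_le_pow _ _ (by norm_num)
      omega
  rw [Nat.coprime_iff_gcd_eq_one]
  by_contra h
  obtain ⟨p, hp, hpd⟩ := Nat.exists_prime_and_dvd h
  exact key p hp (hpd.trans (Nat.gcd_dvd_left _ _)) (hpd.trans (Nat.gcd_dvd_right _ _))

theorem BU_inner : c.DG ⊔ c.C.PhiG ≤ normalizer (c.UG : Set G) :=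
  sup_le (fun _ => c.DG_norm_U) (fun _ => c.Phi_norm_U)

theorem card_BU : Nat.card c.BU ∣ 3 ^ c.ee * (Nat.card c.DG * c.ee) := by
  have h1 : Nat.card c.BU ∣ Nat.card c.UG * Nat.card (c.DG ⊔ c.C.PhiG : Subgroup G) :=
    Dvd.intro _ (Solv.card_sup_mul_card_inf' _ _ c.BU_inner)
  have h2 : Nat.card (c.DG ⊔ c.C.PhiG : Subgroup G) ∣ Nat.card c.DG * Nat.card c.C.PhiG :=
    Dvd.intro _ (Solv.card_sup_mul_card_inf' _ _ fun _ => c.Phi_norm_D)
  rw [c.card_UG] at h1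
  rw [c.C.card_PhiG, Frame.e, c.eq] at h2
  exact h1.trans (Nat.mul_dvd_mul_left _ h2)

theorem BU_odd : Odd (Nat.card c.BU) := by
  refine Odd.of_dvd_nat ((Odd.pow (by decide)).mul ((Nat.coprime_two_left.1
    (Nat.Coprime.coprime_dvd_left ⟨3, rfl⟩ c.card_DG_coprime)).mul ?_)) c.card_BU
  exact c.hodd

/-- The elements of `E` sending a non-trivial element of `U` into `U` lie in `U D Φ`. -/
theorem mem_BU {g : G} (hg : g ∈ c.C.S.K) {v w : F} (hv : v ≠ 0) (h : g * c.u v * g⁻¹ = c.u w) : g ∈ c.BU := by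
  obtain ⟨A, y, hy, rfl⟩ := c.mem_K_cases hg
  obtain ⟨h10, -⟩ := c.conj_u_cases hy hv h
  have hd := PSL2.det_two A
  rw [h10, mul_zero, sub_zero] at hd
  have hA0 : A.1 0 0 ≠ 0 := left_ne_zero_of_mul_eq_one hd
  have eA : A = PSL2.uS (A.1 0 1 * A.1 0 0) * PSL2.hS (Units.mk0 _ hA0) := by
    apply Subtype.ext
    rw [PSL2.val_mul]
    have h11 : A.1 1 1 = (A.1 0 0)⁻¹ := eq_inv_of_mul_eq_one_right hd
    ext i j
    fin_cases i <;> fin_cases j <;>
      simp [PSL2.uS, PSL2.hS, Matrix.mul_apply, Fin.sum_univ_two, h10, h11, mul_assoc, hA0]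
  rw [eA, ← Frame.elt_mul, mul_assoc]
  exact mul_mem (mem_sup_left ⟨_, rfl⟩) (mem_sup_right (mul_mem (mem_sup_left ⟨_, rfl⟩) (mem_sup_right hy)))

/-- `C(U)`. -/
abbrev CU : Subgroup G := centralizer (c.UG : Set G)

theorem UG_le_CU : c.UG ≤ c.CU := fun _ ha => mem_centralizer_iff.2 fun _ hb => c.UG_comm hb ha

theorem t_CU : c.t ∈ c.CU := mem_centralizer_iff.2 fun _ hb => c.UG_t hb

theorem CU_K {g : G} (hg : g ∈ c.CU) (hK : g ∈ c.C.S.K) : g ∈ c.UG := by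
  obtain ⟨v, hv⟩ := c.cent_U hK fun v => (mem_centralizer_iff.1 hg _ ⟨v, rfl⟩).symm
  exact ⟨v, hv.symm⟩

theorem norm_CU {n g : G} (hn : n ∈ normalizer (c.UG : Set G)) (hg : g ∈ c.CU) : n * g * n⁻¹ ∈ c.CU :=
  mem_centralizer_iff.2 fun z hz => by
    have hz' : n⁻¹ * z * n ∈ c.UG := by
      have := (mem_normalizer_iff.1 (inv_mem hn) z).1 hz
      rwa [inv_inv] at this
    have h := mem_centralizer_iff.1 hg _ hz'
    calc z * (n * g * n⁻¹) = n * ((n⁻¹ * z * n) * g) * n⁻¹ := by group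
      _ = n * (g * (n⁻¹ * z * n)) * n⁻¹ := by rw [h]
      _ = n * g * n⁻¹ * z := by group

/-- In a group of odd order normalised by `t` every element is a fixed element times an inverted one. -/
theorem decomp {Y : Subgroup G} (ho : Odd (Nat.card Y)) (ht : c.t ∈ normalizer (Y : Set G)) {g : G} (hg : g ∈ Y) :
    ∃ a ∈ Y, ∃ b ∈ Y, a * c.t = c.t * a ∧ c.t * b * c.t⁻¹ = b⁻¹ ∧ g = a * b := by
  set τ : G → G := fun z => c.t * z * c.t⁻¹ with hτ
  have hττ : ∀ z, τ (τ z) = z := fun z => by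
    show c.t * (c.t * z * c.t⁻¹) * c.t⁻¹ = z
    rw [show c.t * (c.t * z * c.t⁻¹) * c.t⁻¹ = (c.t * c.t) * z * (c.t * c.t)⁻¹ by group, c.C.S.sq_t]
    group
  have hgY : τ g ∈ Y := (mem_normalizer_iff.1 ht g).1 hg
  set x := g⁻¹ * τ g with hx
  have hxY : x ∈ Y := mul_mem (inv_mem hg) hgY
  obtain ⟨k, hk⟩ := sq_pow (ho.of_dvd_nat (Y.orderOf_dvd_natCard hxY))
  have hτpow : ∀ (z : G) (n : ℕ), τ (z ^ n) = τ z ^ n := fun z n => (map_pow (MulAut.conj c.t) z n)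
  have hτmul : ∀ a b, τ (a * b) = τ a * τ b := fun a b => map_mul (MulAut.conj c.t) a b
  have hτx : τ x = x⁻¹ := by
    rw [hx, hτmul, hττ, mul_inv_rev, inv_inv]
    congr 1
    exact map_inv (MulAut.conj c.t) g
  set y := x ^ k with hy
  have hy2 : x = y * y := by rw [hy, ← pow_two, ← pow_mul, mul_comm, pow_mul]; exact hk
  have hτy : τ y = y⁻¹ := by rw [hy, hτpow, hτx, inv_pow]
  have hyY : y ∈ Y := pow_mem hxY k
  refine ⟨g * y, mul_mem hg hyY, y⁻¹, inv_mem hyY, ?_, ?_, by group⟩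
  · have : τ (g * y) = g * y := by
      rw [hτmul, hτy, show τ g = g * x by rw [hx]; group, hy2]; group
    exact (mul_inv_eq_iff_eq_mul.1 this).symm
  · rw [show c.t * y⁻¹ * c.t⁻¹ = (τ y)⁻¹ by simp only [hτ]; group, hτy]

/-- The subgroup `O(C(U))`. -/
theorem exists_KU : ∃ K : Subgroup G, Odd (Nat.card K) ∧ (∀ g, g ∈ K ↔ g ∈ c.CU ∧ Odd (orderOf g)) ∧
    ∀ g ∈ c.CU, g ∈ K ∨ c.t * g ∈ K :=
  c.odd_core c.CU c.t_CU fun g hg hK => by
    obtain ⟨v, hv⟩ := c.CU_K hg hK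
    rw [← hv]
    exact Odd.of_dvd_nat (by decide : Odd 3) (orderOf_dvd_of_pow_eq_one (c.UG_cube ⟨v, rfl⟩))

/-- The properties of `Q`. -/
structure IsQ (Q : Subgroup G) : Prop where
  p3 : IsPGroup 3 Q
  U_le : c.UG ≤ Q
  le_CU : Q ≤ c.CU
  all : ∀ g ∈ c.CU, ∀ k : ℕ, g ^ 3 ^ k = 1 → g ∈ Q
  comm : ∀ a ∈ Q, ∀ b ∈ Q, a * b * a⁻¹ * b⁻¹ ∈ c.UG
  bound : ∀ P : Subgroup G, IsPGroup 3 P → P ≤ normalizer (c.UG : Set G) → Nat.card P ∣ Nat.card Q * c.t3

theorem exists_Q : ∃ Q : Subgroup G, c.IsQ Q := by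
  classical
  haveI := Fact.mk Nat.prime_three
  haveI := Fact.mk Nat.prime_two
  obtain ⟨K, hKo, hK, hKt⟩ := c.exists_KU
  have hUK : c.UG ≤ K := fun z hz => (hK z).2 ⟨c.UG_le_CU hz,
    Odd.of_dvd_nat (by decide : Odd 3) (orderOf_dvd_of_pow_eq_one (c.UG_cube hz))⟩
  have htK : c.t ∈ normalizer (K : Set G) := mem_normalizer_of_map _ fun g hg => (hK _).2
    ⟨mul_mem (mul_mem c.t_CU ((hK g).1 hg).1) (inv_mem c.t_CU), by
      rw [← MulAut.conj_apply, MulEquiv.orderOf_eq]; exact ((hK g).1 hg).2⟩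
  have central : ∀ g ∈ K, ∀ z ∈ c.UG, g * z = z * g := fun g hg z hz =>
    (mem_centralizer_iff.1 ((hK g).1 hg).1 z hz).symm
  -- `K / U` is inverted
  have inv_mod : ∀ g ∈ K, c.t * g * c.t⁻¹ * g ∈ c.UG := by
    intro g hg
    obtain ⟨a, ha, b, hb, hat, hbt, rfl⟩ := c.decomp hKo htK hg
    have haU : a ∈ c.UG := c.CU_K ((hK a).1 ha).1 (c.odd_mem_K hat ((hK a).1 ha).2)
    rw [show c.t * (a * b) * c.t⁻¹ = c.t * a * c.t⁻¹ * (c.t * b * c.t⁻¹) by group, hbt, ← hat, mul_inv_cancel_right,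
      show a * b⁻¹ * (a * b) = a * (b⁻¹ * a) * b by group, central b⁻¹ (inv_mem hb) a haU,
      show a * (a * b⁻¹) * b = a * a by group]
    exact mul_mem haU haU
  have hcomm : ∀ a ∈ K, ∀ b ∈ K, a * b * a⁻¹ * b⁻¹ ∈ c.UG := by
    intro a ha b hb
    set A := c.t * a * c.t⁻¹ with hA
    set B := c.t * b * c.t⁻¹ with hB
    obtain ⟨u1, hu1, e1⟩ : ∃ z ∈ c.UG, A = z * a⁻¹ := ⟨_, inv_mod a ha, by rw [hA]; group⟩
    obtain ⟨u2, hu2, e2⟩ : ∃ z ∈ c.UG, B = z * b⁻¹ := ⟨_, inv_mod b hb, by rw [hB]; group⟩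
    have h3 := inv_mod (a * b) (mul_mem ha hb)
    rw [show c.t * (a * b) * c.t⁻¹ = A * B by rw [hA, hB]; group, e1, e2,
      show u1 * a⁻¹ * (u2 * b⁻¹) * (a * b) = u1 * (a⁻¹ * u2) * (b⁻¹ * a * b) by group, central _ (inv_mem ha) u2 hu2,
      show u1 * (u2 * a⁻¹) * (b⁻¹ * a * b) = u1 * u2 * (a⁻¹ * b⁻¹ * a * b) by group] at h3
    have h4 : a⁻¹ * b⁻¹ * a * b ∈ c.UG := by
      have := mul_mem (inv_mem (mul_mem hu1 hu2)) h3
      rwa [inv_mul_cancel_left] at this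
    have h5 := central b hb _ h4
    have h6 := central a ha _ h4
    have e : a * b * a⁻¹ * b⁻¹ = (b * a) * (a⁻¹ * b⁻¹ * a * b) * (b * a)⁻¹ := by group
    rw [e, central _ (mul_mem hb ha) _ h4, mul_inv_cancel_right]
    exact h4
  -- the Sylow subgroup of `K`
  obtain ⟨P⟩ : Nonempty (Sylow 3 K) := inferInstance
  have hUP : c.UG.subgroupOf K ≤ (P : Subgroup K) := by
    have hU3 : IsPGroup 3 (c.UG.subgroupOf K) := c.UG_p3.of_equiv (subgroupOfEquivOfLe hUK).symm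
    haveI : (c.UG.subgroupOf K).Normal := ⟨fun z hz g => mem_subgroupOf.2 (by
      show (g : G) * z * (g : G)⁻¹ ∈ c.UG
      rw [central g g.2 z (mem_subgroupOf.1 hz), mul_inv_cancel_right]; exact mem_subgroupOf.1 hz)⟩
    have hp := P.2.to_sup_of_normal_right hU3
    exact (le_sup_right (a := (P : Subgroup K))).trans (P.3 hp le_sup_left).le
  haveI hPn : (P : Subgroup K).Normal := ⟨fun p hp g => by
    have h := hcomm g g.2 p p.2
    have h' : g * p * g⁻¹ * p⁻¹ ∈ (P : Subgroup K) := hUP (mem_subgroupOf.2 h)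
    simpa [mul_assoc] using mul_mem h' hp⟩
  haveI : Subsingleton (Sylow 3 K) := (Sylow.unique_of_normal P hPn).instSubsingleton
  set Q := (P : Subgroup K).map K.subtype with hQdef
  have hall : ∀ g ∈ c.CU, ∀ k : ℕ, g ^ 3 ^ k = 1 → g ∈ Q := by
    intro g hg k hk
    have hgK : g ∈ K := (hK g).2 ⟨hg, Odd.of_dvd_nat (Odd.pow (by decide)) (orderOf_dvd_of_pow_eq_one hk)⟩
    obtain ⟨i, -, hi⟩ := (Nat.dvd_prime_pow Nat.prime_three).1 (orderOf_dvd_of_pow_eq_one hk)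
    obtain ⟨P', hP'⟩ := (IsPGroup.of_card (p := 3) (n := i) (G := zpowers (⟨g, hgK⟩ : K)) (by
      rw [Nat.card_zpowers, Subgroup.orderOf_mk, hi])).exists_le_sylow
    rw [Subsingleton.elim P' P] at hP'
    exact ⟨⟨g, hgK⟩, hP' (mem_zpowers _), rfl⟩
  have hQK : Q ≤ K := map_subtype_le _
  refine ⟨Q, P.2.map _, ?_, fun g hg => ((hK g).1 (hQK hg)).1, hall, fun a ha b hb => hcomm a (hQK ha) b (hQK hb), ?_⟩
  · exact fun z hz => ⟨⟨z, hUK hz⟩, hUP (mem_subgroupOf.2 hz), rfl⟩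
  intro P2 hP2 hP2N
  set B : Subgroup G := zpowers c.t ⊔ c.BU with hB
  have hBK : B ≤ normalizer (K : Set G) := by
    refine sup_le (zpowers_le.2 htK) fun n hn => mem_normalizer_of_map _ fun g hg => (hK _).2
      ⟨c.norm_CU (sup_le le_normalizer c.BU_inner hn) ((hK g).1 hg).1, by
        rw [← MulAut.conj_apply, MulEquiv.orderOf_eq]; exact ((hK g).1 hg).2⟩
  -- every element of `N(U)` lies in `K B`
  have hsub : normalizer (c.UG : Set G) ≤ K ⊔ B := by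
    intro n hn
    -- move `t` back
    have hw : n * c.t * n⁻¹ ∈ c.CU := c.norm_CU hn c.t_CU
    have hwo : orderOf (n * c.t * n⁻¹) = 2 := by
      rw [← MulAut.conj_apply, MulEquiv.orderOf_eq, c.C.S.ht]
    obtain ⟨a, ha, hconj⟩ : ∃ a ∈ K, a * (n * c.t * n⁻¹) * a⁻¹ = c.t := by
      have htw : c.t * (n * c.t * n⁻¹) ∈ K := by
        rcases hKt _ hw with h | h
        · exact absurd ((hK _).1 h).2 (by rw [hwo]; decide)
        · exact h
      set w := n * c.t * n⁻¹ with hwdef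
      set z := c.t * w with hz
      have hw2 : w * w = 1 := by rw [← pow_two, ← hwo]; exact pow_orderOf_eq_one _
      obtain ⟨k, hk⟩ := sq_pow ((hK z).1 htw).2
      refine ⟨z ^ k, pow_mem htw k, ?_⟩
      have hinv : w * z * w⁻¹ = z⁻¹ := by
        have hwi : w⁻¹ = w := inv_eq_of_mul_eq_one_left hw2
        have hti : c.t⁻¹ = c.t := inv_eq_of_mul_eq_one_left c.C.S.sq_t
        rw [hz]
        clear_value w
        calc w * (c.t * w) * w⁻¹ = w * c.t := by group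
          _ = w⁻¹ * c.t⁻¹ := by rw [hwi, hti]
          _ = (c.t * w)⁻¹ := by group
      have e : w * (z ^ k)⁻¹ = z ^ k * w := by
        rw [← mul_inv_eq_iff_eq_mul, show w * (z ^ k)⁻¹ * w⁻¹ = (w * z ^ k * w⁻¹)⁻¹ by group, ← conj_pow, hinv,
          inv_pow, inv_inv]
      rw [mul_assoc, e, ← mul_assoc, ← pow_two, ← pow_mul, mul_comm k 2, pow_mul, ← hk, hz, mul_assoc, hw2, mul_one]
    set m := a * n with hm
    have hmN : m ∈ normalizer (c.UG : Set G) := mul_mem (mem_normalizer_of_map _ fun z hz => by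
      rw [central a ha z hz, mul_inv_cancel_right]; exact hz) hn
    have hmt : m * c.t = c.t * m := by
      rw [← mul_inv_eq_iff_eq_mul, hm, show a * n * c.t * (a * n)⁻¹ = a * (n * c.t * n⁻¹) * a⁻¹ by group, hconj]
    have hmB : m ∈ B := by
      obtain ⟨w, hw'⟩ := (mem_normalizer_iff.1 hmN _).1 (show c.u 1 ∈ c.UG from ⟨1, rfl⟩)
      rcases c.C.S.split (c.C.S.mem_C.2 hmt) with h | h
      · exact mem_sup_right (c.mem_BU h one_ne_zero hw'.symm)
      · have h1 := c.mem_BU h one_ne_zero (v := 1) (w := w) (by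
          rw [show c.C.S.t * m * c.u 1 * (c.C.S.t * m)⁻¹ = c.t * (m * c.u 1 * m⁻¹) * c.t⁻¹ by group, ← hw', ← c.u_t w,
            mul_inv_cancel_right])
        rw [show m = c.t * (c.C.S.t * m) by rw [← mul_assoc, c.C.S.sq_t, one_mul]]
        exact mul_mem (mem_sup_left (mem_zpowers _)) (mem_sup_right h1)
    rw [show n = a⁻¹ * m by rw [hm]; group]
    exact mul_mem (mem_sup_left (inv_mem ha)) (mem_sup_right hmB)
  -- counting
  have hKB := Solv.card_sup_mul_card_inf' K B hBK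
  have hUB : 3 ^ c.ee ∣ Nat.card (K ⊓ B : Subgroup G) := by
    rw [← c.card_UG]; exact card_dvd_of_le (le_inf hUK (le_sup_of_le_right le_sup_left))
  have hBcard : Nat.card B ∣ 2 * (3 ^ c.ee * (Nat.card c.DG * c.ee)) := by
    have hn : c.BU ≤ normalizer (zpowers c.t : Set G) := by
      have htc : ∀ g ∈ c.BU, g * c.t = c.t * g := by
        have : c.BU ≤ centralizer ({c.t} : Set G) := sup_le (fun g hg => mem_centralizer_singleton_iff.2 (c.UG_t hg))
          (sup_le (by rintro _ ⟨b, rfl⟩; exact mem_centralizer_singleton_iff.2 (c.d_t b))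
            fun g hg => mem_centralizer_singleton_iff.2 (c.C.Phi_t hg))
        exact fun g hg => mem_centralizer_singleton_iff.1 (this hg)
      refine fun g hg => mem_normalizer_of_map _ fun z hz => ?_
      obtain ⟨i, rfl⟩ := hz
      show g * c.t ^ i * g⁻¹ ∈ _
      rw [((show Commute g c.t from htc g hg).zpow_right i).eq, mul_inv_cancel_right]
      exact ⟨i, rfl⟩
    refine (Dvd.intro _ (Solv.card_sup_mul_card_inf' _ _ hn)).trans ?_
    rw [Nat.card_zpowers, c.C.S.ht]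
    exact Nat.mul_dvd_mul_left _ c.card_BU
  have h1 : Nat.card P2 * 3 ^ c.ee ∣ Nat.card K * (2 * (3 ^ c.ee * (Nat.card c.DG * c.ee))) :=
    ((Nat.mul_dvd_mul (card_dvd_of_le (hP2N.trans hsub)) hUB).trans (dvd_of_eq hKB)).trans
      (Nat.mul_dvd_mul_left _ hBcard)
  rw [show Nat.card K * (2 * (3 ^ c.ee * (Nat.card c.DG * c.ee))) =
    Nat.card K * (2 * Nat.card c.DG * c.ee) * 3 ^ c.ee by ring] at h1
  have h2 := Nat.dvd_of_mul_dvd_mul_right (pow_pos (by norm_num) _) h1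
  -- the 3-part
  have hKP : Nat.card K = Nat.card Q * (P : Subgroup K).index := by
    rw [hQdef, card_map_of_injective K.subtype_injective]; exact ((P : Subgroup K).card_mul_index).symm
  obtain ⟨k, hk⟩ := IsPGroup.iff_card.1 hP2
  have hco : Nat.Coprime (Nat.card P2) ((P : Subgroup K).index * (2 * Nat.card c.DG)) := by
    rw [hk]
    refine Nat.Coprime.pow_left k (Nat.Coprime.mul_right ?_ (Nat.Coprime.mul_right (by norm_num) ?_))
    · exact (Nat.Prime.coprime_iff_not_dvd Nat.prime_three).2 P.not_dvd_index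
    · exact Nat.Coprime.coprime_dvd_left ⟨2, rfl⟩ c.card_DG_coprime
  rw [hKP, ← c.t3_mul_mm, show Nat.card Q * (P : Subgroup K).index * (2 * Nat.card c.DG * (c.t3 * c.mm)) =
    (P : Subgroup K).index * (2 * Nat.card c.DG) * c.mm * (Nat.card Q * c.t3) by ring] at h2
  exact (hco.mul_right (hk ▸ Nat.Coprime.pow_left k ((Nat.Prime.coprime_iff_not_dvd Nat.prime_three).2
    c.not_three_mm))).dvd_of_dvd_mul_left h2

/-- No conjugate of `f ^ (e / 3)` lies in `U`. -/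
theorem U_hno : ∀ g : G, g * c.f1 * g⁻¹ ∉ c.UG := by
  classical
  rintro g ⟨v, hv⟩
  haveI := Fact.mk Nat.prime_two
  have hf1 : c.f1 ∈ c.C.PhiG := pow_mem c.f_mem _
  have hv0 : v ≠ 0 := by
    rintro rfl
    rw [c.u_zero, eq_comm, conj_eq_one_iff, f1, c.f_pow_eq_one] at hv
    have := Nat.le_of_dvd (Nat.div_pos c.three_le (by norm_num)) hv
    have := c.ee_div
    have := c.three_le
    omega
  set X := centralizer ({c.u v} : Set G)
  have htX : c.t ∈ X := mem_centralizer_singleton_iff.2 (c.u_t v).symm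
  obtain ⟨K, hKo, hK, hKt⟩ := c.odd_core X htX fun z hz hzK =>
    c.BU_odd.of_dvd_nat (c.BU.orderOf_dvd_natCard (c.mem_BU hzK hv0 (w := v) (by
      rw [mem_centralizer_singleton_iff.1 hz, mul_inv_cancel_right])))
  have hS : ∀ a ∈ c.C.Syl, g * a * g⁻¹ ∈ X := fun a ha => mem_centralizer_singleton_iff.2 (by
    rw [show c.u v = g * c.f1 * g⁻¹ from hv, show g * a * g⁻¹ * (g * c.f1 * g⁻¹) = g * (a * c.f1) * g⁻¹ by group,
      ← (c.C.Syl_Phi ha hf1).eq]
    group)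
  -- three involutions in a group with a normal subgroup of odd order and index two
  have hnotK : ∀ a ∈ c.C.Syl, a ≠ 1 → g * a * g⁻¹ ∉ K := fun a ha ha1 h => by
    have h2 := ((hK _).1 h).2
    rw [← MulAut.conj_apply, MulEquiv.orderOf_eq, orderOf_eq_prime (by rw [pow_two]; exact c.C.Syl_sq ha) ha1] at h2
    exact absurd h2 (by decide)
  have hmem : ∀ a ∈ c.C.Syl, a ≠ 1 → c.t * (g * a * g⁻¹) ∈ K := fun a ha ha1 =>
    (hKt _ (hS a ha)).resolve_left (hnotK a ha ha1)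
  have sS := c.C.V_le_Syl c.C.s_mem_V
  have tS := c.C.V_le_Syl c.C.t_mem_V
  have hts : c.t ≠ c.C.s := fun e => c.C.S.t_not_mem (by rw [show c.C.S.t = c.C.s from e]; exact c.C.embL_mem_K _)
  have hne : c.t * c.C.s ≠ 1 := fun e => hts (by
    rw [mul_eq_one_iff_eq_inv, inv_eq_of_mul_eq_one_left c.C.sq_s] at e; exact e)
  refine hnotK _ (mul_mem tS sS) hne ?_
  have h1 := mul_mem (inv_mem (hmem _ tS c.C.t_ne)) (hmem _ sS c.C.s_ne)
  rwa [show (c.t * (g * c.t * g⁻¹))⁻¹ * (c.t * (g * c.C.s * g⁻¹)) = g * (c.t⁻¹ * c.C.s) * g⁻¹ by group,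
    inv_eq_of_mul_eq_one_left c.C.S.sq_t] at h1

end Cfg

end Cfsg.Agent.Walter.JR.Res3
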