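import Cfsg.Agent.Lib.Walter.JR.Res3.Base
import Cfsg.Agent.Lib.Classical.Dickson.Tools
import Cfsg.Agent.Lib.GW.Meet

/-!
# `C(Φ)`, part one: the centraliser of `t` in it and the normaliser of `S`
-/

set_option autoImplicit false
set_option linter.unusedSectionVars false
set_option linter.style.haveILetI false

namespace Cfsg.Agent.Walter.JR.Res3

open Subgroup Cfsg.Agent.Char.ReeThree Cfsg.Agent.Char.ReeOrder Cfsg.Agent.Small

universe u

namespace Base

variable {G : Type u} [Group G] [Finite G] {F : Type} [Field F] [Fintype F] (c : Base G F)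

/-- `C(Φ)`. -/
abbrev H : Subgroup G := centralizer (c.C.PhiG : Set G)

theorem mem_H {g : G} : g ∈ c.H ↔ ∀ h ∈ c.C.PhiG, h * g = g * h := mem_centralizer_iff

theorem NS_le : c.C.NS ≤ c.H := fun _ hn => c.mem_H.2 fun _ hf => (c.C.NS_fix hn hf).symm

theorem Phi_le : c.C.PhiG ≤ c.H := fun _ hf => c.mem_H.2 fun _ hg => c.C.Phi_comm hg hf

theorem Syl_le : c.C.Syl ≤ c.H := fun _ hx => c.mem_H.2 fun _ hf => (c.C.Syl_Phi hx hf).eq

theorem mem_H_of_f {g : G} (h : c.f * g = g * c.f) : g ∈ c.H := c.mem_H.2 fun y hy => by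
  rw [← c.gen] at hy
  obtain ⟨k, rfl⟩ := hy
  exact ((show Commute c.f g from h).zpow_left k).eq

include c in
theorem card_F0 : Nat.card c.C.F0 = 3 := by
  rw [← c.fix_card]
  refine Nat.card_congr (Equiv.subtypeEquivRight fun v => ⟨fun h => ?_, fun h y => ?_⟩)
  · obtain ⟨y, hy, hf⟩ := c.f_mem
    rw [← hf, show c.C.S.K.subtype y = (((⟨y, hy⟩ : c.C.Phi) : c.C.S.K) : G) from rfl, c.sig_eq]
    exact h ⟨y, hy⟩
  · have hy : ((y : c.C.S.K) : G) ∈ zpowers c.f := by rw [c.gen]; exact ⟨_, y.2, rfl⟩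
    rw [← mem_powers_iff_mem_zpowers] at hy
    obtain ⟨n, hn⟩ := hy
    show c.C.alpha y v = v
    rw [← c.sig_eq, ← show c.f ^ n = ((y : c.C.S.K) : G) from hn, c.sig_pow c.f_mem]
    clear hn
    induction n with
    | zero => rfl
    | succ n ih => rw [pow_succ]; show (c.sig c.f ^ n) (c.sig c.f v) = v; rw [h, ih]

include c in
theorem B0_bot : c.C.B0 = ⊥ := by
  refine (eq_bot_iff_forall _).2 fun y hy => ?_
  by_contra h
  have := c.C.F0_q5 hy h
  rw [c.card_F0] at this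
  omega

include c in
theorem card_L0 : Nat.card c.C.L0 = 12 := by
  classical
  obtain ⟨e⟩ := c.C.L0_iso
  have hF : Fintype.card c.C.F0 = 3 := by rw [← Nat.card_eq_fintype_card, c.card_F0]
  have h := Classical.Dickson.card_psl c.C.F0
  rw [hF, show Nat.gcd 2 (3 - 1) = 2 from rfl] at h
  rw [Nat.card_congr e.toEquiv]
  omega

/-- `C_L(Φ)` normalises `S`. -/
theorem L0_NS {l : c.C.L} (hl : l ∈ c.C.L0) : c.C.embL l ∈ c.C.NS := by
  haveI := Fact.mk Nat.prime_two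
  set T : Subgroup c.C.L := c.C.NS.comap c.C.embL ⊓ c.C.L0 with hT
  have mem : ∀ x : c.C.L, c.C.embL x ∈ c.C.NS → c.C.embL x ∈ c.H → x ∈ T := fun x h1 h2 =>
    Subgroup.mem_inf.2 ⟨mem_comap.2 h1, fun f hf => c.mem_H.1 h2 f hf⟩
  have hs : c.C.D.s ∈ T := mem _ (le_normalizer (c.C.V_le_Syl c.C.s_mem_V)) (c.Syl_le (c.C.V_le_Syl c.C.s_mem_V))
  obtain ⟨u', hu', hu0⟩ : ∃ u' : c.C.L, u' ∈ T ∧ c.C.embL u' = c.C.u0 :=
    ⟨_, mem _ (le_normalizer c.C.u0_mem_Syl) (c.Syl_le c.C.u0_mem_Syl), rfl⟩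
  obtain ⟨h', hh', hth⟩ : ∃ h' : c.C.L, h' ∈ T ∧ c.C.embL h' = c.C.th :=
    ⟨_, mem _ c.C.th_NS (c.NS_le c.C.th_NS), rfl⟩
  have hdvd : Nat.card T ∣ 12 := c.card_L0 ▸ card_dvd_of_le inf_le_right
  have hsu : c.C.s ≠ c.C.u0 := fun e => by
    have h := c.C.th_s
    rw [← e] at h
    have h' := c.C.th_u0
    rw [← e, h, c.C.sq_s] at h'
    exact c.C.s_ne h'
  have h3 : 3 ∣ Nat.card T := by
    have h'3 : h' ^ 3 = 1 := c.C.embL_inj (by rw [map_pow, hth, c.C.th3, map_one])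
    have h'1 : h' ≠ 1 := fun e => hsu (by
      rw [e, map_one] at hth
      rw [← c.C.th_s, ← hth, one_mul, inv_one, mul_one])
    haveI := Fact.mk Nat.prime_three
    rw [← orderOf_eq_prime h'3 h'1]
    exact T.orderOf_dvd_natCard hh'
  set Q : Subgroup c.C.L := T ⊓ c.C.Syl.comap c.C.embL with hQ
  have hQ2 : IsPGroup 2 Q := fun x => ⟨1, Subtype.ext (c.C.embL_inj (by
    rw [Subgroup.coe_pow, map_pow, pow_one, pow_two, c.C.Syl_sq (mem_comap.1 (Subgroup.mem_inf.1 x.2).2),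
      Subgroup.coe_one, map_one]))⟩
  obtain ⟨k, hk⟩ := IsPGroup.iff_card.1 hQ2
  have hQ3 : 2 < Nat.card Q := by
    haveI := Fintype.ofFinite Q
    rw [Nat.card_eq_fintype_card, Fintype.two_lt_card_iff]
    refine ⟨1, ⟨c.C.D.s, hs, c.C.V_le_Syl c.C.s_mem_V⟩, ⟨u', hu', (show c.C.embL u' ∈ c.C.Syl by rw [hu0]; exact c.C.u0_mem_Syl)⟩,
      fun e => c.C.s_ne ?_, fun e => c.C.u0_ne ?_, fun e => hsu ?_⟩
    · have := congrArg (fun z : Q => c.C.embL (z : c.C.L)) e
      simpa using this.symm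
    · have := congrArg (fun z : Q => c.C.embL (z : c.C.L)) e
      simpa [hu0] using this.symm
    · have := congrArg (fun z : Q => c.C.embL (z : c.C.L)) e
      simpa [hu0] using this
  have hk2 : 2 ≤ k := by
    by_contra hlt
    interval_cases k <;> omega
  have h4 : 4 ∣ Nat.card T := by
    refine Dvd.dvd.trans ?_ (card_dvd_of_le (inf_le_left : Q ≤ T))
    rw [hk]; exact pow_dvd_pow 2 hk2
  have h12 : Nat.card T = 12 := by
    have h12' : 12 ∣ Nat.card T := by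
      have := Nat.Coprime.mul_dvd_of_dvd_of_dvd (by norm_num : Nat.Coprime 3 4) h3 h4
      simpa using this
    exact Nat.dvd_antisymm hdvd h12'
  have hTL : T = c.C.L0 := eq_of_le_of_card_ge inf_le_right (by rw [h12, c.card_L0])
  rw [← hTL] at hl
  exact (Subgroup.mem_inf.1 hl).1

/-- The elements of `C(t) ∩ C(Φ)` are `v l h`. -/
theorem cent_t_cases {x : G} (hx : x ∈ c.H) (hxt : x * c.t = c.t * x) :
    ∃ v : G, (v = 1 ∨ v = c.t) ∧ ∃ l ∈ c.C.L0, ∃ h ∈ c.C.PhiG, x = v * c.C.embL l * h := by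
  obtain ⟨v, hv, l, f, hf, e⟩ := c.C.cent_t hxt
  refine ⟨v, hv, l, fun f' hf' => ?_, f, hf, e⟩
  have hvc : Commute f' v := by
    rcases hv with rfl | rfl
    exacts [Commute.one_right _, c.C.Phi_t hf']
  have hc : Commute f' (v⁻¹ * x * f⁻¹) :=
    (hvc.inv_right.mul_right (c.mem_H.1 hx f' hf')).mul_right (show Commute f' f from c.C.Phi_comm hf' hf).inv_right
  rwa [e, show v⁻¹ * (v * c.C.embL l * f) * f⁻¹ = c.C.embL l by group] at hc

/-- `C(t) ∩ C(Φ)` normalises `S`. -/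
theorem cent_t_NS {x : G} (hx : x ∈ c.H) (hxt : x * c.t = c.t * x) : x ∈ c.C.NS := by
  obtain ⟨v, hv, l, hl, f, hf, rfl⟩ := c.cent_t_cases hx hxt
  refine mul_mem (mul_mem ?_ (c.L0_NS hl)) (mem_normalizer_of_map _ fun a ha => ?_)
  · rcases hv with rfl | rfl
    exacts [one_mem _, le_normalizer (c.C.V_le_Syl c.C.t_mem_V)]
  · rw [(c.C.Syl_Phi ha hf).eq, mul_inv_cancel_right]; exact ha

/-- Conjugation inside `C(Φ)` of involutions of `S`. -/
theorem exists_to_t {w : G} (hw : w ∈ c.C.Syl) (hw1 : w ≠ 1) : ∃ n ∈ c.C.NS, n * w * n⁻¹ = c.t :=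
  c.C.exists_NS hw (c.C.V_le_Syl c.C.t_mem_V) hw1 c.C.t_ne

/-- The centralisers in `C(Φ)` of the involutions of `S` normalise `S`. -/
theorem cent_inv {w x : G} (hw : w ∈ c.C.Syl) (hw1 : w ≠ 1) (hx : x ∈ c.H) (hxw : x * w = w * x) : x ∈ c.C.NS := by
  obtain ⟨n, hn, e⟩ := c.exists_to_t hw hw1
  have h := c.cent_t_NS (mul_mem (mul_mem (c.NS_le hn) hx) (inv_mem (c.NS_le hn))) (by
    rw [← e, show n * x * n⁻¹ * (n * w * n⁻¹) = n * (x * w) * n⁻¹ by group, hxw]; group)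
  simpa [mul_assoc] using mul_mem (mul_mem (inv_mem hn) h) hn

/-- An element of odd order of `C(Φ)` centralising `t` and `s` lies in `Φ`. -/
theorem odd_cent_W {x : G} (hx : x ∈ c.H) (ht : x * c.t = c.t * x) (hs : x * c.C.s = c.C.s * x)
    (ho : Odd (orderOf x)) : x ∈ c.C.PhiG := by
  obtain ⟨β, hβ, f, hf, e⟩ := c.C.mem_BP.1 (c.C.odd_cent_V ht hs ho)
  have hb : β ∈ c.C.B0 := Subgroup.mem_inf.2 ⟨hβ, mem_centralizer_iff.2 fun f' hf' => by
    have hc : Commute f' (x * f⁻¹) :=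
      (show Commute f' x from c.mem_H.1 hx f' hf').mul_right (show Commute f' f from c.C.Phi_comm hf' hf).inv_right
    rwa [e, mul_inv_cancel_right] at hc⟩
  rw [c.B0_bot, mem_bot] at hb
  rw [e, hb, one_mul]; exact hf

/-- A subgroup of odd order of `C(Φ)` normalised by `t` and `s` lies in `Φ`. -/
theorem odd_invariant [IsSimpleGroup G] {K : Subgroup G} (hK : K ≤ c.H) (ho : Odd (Nat.card K))
    (ht : c.t ∈ normalizer (K : Set G)) (hs : c.C.s ∈ normalizer (K : Set G)) : K ≤ c.C.PhiG := by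
  have tS := c.C.V_le_Syl c.C.t_mem_V
  have sS := c.C.V_le_Syl c.C.s_mem_V
  -- an element of `K` normalising `S` commutes with what normalises `K`
  have key : ∀ x ∈ K, x ∈ c.C.NS → ∀ a ∈ c.C.Syl, a ∈ normalizer (K : Set G) → x * a = a * x := by
    intro x hx hxS a ha haK
    have h1 : x * a * x⁻¹ * a⁻¹ ∈ c.C.Syl := mul_mem ((mem_normalizer_iff.1 hxS a).1 ha) (inv_mem ha)
    have h2 : x * a * x⁻¹ * a⁻¹ ∈ K := by
      rw [show x * a * x⁻¹ * a⁻¹ = x * (a * x⁻¹ * a⁻¹) by group]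
      exact mul_mem hx ((mem_normalizer_iff.1 haK _).1 (inv_mem hx))
    have h3 : x * a * x⁻¹ * a⁻¹ = 1 := by
      rw [← orderOf_eq_one_iff]
      exact Nat.eq_one_of_dvd_coprimes ho.coprime_two_left
        (orderOf_dvd_of_pow_eq_one (by rw [pow_two]; exact c.C.Syl_sq h1)) (K.orderOf_dvd_natCard h2)
    rw [mul_inv_eq_one, mul_inv_eq_iff_eq_mul] at h3
    exact h3
  have hts : c.t ≠ c.C.s := fun e =>
    c.C.S.t_not_mem (by rw [show c.C.S.t = c.C.s from e]; exact c.C.embL_mem_K _)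
  have hgen : K ≤ centralizer ({c.t} : Set G) := by
    refine GW.four_gen c.C.S.sq_t c.C.sq_s c.C.s_t.symm c.C.t_ne c.C.s_ne hts.symm ho ht hs ?_ ?_
    · exact fun x hx hxs => key x hx (c.cent_inv sS c.C.s_ne (hK hx) hxs) _ tS ht
    · intro x hx hxts
      have hne : c.t * c.C.s ≠ 1 := fun e => hts (by
        rw [mul_eq_one_iff_eq_inv, inv_eq_of_mul_eq_one_left c.C.sq_s] at e; exact e)
      exact key x hx (c.cent_inv (mul_mem tS sS) hne (hK hx) hxts) _ tS ht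
  intro x hx
  have hxt := mem_centralizer_singleton_iff.1 (hgen hx)
  exact c.odd_cent_W (hK hx) hxt (key x hx (c.cent_t_NS (hK hx) hxt) _ sS hs)
    (ho.of_dvd_nat (K.orderOf_dvd_natCard hx))

/-! ### Orders -/

/-- `|C(t) ∩ C(Φ)| = 24 e`. -/
theorem card_cent_t : Nat.card (centralizer ({c.t} : Set G) ⊓ c.H : Subgroup G) = 24 * c.ee := by
  classical
  set X : Subgroup G := centralizer ({c.t} : Set G) ⊓ c.H
  have htX : c.t ∈ X := Subgroup.mem_inf.2 ⟨mem_centralizer_singleton_iff.2 rfl, c.Syl_le (c.C.V_le_Syl c.C.t_mem_V)⟩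
  have hl : ∀ l ∈ c.C.L0, c.C.embL l ∈ X := fun l hl => Subgroup.mem_inf.2
    ⟨mem_centralizer_singleton_iff.2 (c.C.embL_t l), c.mem_H.2 fun f hf => hl f hf⟩
  have hf : ∀ h ∈ c.C.PhiG, h ∈ X := fun h hh => Subgroup.mem_inf.2
    ⟨mem_centralizer_singleton_iff.2 (c.C.Phi_t hh), c.Phi_le hh⟩
  let g : Bool × c.C.L0 × c.C.PhiG → X := fun p =>
    ⟨(if p.1 then c.t else 1) * c.C.embL p.2.1 * p.2.2, mul_mem (mul_mem (by
      split_ifs
      exacts [htX, one_mem _]) (hl _ p.2.1.2)) (hf _ p.2.2.2)⟩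
  have hg : Function.Bijective g := by
    constructor
    · rintro ⟨b, l, h⟩ ⟨b', l', h'⟩ e
      have e' := congrArg Subtype.val e
      simp only [g] at e'
      have hk : ∀ (l : c.C.L0) (h : c.C.PhiG), c.C.embL l * (h : G) ∈ c.C.S.K := fun l h =>
        mul_mem (c.C.embL_mem_K _) (c.C.Phi_K h.2)
      rw [mul_assoc, mul_assoc] at e'
      have hb : b = b' := by
        cases b <;> cases b' <;> simp only [if_true, if_false, Bool.false_eq_true, one_mul] at e' <;> try rfl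
        · exact absurd (e' ▸ hk l h) (c.C.S.not_both (hk l' h'))
        · exact absurd (e'.symm ▸ hk l' h') (c.C.S.not_both (hk l h))
      subst hb
      have e2 := mul_left_cancel e'
      have e3 : c.C.embL ((l' : c.C.L)⁻¹ * l) ∈ c.C.PhiG := by
        rw [map_mul, map_inv, show (c.C.embL l')⁻¹ * c.C.embL l = (c.C.embL l')⁻¹ * (c.C.embL l * h) * (h : G)⁻¹ by
          group, e2, inv_mul_cancel_left]
        exact mul_mem h'.2 (inv_mem h.2)
      have el : l = l' := Subtype.ext (inv_mul_eq_one.1 (c.C.L_inter_Phi e3)).symm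
      subst el
      rw [Subtype.ext (mul_left_cancel e2)]
    · rintro ⟨x, hx⟩
      obtain ⟨v, hv, l, hl', h, hh, e⟩ :=
        c.cent_t_cases (Subgroup.mem_inf.1 hx).2 (mem_centralizer_singleton_iff.1 (Subgroup.mem_inf.1 hx).1)
      rcases hv with rfl | rfl
      · exact ⟨(false, ⟨l, hl'⟩, ⟨h, hh⟩), Subtype.ext (by simp [g, e])⟩
      · exact ⟨(true, ⟨l, hl'⟩, ⟨h, hh⟩), Subtype.ext (by simp [g, e])⟩
  rw [← Nat.card_eq_of_bijective g hg, Nat.card_prod, Nat.card_prod, c.card_L0, c.C.card_PhiG, Frame.e, c.eq,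
    Nat.card_eq_fintype_card, Fintype.card_bool]
  ring

/-- `|S| = 8`. -/
theorem card_Syl : Nat.card c.C.Syl = 8 := by
  haveI := Fact.mk Nat.prime_two
  set X : Subgroup G := centralizer ({c.t} : Set G) ⊓ c.H
  have hle : c.C.Syl ≤ X := fun a ha => Subgroup.mem_inf.2 ⟨mem_centralizer_singleton_iff.2
    (Solv.AbelianTwo.commute_of_mem c.C.hab c.C.sylow.2 ha (c.C.V_le_Syl c.C.t_mem_V)).eq, c.Syl_le ha⟩
  have h := (c.C.sylow.subtype hle).card_eq_multiplicity
  rw [c.card_cent_t] at h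
  have h24 : (24 * c.ee).factorization 2 = 3 := by
    rw [show 24 * c.ee = 2 ^ 3 * (3 * c.ee) by ring, Nat.factorization_mul (by norm_num) (by have := c.ee_pos; omega),
      Finsupp.add_apply, Nat.Prime.factorization_pow Nat.prime_two, Finsupp.single_eq_same,
      Nat.factorization_eq_zero_of_not_dvd (by have := Nat.odd_iff.1 c.hodd; omega)]
  rw [h24] at h
  exact (Nat.card_congr (subgroupOfEquivOfLe hle).toEquiv).symm.trans h

/-- `|N(S)| = 168 e`. -/
theorem card_NS : Nat.card c.C.NS = 168 * c.ee := by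
  classical
  letI : MulAction c.C.NS G := MulAction.compHom G ((ConjAct.toConjAct (G := G)).toMonoidHom.comp c.C.NS.subtype)
  have hsmul : ∀ (n : c.C.NS) (x : G), n • x = (n : G) * x * (n : G)⁻¹ := fun n x => ConjAct.smul_def _ _
  have horb : MulAction.orbit c.C.NS c.t = {x | x ∈ c.C.Syl ∧ x ≠ 1} := by
    ext x
    constructor
    · rintro ⟨n, rfl⟩
      show n • c.t ∈ c.C.Syl ∧ n • c.t ≠ 1
      rw [hsmul]
      exact ⟨(mem_normalizer_iff.1 n.2 _).1 (c.C.V_le_Syl c.C.t_mem_V), fun e => c.C.t_ne (conj_eq_one_iff.1 e)⟩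
    · rintro ⟨hx, hx1⟩
      obtain ⟨n, hn, e⟩ := c.C.exists_NS (c.C.V_le_Syl c.C.t_mem_V) hx c.C.t_ne hx1
      exact ⟨⟨n, hn⟩, (hsmul ⟨n, hn⟩ c.t).trans e⟩
  have hc7 : Nat.card (MulAction.orbit c.C.NS c.t) = 7 := by
    rw [horb, Nat.card_coe_set_eq, show {x | x ∈ c.C.Syl ∧ x ≠ 1} = (c.C.Syl : Set G) \ {1} by ext; simp,
      Set.ncard_sdiff_singleton_of_mem c.C.Syl.one_mem, ← Nat.card_coe_set_eq,
      show Nat.card (c.C.Syl : Set G) = 8 from c.card_Syl]
  have hst : Nat.card (MulAction.stabilizer c.C.NS c.t) = 24 * c.ee := by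
    rw [← c.card_cent_t]
    refine Nat.card_congr
      { toFun := fun n => ⟨(n.1 : G), Subgroup.mem_inf.2 ⟨mem_centralizer_singleton_iff.2 (by
          have := MulAction.mem_stabilizer_iff.1 n.2
          rw [hsmul, mul_inv_eq_iff_eq_mul] at this
          exact this), c.NS_le n.1.2⟩⟩
        invFun := fun x => ⟨⟨x, c.cent_t_NS (Subgroup.mem_inf.1 x.2).2
          (mem_centralizer_singleton_iff.1 (Subgroup.mem_inf.1 x.2).1)⟩, MulAction.mem_stabilizer_iff.2 (by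
            rw [hsmul, mul_inv_eq_iff_eq_mul]
            exact mem_centralizer_singleton_iff.1 (Subgroup.mem_inf.1 x.2).1)⟩
        left_inv := fun n => rfl
        right_inv := fun x => rfl }
  rw [← (MulAction.stabilizer c.C.NS c.t).card_mul_index, hst, MulAction.index_stabilizer, ← Nat.card_coe_set_eq, hc7]
  ring

end Base

end Cfsg.Agent.Walter.JR.Res3
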