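import Cfsg.Agent.Lib.Walter.JR.Res3.XBasic
import Cfsg.Agent.S3188
import Cfsg.Agent.Lib.Bender.Count
import Cfsg.Agent.Lib.Fusion.Product.Functor
import Cfsg.Agent.S0810

/-!
# `C(Φ)`, part two: the order

`O(C(Φ)) = Φ`; either `S` is normal or `C(Φ)/Φ` has a normal `L₂(8)`; in both cases there are one or nine Sylow
2-subgroups.
-/

set_option autoImplicit false
set_option linter.unusedSectionVars false
set_option linter.style.haveILetI false

namespace Cfsg.Agent.Walter.JR.Res3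

open Subgroup Cfsg.Agent.Char.ReeThree Cfsg.Agent.Char.ReeOrder Cfsg.Agent.Small

universe u

/-- A non-trivial solvable group has a non-trivial abelian normal subgroup. -/
theorem exists_comm_normal {X : Type u} [Group X] [Nontrivial X] (hX : Group.IsSolvable X) :
    ∃ N : Subgroup X, N.Normal ∧ N ≠ ⊥ ∧ ∀ x ∈ N, ∀ y ∈ N, Commute x y := by
  classical
  haveI := hX
  have h : ∃ n, derivedSeries X n = ⊥ := (Group.isSolvable_def X).1 inferInstance
  have h0 : Nat.find h ≠ 0 := fun h0 => by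
    have h1 := Nat.find_spec h
    rw [h0, derivedSeries_zero] at h1
    exact top_ne_bot h1
  obtain ⟨k, hk⟩ := Nat.exists_eq_succ_of_ne_zero h0
  refine ⟨derivedSeries X k, inferInstance, Nat.find_min h (by omega), fun x hx y hy => ?_⟩
  have h1 := Nat.find_spec h
  rw [hk, derivedSeries_succ, Subgroup.commutator_eq_bot_iff_le_centralizer] at h1
  exact (Subgroup.mem_centralizer_iff.1 (h1 hx) y hy).symm

/-- `8` divides `q (q² - 1) / gcd (2, q - 1)` and `16` does not: then `q = 8` among the admissible `q`. -/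
theorem psl_two_part {q N : ℕ} (hN : N * Nat.gcd 2 (q - 1) = q * (q ^ 2 - 1)) (h8 : 8 ∣ N) (h16 : ¬ 16 ∣ N)
    (hq : ((q % 8 = 3 ∨ q % 8 = 5) ∧ 5 ≤ q) ∨ ∃ n : ℕ, 2 ≤ n ∧ q = 2 ^ n) : N = 504 := by
  rcases hq with ⟨hq8, h5⟩ | ⟨n, hn, rfl⟩
  · exfalso
    have hg : Nat.gcd 2 (q - 1) = 2 := Nat.gcd_eq_left (by omega)
    rw [hg] at hN
    have hodd : Nat.Coprime 16 q := by
      rw [show (16 : ℕ) = 2 ^ 4 by norm_num]
      exact Nat.Coprime.pow_left 4 (Nat.coprime_two_left.2 (Nat.odd_iff.2 (by omega)))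
    have h1 : 16 ∣ q ^ 2 - 1 := hodd.dvd_of_dvd_mul_left (by rw [← hN]; obtain ⟨k, hk⟩ := h8; exact ⟨k, by omega⟩)
    have h2 : q ^ 2 % 16 = 9 := by
      rw [Nat.pow_mod]
      have : q % 16 = 3 ∨ q % 16 = 5 ∨ q % 16 = 11 ∨ q % 16 = 13 := by omega
      rcases this with e | e | e | e <;> rw [e]
    have h3 : 1 ≤ q ^ 2 := Nat.one_le_pow _ _ (by omega)
    omega
  · have h4 : 4 ≤ 2 ^ n := le_trans (by norm_num) (Nat.pow_le_pow_right (by norm_num) hn)
    have he : Even (2 ^ n) := Nat.even_pow.2 ⟨by norm_num, by omega⟩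
    have hodd : Odd (2 ^ n - 1) := by
      rw [Nat.odd_iff]
      have := Nat.even_iff.1 he
      omega
    have hg : Nat.gcd 2 (2 ^ n - 1) = 1 := Nat.coprime_two_left.2 hodd
    rw [hg, mul_one] at hN
    have hn3 : n = 3 := by
      rcases lt_or_ge n 4 with h | h
      · interval_cases n
        · exfalso; norm_num at hN; subst hN; norm_num at h8
        · rfl
      · exfalso
        refine h16 ?_
        rw [hN]
        exact Dvd.dvd.mul_right (show 2 ^ 4 ∣ 2 ^ n from pow_dvd_pow 2 h) _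
    subst hn3
    norm_num at hN
    exact hN

namespace Base

variable {G : Type u} [Group G] [Finite G] {F : Type} [Field F] [Fintype F] (c : Base G F)

/-- `S` as a Sylow subgroup of `C(Φ)`. -/
noncomputable def P2 : Sylow 2 c.H :=
  haveI : Fact (Nat.Prime 2) := ⟨Nat.prime_two⟩
  c.C.sylow.subtype c.Syl_le

theorem mem_P2 {x : c.H} : x ∈ (c.P2 : Subgroup c.H) ↔ (x : G) ∈ c.C.Syl := Iff.rfl

/-- The involutions of `C(Φ)` are conjugate to `t` there. -/
theorem inv_conj (x : c.H) (hx : orderOf x = 2) : ∃ h : c.H, (h : G) * x * (h : G)⁻¹ = c.t := by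
  haveI := Fact.mk Nat.prime_two
  obtain ⟨T, hT⟩ := (IsPGroup.of_card (p := 2) (n := 1) (G := zpowers x) (by
    rw [Nat.card_zpowers, hx, pow_one])).exists_le_sylow
  obtain ⟨k, hk⟩ := MulAction.exists_smul_eq c.H T c.P2
  have h1 : k * x * k⁻¹ ∈ (c.P2 : Subgroup c.H) := by
    rw [← hk, Sylow.coe_subgroup_smul]; exact ⟨x, hT (mem_zpowers x), rfl⟩
  obtain ⟨n, hn, e⟩ := c.exists_to_t (c.mem_P2.1 h1) fun e => by
    rw [conj_eq_one_iff.1 (Subtype.ext e : k * x * k⁻¹ = 1), orderOf_one] at hx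
    omega
  refine ⟨⟨n, c.NS_le hn⟩ * k, ?_⟩
  rw [← e]
  simp only [Subgroup.coe_mul, Subgroup.coe_inv]
  group

/-- The centralisers of involutions in `C(Φ)` are solvable. -/
theorem cent_solvable (x : c.H) (hx : orderOf x = 2) : Group.IsSolvable (centralizer ({x} : Set c.H)) := by
  haveI := Fact.mk Nat.prime_three
  set X : Subgroup G := centralizer ({c.t} : Set G) ⊓ c.H with hX
  have hXsol : Group.IsSolvable X := by
    set N : Subgroup X := c.C.Syl.subgroupOf X with hN
    haveI : N.Normal := ⟨fun a ha g => mem_subgroupOf.2 ((mem_normalizer_iff.1 (c.cent_t_NS (Subgroup.mem_inf.1 g.2).2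
      (mem_centralizer_singleton_iff.1 (Subgroup.mem_inf.1 g.2).1)) _).1 (mem_subgroupOf.1 ha))⟩
    have hle : c.C.Syl ≤ X := fun a ha => Subgroup.mem_inf.2 ⟨mem_centralizer_singleton_iff.2
      (Solv.AbelianTwo.commute_of_mem c.C.hab c.C.sylow.2 ha (c.C.V_le_Syl c.C.t_mem_V)).eq, c.Syl_le ha⟩
    have h8 : Nat.card N = 8 := (Nat.card_congr (subgroupOfEquivOfLe hle).toEquiv).trans c.card_Syl
    have hq : Nat.card (X ⧸ N) = 3 * c.ee := by
      have h := N.card_mul_index
      rw [h8, c.card_cent_t, Subgroup.index] at h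
      omega
    haveI : Group.IsSolvable (X ⧸ N) := Bender.AbelianSolvable.odd_solvable' (by
      rw [hq]; exact (by decide : Odd 3).mul c.hodd)
    haveI : Group.IsSolvable N := Group.isSolvable_of_comm fun a b => Subtype.ext (Subtype.ext
      (Solv.AbelianTwo.commute_of_mem c.C.hab c.C.sylow.2 (mem_subgroupOf.1 a.2) (mem_subgroupOf.1 b.2)).eq)
    exact (Group.isSolvable_iff_subgroup_quotient N).2 ⟨inferInstance, inferInstance⟩
  obtain ⟨h, e⟩ := c.inv_conj x hx
  let φ : centralizer ({x} : Set c.H) →* X :=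
    (((MulAut.conj (h : G)).toMonoidHom).comp (c.H.subtype.comp (centralizer ({x} : Set c.H)).subtype)).codRestrict X
      fun y => Subgroup.mem_inf.2 ⟨mem_centralizer_singleton_iff.2 (by
        have hy : (y.1 : G) * x = (x : G) * y.1 := congrArg Subtype.val (mem_centralizer_singleton_iff.1 y.2)
        show (h : G) * (y.1 : G) * (h : G)⁻¹ * c.t = c.t * ((h : G) * (y.1 : G) * (h : G)⁻¹)
        rw [← e, show (h : G) * (y.1 : G) * (h : G)⁻¹ * ((h : G) * x * (h : G)⁻¹) =
          (h : G) * ((y.1 : G) * x) * (h : G)⁻¹ by group, hy]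
        group), mul_mem (mul_mem h.2 y.1.2) (inv_mem h.2)⟩
  exact Group.isSolvable_of_isSolvable_injective (f := φ) fun a b hab =>
    Subtype.ext (Subtype.ext ((MulAut.conj (h : G)).injective (congrArg Subtype.val hab)))

/-- `O(C(Φ)) = Φ`. -/
theorem mem_oddCore [IsSimpleGroup G] {x : c.H} : x ∈ Cfsg.oddCore c.H ↔ (x : G) ∈ c.C.PhiG := by
  constructor
  · intro hx
    have hn : ∀ g ∈ c.H, g ∈ normalizer (((Cfsg.oddCore c.H).map c.H.subtype : Subgroup G) : Set G) := fun g hg =>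
      mem_normalizer_of_map _ fun a ha => by
        obtain ⟨a, ha, rfl⟩ := ha
        exact ⟨⟨g, hg⟩ * a * ⟨g, hg⟩⁻¹, (inferInstance : (Cfsg.oddCore c.H).Normal).conj_mem a ha _, rfl⟩
    exact c.odd_invariant (map_subtype_le _)
      (by rw [card_map_of_injective c.H.subtype_injective]; exact SEB.card_oddCore_odd' _)
      (hn _ (c.Syl_le (c.C.V_le_Syl c.C.t_mem_V))) (hn _ (c.Syl_le (c.C.V_le_Syl c.C.s_mem_V)))
      ⟨x, hx, rfl⟩
  · intro hx
    haveI : (c.C.PhiG.subgroupOf c.H).Normal := ⟨fun a ha g => by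
      rw [mem_subgroupOf] at ha ⊢
      have : (g : G) * a * (g : G)⁻¹ = a := by rw [← c.mem_H.1 g.2 _ ha, mul_inv_cancel_right]
      show (g : G) * a * (g : G)⁻¹ ∈ _
      rw [this]; exact ha⟩
    refine SEB.le_oddCore (N := c.C.PhiG.subgroupOf c.H) ?_ (mem_subgroupOf.2 hx)
    rw [Nat.card_congr (subgroupOfEquivOfLe c.Phi_le).toEquiv, c.C.card_PhiG]
    exact c.C.odd

theorem card_oddCore [IsSimpleGroup G] : Nat.card (Cfsg.oddCore c.H) = c.ee := by
  rw [show Cfsg.oddCore c.H = c.C.PhiG.subgroupOf c.H from Subgroup.ext fun x => c.mem_oddCore.trans mem_subgroupOf.symm,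
    Nat.card_congr (subgroupOfEquivOfLe c.Phi_le).toEquiv, c.C.card_PhiG, Frame.e, c.eq]

/-- A normal subgroup of the quotient with an involution contains all of `S`. -/
theorem Syl_in_normal [IsSimpleGroup G] (A : Subgroup (c.H ⧸ Cfsg.oddCore c.H)) [A.Normal] (hA : Even (Nat.card A))
    (s : c.H) (hs : (s : G) ∈ c.C.Syl) : (s : c.H ⧸ Cfsg.oddCore c.H) ∈ A := by
  haveI := Fact.mk Nat.prime_two
  obtain ⟨⟨a, ha⟩, hoa⟩ := exists_prime_orderOf_dvd_card' (G := A) 2 (even_iff_two_dvd.1 hA)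
  rw [Subgroup.orderOf_mk] at hoa
  obtain ⟨x, rfl⟩ := QuotientGroup.mk_surjective a
  have hx2 : ((x * x : c.H) : G) ∈ c.C.PhiG := by
    rw [← c.mem_oddCore, ← QuotientGroup.eq_one_iff, QuotientGroup.mk_mul, ← pow_two]
    have := pow_orderOf_eq_one (x : c.H ⧸ Cfsg.oddCore c.H)
    rw [hoa] at this
    exact this
  set z := x ^ c.ee with hz
  have hzA : (z : c.H ⧸ Cfsg.oddCore c.H) ∈ A := by rw [hz, QuotientGroup.mk_pow]; exact pow_mem ha _
  have hz2 : z * z = 1 := by
    apply Subtype.ext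
    rw [hz, ← (Commute.refl x).mul_pow, Subgroup.coe_pow, Subgroup.coe_one]
    have h := pow_card_eq_one' (x := (⟨_, hx2⟩ : c.C.PhiG))
    rw [c.C.card_PhiG, Frame.e, c.eq] at h
    exact congrArg Subtype.val h
  have hz1 : z ≠ 1 := fun e => by
    have h1 : (x : c.H ⧸ Cfsg.oddCore c.H) ^ c.ee = 1 := by rw [← QuotientGroup.mk_pow, ← hz, e, QuotientGroup.mk_one]
    have h2 := orderOf_dvd_of_pow_eq_one h1
    rw [hoa] at h2
    have := Nat.odd_iff.1 c.hodd
    omega
  obtain ⟨h, eh⟩ := c.inv_conj z (orderOf_eq_prime (by rw [pow_two, hz2]) hz1)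
  by_cases hs1 : s = 1
  · rw [hs1, QuotientGroup.mk_one]; exact one_mem _
  obtain ⟨n, hn, en⟩ := c.exists_to_t hs fun e => hs1 (Subtype.ext e)
  have hw : s = (⟨n, c.NS_le hn⟩⁻¹ * h) * z * (⟨n, c.NS_le hn⟩⁻¹ * h)⁻¹ := Subtype.ext (by
    simp only [Subgroup.coe_mul, Subgroup.coe_inv, mul_inv_rev, inv_inv]
    rw [show n⁻¹ * (h : G) * z * ((h : G)⁻¹ * n) = n⁻¹ * ((h : G) * z * (h : G)⁻¹) * n by group, eh, ← en]
    group)
  rw [hw, QuotientGroup.mk_mul, QuotientGroup.mk_mul, QuotientGroup.mk_inv]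
  exact Normal.conj_mem inferInstance _ hzA _

/-- The solvable case. -/
theorem card_solvable [IsSimpleGroup G] (hs : Group.IsSolvable c.H) : Nat.card c.H = 168 * c.ee := by
  set O := Cfsg.oddCore c.H
  haveI : Nontrivial (c.H ⧸ O) := by
    refine ⟨((⟨c.t, c.Syl_le (c.C.V_le_Syl c.C.t_mem_V)⟩ : c.H) : c.H ⧸ O), 1, fun e => ?_⟩
    rw [QuotientGroup.eq_one_iff, c.mem_oddCore] at e
    have := c.C.Phi_odd e
    rw [c.C.S.ht] at this
    exact absurd this (by decide)
  haveI := hs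
  obtain ⟨A, hAn, hA1, hAc⟩ := exists_comm_normal (X := c.H ⧸ O) inferInstance
  have hev : Even (Nat.card A) := by
    by_contra hodd
    rw [Nat.not_even_iff_odd] at hodd
    have hle : A.comap (QuotientGroup.mk' O) ≤ O := by
      refine SEB.le_oddCore ?_
      have h1 := (A.comap (QuotientGroup.mk' O)).card_mul_index
      rw [Subgroup.index_comap_of_surjective A (QuotientGroup.mk'_surjective O), Subgroup.card_eq_card_quotient_mul_card_subgroup O,
        ← A.card_mul_index, show Nat.card O = c.ee from c.card_oddCore] at h1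
      have h2 : Nat.card (A.comap (QuotientGroup.mk' O)) = Nat.card A * c.ee :=
        Nat.eq_of_mul_eq_mul_right (Nat.pos_of_ne_zero Subgroup.index_ne_zero_of_finite) (by rw [h1]; ring)
      rw [h2]
      exact hodd.mul c.hodd
    exact hA1 ((eq_bot_iff_forall _).2 fun a ha => by
      obtain ⟨x, rfl⟩ := QuotientGroup.mk_surjective a
      exact (QuotientGroup.eq_one_iff x).2 (hle (mem_comap.2 ha)))
  have hH : (c.C.NS.subgroupOf c.H) = ⊤ := by
    refine eq_top_iff.2 fun h _ => mem_subgroupOf.2 (mem_normalizer_of_map _ fun a ha => ?_)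
    set w : G := (h : G) * a * (h : G)⁻¹ with hwdef
    have hwH : w ∈ c.H := mul_mem (mul_mem h.2 (c.Syl_le ha)) (inv_mem h.2)
    have hw2 : w * w = 1 := by rw [hwdef, show (h : G) * a * (h : G)⁻¹ * ((h : G) * a * (h : G)⁻¹) =
      (h : G) * (a * a) * (h : G)⁻¹ by group, c.C.Syl_sq ha, mul_one, mul_inv_cancel]
    have hwA : ((⟨w, hwH⟩ : c.H) : c.H ⧸ O) ∈ A := by
      rw [show (⟨w, hwH⟩ : c.H) = h * ⟨a, c.Syl_le ha⟩ * h⁻¹ from rfl, QuotientGroup.mk_mul, QuotientGroup.mk_mul,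
        QuotientGroup.mk_inv]
      exact hAn.conj_mem _ (c.Syl_in_normal A hev ⟨a, c.Syl_le ha⟩ ha) _
    have hcomm : ∀ b ∈ c.C.Syl, w * b = b * w := by
      intro b hb
      have h1 := (hAc _ hwA _ (c.Syl_in_normal A hev ⟨b, c.Syl_le hb⟩ hb)).eq
      rw [← QuotientGroup.mk_mul, ← QuotientGroup.mk_mul, QuotientGroup.eq, c.mem_oddCore] at h1
      set φ := (w * b)⁻¹ * (b * w) with hφ
      have hφP : φ ∈ c.C.PhiG := h1
      have e1 : b * w = w * b * φ := by rw [hφ, mul_inv_cancel_left]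
      have hbH := c.mem_H.1 (c.Syl_le hb) φ hφP
      have hw' := c.mem_H.1 hwH φ hφP
      have e2 : φ * φ = 1 := by
        have e3 : b * w * b = w * φ := by
          rw [e1, mul_assoc (w * b), hbH, ← mul_assoc (w * b), mul_assoc w, c.C.Syl_sq hb, mul_one]
        have e4 : b * w * b * (b * w * b) = 1 := by
          rw [show b * w * b * (b * w * b) = b * w * (b * b) * (w * b) by group, c.C.Syl_sq hb, mul_one,
            show b * w * (w * b) = b * (w * w) * b by group, hw2, mul_one, c.C.Syl_sq hb]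
        rw [e3, show w * φ * (w * φ) = w * (φ * w) * φ by group, hw', ← mul_assoc w w, hw2, one_mul] at e4
        exact e4
      have e5 : φ = 1 := by
        obtain ⟨k, hk⟩ := sq_pow (c.C.Phi_odd hφP)
        rw [hk, pow_two, e2, one_pow]
      rw [e1, e5, mul_one]
    obtain ⟨a', ha', f', hf', e⟩ := c.C.cent_Syl (hcomm _ (c.C.V_le_Syl c.C.t_mem_V))
      (hcomm _ (c.C.V_le_Syl c.C.s_mem_V)) (hcomm _ c.C.u0_mem_Syl)
    have hf1 : f' * f' = 1 := by
      rw [e, show a' * f' * (a' * f') = a' * (f' * a') * f' by group, (c.C.Syl_Phi ha' hf').eq, ← mul_assoc a' a',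
        c.C.Syl_sq ha', one_mul] at hw2
      exact hw2
    obtain ⟨k, hk⟩ := sq_pow (c.C.Phi_odd hf')
    rw [hk, pow_two, hf1, one_pow, mul_one] at e
    show w ∈ c.C.Syl
    rw [e]; exact ha'
  rw [← c.card_NS, ← Nat.card_congr (subgroupOfEquivOfLe c.NS_le).toEquiv, hH, Subgroup.card_top]

/-- `N(S)` inside `C(Φ)`. -/
theorem normalizer_P2 : normalizer ((c.P2 : Sylow 2 c.H) : Set c.H) = c.C.NS.subgroupOf c.H := by
  ext h
  rw [mem_subgroupOf]
  constructor
  · intro hh
    refine mem_normalizer_of_map _ fun a ha => ?_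
    exact c.mem_P2.1 ((mem_normalizer_iff.1 hh (⟨a, c.Syl_le ha⟩ : c.H)).1 (c.mem_P2.2 ha))
  · intro hh
    exact mem_normalizer_of_map _ fun a ha => c.mem_P2.2 ((mem_normalizer_iff.1 hh _).1 (c.mem_P2.1 ha))

/-- `|C(Φ)| = 168 e n`, `n` the number of Sylow subgroups. -/
theorem card_H_sylows : Nat.card c.H = 168 * c.ee * Nat.card (Sylow 2 c.H) := by
  haveI := Fact.mk Nat.prime_two
  rw [Sylow.card_eq_index_normalizer c.P2, c.normalizer_P2, ← c.card_NS,
    ← Nat.card_congr (subgroupOfEquivOfLe c.NS_le).toEquiv]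
  exact (Subgroup.card_mul_index _).symm

/-- The non-solvable case: a bound for the order. -/
theorem card_nonsolvable [IsSimpleGroup G] (hns : ¬ Group.IsSolvable c.H) : Nat.card c.H ∣ 10584 * c.ee := by
  classical
  haveI := Fact.mk Nat.prime_two
  set O := Cfsg.oddCore c.H with hO
  have hS : IsMulCommutative (c.P2 : Subgroup c.H) := ⟨⟨fun a b => Subtype.ext (Subtype.ext
    (Solv.AbelianTwo.commute_of_mem c.C.hab c.C.sylow.2 (c.mem_P2.1 a.2) (c.mem_P2.1 b.2)).eq)⟩⟩
  obtain h | ⟨K, _, _, hK, N, hNn, ⟨iso⟩, -⟩ := S3188.result c.P2 hS c.cent_solvable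
  · exact absurd h hns
  haveI := hNn
  haveI : Finite (Matrix.ProjectiveSpecialLinearGroup (Fin 2) K) := Finite.of_surjective _ PSL2.pr_surjective
  let π := QuotientGroup.mk' O
  have hπ : Function.Surjective π := QuotientGroup.mk'_surjective O
  set Pb : Sylow 2 (c.H ⧸ O) := c.P2.mapSurjective hπ with hPb
  have hPc : (Pb : Subgroup (c.H ⧸ O)) = (c.P2 : Subgroup c.H).map π := rfl
  have hinj : Function.Injective (π.comp (c.P2 : Subgroup c.H).subtype) := by
    rw [injective_iff_map_eq_one]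
    intro a ha
    have ha' : ((a : c.H) : G) ∈ c.C.PhiG := c.mem_oddCore.1 ((QuotientGroup.eq_one_iff (a : c.H)).1 ha)
    obtain ⟨k, hk⟩ := sq_pow (c.C.Phi_odd ha')
    refine Subtype.ext (Subtype.ext ?_)
    rw [hk, pow_two, c.C.Syl_sq (c.mem_P2.1 a.2), one_pow]
    rfl
  have h8 : Nat.card (Pb : Subgroup (c.H ⧸ O)) = 8 := by
    rw [hPc, ← (c.P2 : Subgroup c.H).range_subtype, ← MonoidHom.range_comp,
      ← Nat.card_congr (MonoidHom.ofInjective hinj).toEquiv, ← c.card_Syl]
    exact Nat.card_congr (subgroupOfEquivOfLe c.Syl_le).toEquiv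
  have hcardN := Classical.Dickson.card_psl K
  rw [← Nat.card_congr iso.toEquiv] at hcardN
  have hev : Even (Nat.card N) := by
    rcases Nat.even_or_odd (Nat.card N) with h | h
    · exact h
    exfalso
    haveI : Group.IsSolvable N := StrongProd.solvable_of_odd (G := c.H ⧸ O) h
    refine S0810.psl_not_solvable (F := K) (by
      rcases hK with ⟨-, h5⟩ | ⟨n, hn, e⟩
      · omega
      · rw [e]; exact le_trans (by norm_num) (Nat.pow_le_pow_right (by norm_num) hn)) ?_
    exact Group.isSolvable_of_isSolvable_injective (f := iso.symm.toMonoidHom) iso.symm.injective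
  have hle : (Pb : Subgroup (c.H ⧸ O)) ≤ N := by
    rw [hPc]
    rintro _ ⟨s, hs, rfl⟩
    exact c.Syl_in_normal N hev s (c.mem_P2.1 hs)
  have hN504 : Nat.card N = 504 := by
    have h := (Pb.subtype hle).card_eq_multiplicity
    rw [show Nat.card (Pb.subtype hle : Subgroup N) = 8 from
      (Nat.card_congr (subgroupOfEquivOfLe hle).toEquiv).trans h8] at h
    have hf : (Nat.card N).factorization 2 = 3 := by
      have h' : 2 ^ 3 = 2 ^ (Nat.card N).factorization 2 := h
      exact (Nat.pow_right_injective (le_refl 2) h').symm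
    refine psl_two_part hcardN ?_ ?_ hK
    · have := Nat.ordProj_dvd (Nat.card N) 2
      rwa [hf] at this
    · intro h16
      have := (Nat.Prime.pow_dvd_iff_le_factorization Nat.prime_two (Nat.card_pos.ne')).1
        (show 2 ^ 4 ∣ Nat.card N from h16)
      omega
  -- Frattini
  set M : Subgroup (c.H ⧸ O) := normalizer ((Pb : Subgroup (c.H ⧸ O)) : Set (c.H ⧸ O)) with hM
  have hFr : N ⊔ M = ⊤ := by
    have h := Sylow.normalizer_sup_eq_top (Pb.subtype hle)
    rw [show ((Pb.subtype hle : Subgroup N).map N.subtype) = (Pb : Subgroup (c.H ⧸ O)) from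
      Subgroup.map_subgroupOf_eq_of_le hle, sup_comm] at h
    exact h
  have hM168 : Nat.card M ∣ 168 := by
    have hMle : M ≤ (c.C.NS.subgroupOf c.H).map π := by
      intro m hm
      obtain ⟨h, rfl⟩ := hπ m
      refine ⟨h, mem_subgroupOf.2 (mem_normalizer_of_map _ fun a ha => ?_), rfl⟩
      have h1 : π (h * ⟨a, c.Syl_le ha⟩ * h⁻¹) ∈ (Pb : Subgroup (c.H ⧸ O)) := by
        rw [map_mul, map_mul, map_inv]
        exact (mem_normalizer_iff.1 hm _).1 ⟨⟨a, c.Syl_le ha⟩, c.mem_P2.2 ha, rfl⟩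
      rw [hPc] at h1
      obtain ⟨b, hb, eb⟩ := h1
      have hb' : ((b : G))⁻¹ * ((h : G) * a * (h : G)⁻¹) ∈ c.C.PhiG := c.mem_oddCore.1 (QuotientGroup.eq.1 eb)
      set φ := ((b : G))⁻¹ * ((h : G) * a * (h : G)⁻¹) with hφ
      have e1 : (h : G) * a * (h : G)⁻¹ = b * φ := by rw [hφ, mul_inv_cancel_left]
      have hsq : (b : G) * φ * (b * φ) = 1 := by
        rw [← e1, show (h : G) * a * (h : G)⁻¹ * ((h : G) * a * (h : G)⁻¹) = (h : G) * (a * a) * (h : G)⁻¹ by group,
          c.C.Syl_sq ha, mul_one, mul_inv_cancel]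
      rw [show (b : G) * φ * (b * φ) = b * (φ * b) * φ by group, (c.C.Syl_Phi (c.mem_P2.1 hb) hb').eq,
        ← mul_assoc (b : G) b, c.C.Syl_sq (c.mem_P2.1 hb), one_mul] at hsq
      obtain ⟨k, hk⟩ := sq_pow (c.C.Phi_odd hb')
      rw [hk, pow_two, hsq, one_pow, mul_one] at e1
      show (h : G) * a * (h : G)⁻¹ ∈ c.C.Syl
      rw [e1]; exact c.mem_P2.1 hb
    have hker : O ≤ c.C.NS.subgroupOf c.H := fun x hx =>
      mem_subgroupOf.2 (mem_normalizer_of_map _ fun a ha => by
        rw [(c.C.Syl_Phi ha (c.mem_oddCore.1 hx)).eq, mul_inv_cancel_right]; exact ha)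
    have h168 : Nat.card ((c.C.NS.subgroupOf c.H).map π) = 168 := by
      have h1 := ((c.C.NS.subgroupOf c.H).map π).card_mul_index
      rw [Subgroup.index_map_eq _ hπ (by rwa [QuotientGroup.ker_mk'])] at h1
      have h2 := (c.C.NS.subgroupOf c.H).card_mul_index
      rw [Nat.card_congr (subgroupOfEquivOfLe c.NS_le).toEquiv, c.card_NS,
        Subgroup.card_eq_card_quotient_mul_card_subgroup O, ← h1, show Nat.card O = c.ee from c.card_oddCore] at h2
      refine Nat.eq_of_mul_eq_mul_right (Nat.mul_pos (Nat.pos_of_ne_zero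
        (Subgroup.index_ne_zero_of_finite (H := c.C.NS.subgroupOf c.H))) c.ee_pos) ?_
      rw [← mul_assoc, ← h2]; ring
    rw [← h168]
    exact card_dvd_of_le hMle
  have hmul := Solv.card_sup_mul_card_inf' N M (by rw [normalizer_eq_top]; exact le_top)
  rw [hFr, Subgroup.card_top, hN504] at hmul
  have h8i : 8 ∣ Nat.card (N ⊓ M : Subgroup (c.H ⧸ O)) := by
    rw [← h8]; exact card_dvd_of_le (le_inf hle le_normalizer)
  have hdiv : Nat.card (c.H ⧸ O) ∣ 10584 := by
    have h1 : Nat.card (c.H ⧸ O) * 8 ∣ 504 * 168 :=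
      dvd_trans (Nat.mul_dvd_mul_left _ h8i) (by rw [hmul]; exact Nat.mul_dvd_mul_left _ hM168)
    exact Nat.dvd_of_mul_dvd_mul_right (by norm_num) (show Nat.card (c.H ⧸ O) * 8 ∣ 10584 * 8 from h1)
  rw [Subgroup.card_eq_card_quotient_mul_card_subgroup O, show Nat.card O = c.ee from c.card_oddCore]
  exact Nat.mul_dvd_mul_right hdiv _

/-- Distinct Sylow two-subgroups of `C(Φ)` meet trivially, so their number is `1` modulo `8`. -/
theorem sylows_mod_eight : Nat.card (Sylow 2 c.H) ≡ 1 [MOD 8] := by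
  classical
  haveI := Fact.mk Nat.prime_two
  let S8 : Subgroup c.H := (c.P2 : Subgroup c.H)
  have h8 : Nat.card S8 = 8 := (Nat.card_congr (subgroupOfEquivOfLe c.Syl_le).toEquiv).trans c.card_Syl
  have hfree : ∀ (a : S8) (P : Sylow 2 c.H), a ≠ 1 → a • P = P → P = c.P2 := by
    intro a P ha haP
    have haN : (a : c.H) ∈ normalizer ((P : Subgroup c.H) : Set c.H) :=
      Sylow.smul_eq_iff_mem_normalizer.1 (show (a : c.H) • P = P from haP)
    have haP' : (a : c.H) ∈ (P : Subgroup c.H) := by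
      have hsq : (a : c.H) * a = 1 := Subtype.ext (c.C.Syl_sq (c.mem_P2.1 a.2))
      have hp : IsPGroup 2 (zpowers (a : c.H) ⊔ (P : Subgroup c.H) : Subgroup c.H) :=
        (IsPGroup.to_sup_of_normal_right' (IsPGroup.of_card (p := 2) (n := 1) (by
          rw [Nat.card_zpowers, pow_one]
          exact orderOf_eq_prime (by rw [pow_two, hsq]) fun e => ha (Subtype.ext e)))
          P.2 (zpowers_le.2 haN))
      exact P.3 hp le_sup_right ▸ mem_sup_left (mem_zpowers _)
    have hPS : (P : Subgroup c.H) ≤ (c.P2 : Subgroup c.H) := by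
      intro x hx
      have hxa := (Solv.AbelianTwo.commute_of_mem c.C.hab (P.2.map c.H.subtype) ⟨x, hx, rfl⟩ ⟨_, haP', rfl⟩).eq
      have hxN : (x : G) ∈ c.C.NS := c.cent_inv (c.mem_P2.1 a.2)
        (fun e => ha (Subtype.ext (Subtype.ext e))) x.2 hxa
      have hp : IsPGroup 2 ((P : Subgroup c.H).map c.H.subtype ⊓ c.C.NS ⊔ c.C.Syl : Subgroup G) :=
        IsPGroup.to_sup_of_normal_right' ((P.2.map c.H.subtype).to_le inf_le_left) c.C.sylow.2 inf_le_right
      exact c.mem_P2.2 (c.C.Syl_max hp le_sup_right ▸ mem_sup_left ⟨⟨x, hx, rfl⟩, hxN⟩)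
    exact Sylow.ext (le_antisymm hPS (P.3 c.P2.2 hPS).le)
  have hfix : MulAction.fixedPoints S8 (Sylow 2 c.H) = {c.P2} := by
    ext P
    rw [Set.mem_singleton_iff]
    constructor
    · intro hP
      haveI : Nontrivial S8 := Finite.one_lt_card_iff_nontrivial.1 (by rw [h8]; norm_num)
      obtain ⟨a, ha⟩ := exists_ne (1 : S8)
      exact hfree a P ha (hP a)
    · rintro rfl a
      exact Sylow.smul_eq_iff_mem_normalizer.2 (le_normalizer a.2)
  -- every other orbit has eight elements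
  have hne : ∀ P : Sylow 2 c.H, P ≠ c.P2 → ∀ a : S8, a • P = P → a = 1 := fun P hP a ha =>
    by_contra fun h => hP (hfree a P h ha)
  haveI := Fintype.ofFinite (Sylow 2 c.H)
  haveI := Fintype.ofFinite (MulAction.orbitRel.Quotient S8 (Sylow 2 c.H))
  rw [Nat.card_congr (MulAction.selfEquivSigmaOrbitsQuotientStabilizer S8 (Sylow 2 c.H)), Nat.card_sigma]
  set o := (Quotient.mk'' c.P2 : MulAction.orbitRel.Quotient S8 (Sylow 2 c.H))
  rw [← Finset.add_sum_erase _ _ (Finset.mem_univ o)]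
  have hterm : ∀ w : MulAction.orbitRel.Quotient S8 (Sylow 2 c.H),
      Nat.card (S8 ⧸ MulAction.stabilizer S8 w.out) = if w = o then 1 else 8 := by
    intro w
    by_cases hw : w.out = c.P2
    · rw [if_pos (by rw [← w.out_eq', hw])]
      have : MulAction.stabilizer S8 w.out = ⊤ := eq_top_iff.2 fun a _ => by
        rw [hw]
        exact Sylow.smul_eq_iff_mem_normalizer.2 (le_normalizer a.2)
      rw [this]
      exact Subgroup.index_top
    · rw [if_neg (fun e => hw ?_)]
      · have : MulAction.stabilizer S8 w.out = ⊥ := (eq_bot_iff_forall _).2 fun a ha => hne _ hw a ha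
        rw [this]
        exact (Subgroup.index_bot).trans h8
      · have h1 : MulAction.orbitRel S8 (Sylow 2 c.H) w.out c.P2 := Quotient.eq''.1 (w.out_eq'.trans e)
        obtain ⟨a, ha⟩ := h1
        rw [← ha]
        exact Sylow.smul_eq_iff_mem_normalizer.2 (le_normalizer a.2)
  rw [hterm, if_pos rfl, Finset.sum_congr rfl fun w hw => (hterm w).trans (if_neg (Finset.mem_erase.1 hw).1),
    Finset.sum_const, smul_eq_mul]
  exact Nat.modEq_iff_dvd' (by omega) |>.2 (by simp) |>.symm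

/-- There are one or nine Sylow two-subgroups. -/
theorem card_sylows [IsSimpleGroup G] : Nat.card (Sylow 2 c.H) = 1 ∨ Nat.card (Sylow 2 c.H) = 9 := by
  have h := c.card_H_sylows
  by_cases hs : Group.IsSolvable c.H
  · left
    rw [c.card_solvable hs] at h
    exact (Nat.eq_of_mul_eq_mul_left (Nat.mul_pos (by norm_num) c.ee_pos) ((mul_one _).trans h)).symm
  · have h63 : Nat.card (Sylow 2 c.H) ∣ 63 := by
      have h2 := c.card_nonsolvable hs
      rw [h, show 10584 * c.ee = 168 * c.ee * 63 by ring] at h2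
      exact Nat.dvd_of_mul_dvd_mul_left (Nat.mul_pos (by norm_num) c.ee_pos) h2
    have h8 : Nat.card (Sylow 2 c.H) % 8 = 1 := c.sylows_mod_eight
    have hle : Nat.card (Sylow 2 c.H) ≤ 63 := Nat.le_of_dvd (by norm_num) h63
    generalize Nat.card (Sylow 2 c.H) = n at h63 h8 hle
    interval_cases n <;> omega

end Base

end Cfsg.Agent.Walter.JR.Res3
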