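import Cfsg.Agent.Lib.Walter.JR.Res3.Setting3
import Cfsg.Agent.Lib.Walter.JR.Res3.XOrder

/-!
# `C(Φ)`, part three: the bounds

`r = u 1` is centralised by no element of order seven and by no Sylow 3-subgroup of `C(Φ)`.
-/

set_option autoImplicit false
set_option linter.unusedSectionVars false
set_option linter.style.haveILetI false

namespace Cfsg.Agent.Walter.JR.Res3

open Subgroup Cfsg.Agent.Char.ReeThree Cfsg.Agent.Char.ReeOrder Cfsg.Agent.Small

universe u

namespace Cfg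

variable {G : Type u} [Group G] [Finite G] {F : Type} [Field F] [Fintype F] (c : Cfg G F)

/-- The element of `U` fixed by `Φ`. -/
noncomputable def r : G := c.u 1

theorem r3 : c.r ^ 3 = 1 := by
  haveI := c.char3
  rw [r, pow_three, ← c.u_add, ← c.u_add,
    show (1 : F) + (1 + 1) = ((3 : ℕ) : F) by push_cast; norm_num, CharP.cast_eq_zero, c.u_zero]

theorem r_ne : c.r ≠ 1 := fun h => one_ne_zero (c.u_inj (h.trans c.u_zero.symm))

theorem r_t : c.r * c.t = c.t * c.r := c.u_t 1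

theorem r_H : c.r ∈ c.H := c.mem_H_of_f (by
  have h := c.conj_u c.f_mem (1 : F)
  rw [map_one] at h
  exact mul_inv_eq_iff_eq_mul.1 h)

theorem r_NS : c.r ∈ c.C.NS := c.cent_t_NS c.r_H c.r_t

theorem r_not_Phi : c.r ∉ c.C.PhiG := fun h => c.r_ne (by
  rw [r, u, Frame.elt, c.C.L_inter_Phi (x := c.C.iso.symm (PSL2.pr (PSL2.uS 1))) h, map_one])

/-- In `N(S)` an element of order three commuting with one of order seven lies in `Φ`. -/
theorem seven_three {y z : G} (hy : y ∈ c.C.NS) {j : ℕ} (hy7 : orderOf y = 7 ^ j) (hyP : y ∉ c.C.PhiG) (hz : z ∈ c.C.NS) (hz3 : z ^ 3 = 1)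
    (hc : y * z = z * y) : z ∈ c.C.PhiG := by
  classical
  have hycw : ∀ w ∈ c.C.Syl, w ≠ 1 → ∀ k : ℕ, ¬ 7 ∣ k → y ^ k * w ≠ w * y ^ k := by
    intro w hw hw1 k hk e
    obtain ⟨n, hn, en⟩ := c.exists_to_t hw hw1
    have hmem : n * y ^ k * n⁻¹ ∈ centralizer ({c.t} : Set G) ⊓ c.H := Subgroup.mem_inf.2
      ⟨mem_centralizer_singleton_iff.2 (by
        rw [← en, show n * y ^ k * n⁻¹ * (n * w * n⁻¹) = n * (y ^ k * w) * n⁻¹ by group, e]; group),
        mul_mem (mul_mem (c.NS_le hn) (pow_mem (c.NS_le hy) k)) (inv_mem (c.NS_le hn))⟩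
    have hP : n * y ^ k * n⁻¹ ∈ c.C.PhiG := by
      set X : Subgroup G := centralizer ({c.t} : Set G) ⊓ c.H with hX
      haveI : (c.C.PhiG.subgroupOf X).Normal := ⟨fun a ha g => by
        rw [mem_subgroupOf] at ha ⊢
        show (g : G) * a * (g : G)⁻¹ ∈ c.C.PhiG
        rw [← c.mem_H.1 (Subgroup.mem_inf.1 g.2).2 _ ha, mul_inv_cancel_right]
        exact ha⟩
      have hle : c.C.PhiG ≤ X :=
        le_inf (fun g hg => mem_centralizer_singleton_iff.2 (c.C.Phi_t hg)) c.Phi_le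
      have hidx : (c.C.PhiG.subgroupOf X).index = 24 := by
        have h1 := (c.C.PhiG.subgroupOf X).card_mul_index
        rw [c.card_cent_t, Nat.card_congr (subgroupOfEquivOfLe hle).toEquiv, c.C.card_PhiG, Frame.e, c.eq] at h1
        exact Nat.eq_of_mul_eq_mul_left c.ee_pos (h1.trans (by ring))
      have h24 := orderOf_dvd_natCard (QuotientGroup.mk' (c.C.PhiG.subgroupOf X) ⟨_, hmem⟩)
      rw [← Subgroup.index_eq_card, hidx] at h24
      have h7 : orderOf (QuotientGroup.mk' (c.C.PhiG.subgroupOf X) ⟨_, hmem⟩) ∣ 7 ^ j := by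
        refine (orderOf_map_dvd _ _).trans ?_
        rw [Subgroup.orderOf_mk, show n * y ^ k * n⁻¹ = MulAut.conj n (y ^ k) from rfl, MulEquiv.orderOf_eq, ← hy7]
        exact orderOf_pow_dvd k
      have h1 := orderOf_eq_one_iff.1 (Nat.eq_one_of_dvd_coprimes
        (Nat.Coprime.pow_right j (by norm_num : Nat.Coprime 24 7)) h24 h7)
      exact mem_subgroupOf.1 ((QuotientGroup.eq_one_iff _).1 h1)
    have hyk : y ^ k ∈ c.C.PhiG := by
      have h := c.mem_H.1 (c.NS_le hn) _ hP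
      rwa [show n * y ^ k * n⁻¹ = y ^ k from (mul_left_cancel (a := n) (b := n * y ^ k * n⁻¹) (c := y ^ k) (by
        rw [← h]; group))] at hP
    obtain ⟨m, -, hm⟩ := Nat.exists_mul_mod_eq_of_coprime 1
      (show Nat.Coprime k (7 ^ j) from Nat.Coprime.pow_right j ((Nat.Prime.coprime_iff_not_dvd (by norm_num)).2 hk).symm)
      (by positivity)
    refine hyP ?_
    have := pow_mem hyk m
    rwa [← pow_mul, ← pow_mod_orderOf, hy7, hm, ← hy7, pow_mod_orderOf, pow_one] at this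
  have hzS : ∀ w ∈ c.C.Syl, z * w = w * z := by
    intro w hw
    by_cases hw1 : w = 1
    · rw [hw1, mul_one, one_mul]
    have hmem : ∀ k : ℕ, y ^ k * w * (y ^ k)⁻¹ ∈ c.C.Syl := fun k => (mem_normalizer_iff.1 (pow_mem hy k) w).1 hw
    -- the seven conjugates are all involutions of `S`
    let g : Fin 7 → {a : c.C.Syl // a ≠ 1} := fun i =>
      ⟨⟨_, hmem i⟩, fun e => hw1 (conj_eq_one_iff.1 (congrArg Subtype.val e))⟩
    have key : ∀ i j : ℕ, i < j → j < 7 → y ^ i * w * (y ^ i)⁻¹ ≠ y ^ j * w * (y ^ j)⁻¹ := by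
      intro i j hij hj e'
      refine hycw w hw hw1 (j - i) (by omega) ?_
      rw [show y ^ j = y ^ i * y ^ (j - i) by rw [← pow_add]; congr 1; omega,
        show y ^ i * y ^ (j - i) * w * (y ^ i * y ^ (j - i))⁻¹ = y ^ i * (y ^ (j - i) * w * (y ^ (j - i))⁻¹) * (y ^ i)⁻¹ by
          group] at e'
      exact mul_inv_eq_iff_eq_mul.1 (mul_left_cancel (mul_right_cancel e')).symm
    have hinj : Function.Injective g := by
      intro i j e
      have e' : y ^ (i : ℕ) * w * (y ^ (i : ℕ))⁻¹ = y ^ (j : ℕ) * w * (y ^ (j : ℕ))⁻¹ :=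
        congrArg (fun a : {a : c.C.Syl // a ≠ 1} => ((a : c.C.Syl) : G)) e
      by_contra hij
      rcases lt_or_gt_of_ne (fun h => hij (Fin.ext h) : (i : ℕ) ≠ j) with h | h
      · exact key _ _ h j.2 e'
      · exact key _ _ h i.2 e'.symm
    have h7 : Nat.card {a : c.C.Syl // a ≠ 1} = 7 := by
      haveI := Fintype.ofFinite c.C.Syl
      rw [Nat.card_eq_fintype_card, Fintype.card_subtype_compl, Fintype.card_subtype_eq, ← Nat.card_eq_fintype_card,
        c.card_Syl]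
    have hbij := hinj.bijective_of_nat_card_le (by rw [h7, Nat.card_fin])
    obtain ⟨i, hi⟩ := hbij.2 ⟨⟨z * w * z⁻¹, (mem_normalizer_iff.1 hz w).1 hw⟩,
      fun e => hw1 (conj_eq_one_iff.1 (congrArg Subtype.val e))⟩
    have ei : y ^ (i : ℕ) * w * (y ^ (i : ℕ))⁻¹ = z * w * z⁻¹ :=
      congrArg (fun a : {a : c.C.Syl // a ≠ 1} => ((a : c.C.Syl) : G)) hi
    have hzy : z * y ^ (i : ℕ) = y ^ (i : ℕ) * z := ((show Commute y z from hc).pow_left _).eq.symm
    set a := y ^ (i : ℕ) with ha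
    have e2 : z * (z * w * z⁻¹) * z⁻¹ = a * (a * w * a⁻¹) * a⁻¹ := by
      calc z * (z * w * z⁻¹) * z⁻¹ = (z * a) * w * (z * a)⁻¹ := by rw [← ei]; group
        _ = (a * z) * w * (a * z)⁻¹ := by rw [hzy]
        _ = a * (z * w * z⁻¹) * a⁻¹ := by group
        _ = a * (a * w * a⁻¹) * a⁻¹ := by rw [← ei]
    have e3 : a * (a * (a * w * a⁻¹) * a⁻¹) * a⁻¹ = w := by
      calc a * (a * (a * w * a⁻¹) * a⁻¹) * a⁻¹ = a * (z * (z * w * z⁻¹) * z⁻¹) * a⁻¹ := by rw [e2]
        _ = (a * z) * (z * w * z⁻¹) * (a * z)⁻¹ := by group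
        _ = (z * a) * (z * w * z⁻¹) * (z * a)⁻¹ := by rw [hzy]
        _ = z * (a * (z * w * z⁻¹) * a⁻¹) * z⁻¹ := by group
        _ = z * (z * (z * w * z⁻¹) * z⁻¹) * z⁻¹ := by rw [e2, ← ei]
        _ = z ^ 3 * w * (z ^ 3)⁻¹ := by rw [pow_three]; group
        _ = w := by rw [hz3]; group
    have h3i : 7 ∣ 3 * (i : ℕ) := by
      by_contra hn
      refine hycw w hw hw1 _ hn ?_
      rw [mul_comm 3, pow_mul, pow_three]
      show a * (a * a) * w = w * (a * (a * a))
      conv_rhs => rw [← e3]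
      group
    have hi0 : (i : ℕ) = 0 := by omega
    rw [ha, hi0, pow_zero, one_mul, inv_one, mul_one] at ei
    rw [eq_comm, mul_inv_eq_iff_eq_mul] at ei
    exact ei
  obtain ⟨s, hs, h, hh, e⟩ := c.C.cent_Syl (hzS _ (c.C.V_le_Syl c.C.t_mem_V)) (hzS _ (c.C.V_le_Syl c.C.s_mem_V))
    (hzS _ c.C.u0_mem_Syl)
  rw [e, pow_three, show s * h * (s * h * (s * h)) = s * (h * s) * (h * s) * h by group,
    (c.C.Syl_Phi hs hh).eq, show s * (s * h) * (s * h) * h = s * s * (h * s) * h * h by group, c.C.Syl_sq hs, one_mul,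
    (c.C.Syl_Phi hs hh).eq] at hz3
  have hsP : s ∈ c.C.PhiG := by
    rw [show s = (h * h * h)⁻¹ from eq_inv_of_mul_eq_one_left (by rw [← hz3]; group)]
    exact inv_mem (mul_mem (mul_mem hh hh) hh)
  rw [e]
  exact mul_mem hsP hh

/-- `C(Φ) ∩ C(r)` has no element of order seven. -/
theorem no_seven [IsSimpleGroup G] {y : G} (hy : y ∈ c.H) (hyr : y * c.r = c.r * y) {j : ℕ}
    (hy7 : orderOf y = 7 ^ j) : y ∈ c.C.PhiG := by
  classical
  by_contra hyP
  haveI := Fact.mk Nat.prime_two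
  haveI : Fact (Nat.Prime 7) := ⟨by norm_num⟩
  set Y : c.H := ⟨y, hy⟩
  set R : c.H := ⟨c.r, c.r_H⟩
  have hYR : Commute Y R := Subtype.ext hyr
  have hR3 : R ^ 3 = 1 := Subtype.ext c.r3
  -- a Sylow subgroup fixed by both
  obtain ⟨P, hPy, hPr⟩ : ∃ P : Sylow 2 c.H, Y • P = P ∧ R • P = P := by
    have hmap : ∀ {P : Sylow 2 c.H}, Y • P = P → Y • (R • P) = R • P := fun hP => by
      rw [smul_smul, hYR.eq, mul_smul, hP]
    have hcl : ∀ P : Sylow 2 c.H, P ∈ MulAction.fixedPoints (zpowers Y) (Sylow 2 c.H) ↔ Y • P = P := by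
      intro P
      refine ⟨fun h => h ⟨Y, mem_zpowers Y⟩, fun h k => ?_⟩
      obtain ⟨i, hi⟩ := k.2
      show (k : c.H) • P = P
      rw [← hi]
      exact MulAction.zpow_smul_eq_iff_minimalPeriod_dvd.2 (by
        rw [Function.minimalPeriod_eq_one_iff_isFixedPt.2 h]; exact one_dvd _)
    have h7 := (IsPGroup.of_card (p := 7) (n := j) (G := zpowers Y) (by
      rw [Nat.card_zpowers, ← hy7, ← Subgroup.orderOf_coe Y])).card_modEq_card_fixedPoints (Sylow 2 c.H)
    set N := Nat.card (MulAction.fixedPoints (zpowers Y) (Sylow 2 c.H)) with hNdef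
    have hNle : N ≤ Nat.card (Sylow 2 c.H) := Nat.card_le_card_of_injective _ Subtype.val_injective
    have hN12 : N = 9 ∧ Nat.card (Sylow 2 c.H) = 9 ∨ N = 1 ∨ N = 2 := by
      unfold Nat.ModEq at h7
      rcases c.card_sylows with e | e <;> rw [e] at h7 hNle <;> omega
    rcases hN12 with ⟨h9, h9'⟩ | h12
    · -- `y` normalises every Sylow subgroup
      have hall : ∀ P : Sylow 2 c.H, Y • P = P := by
        intro P
        rw [← hcl]
        have := (Set.eq_univ_iff_ncard (MulAction.fixedPoints (zpowers Y) (Sylow 2 c.H))).2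
          (by rw [← Nat.card_coe_set_eq, ← hNdef, h9, h9'])
        rw [this]; trivial
      refine ⟨c.P2, hall _, Sylow.smul_eq_iff_mem_normalizer.2 ?_⟩
      rw [c.normalizer_P2]
      exact mem_subgroupOf.2 c.r_NS
    obtain ⟨⟨P, hP⟩⟩ : Nonempty (MulAction.fixedPoints (zpowers Y) (Sylow 2 c.H)) := by
      rcases (Nat.card_pos_iff (α := MulAction.fixedPoints (zpowers Y) (Sylow 2 c.H))).1 (by omega) with ⟨h, -⟩
      exact h
    rw [hcl] at hP
    refine ⟨P, hP, ?_⟩
    by_contra hne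
    have hne2 : R • R • P ≠ P := fun e => hne (by
      have h3 : R • R • R • P = P := by rw [smul_smul, smul_smul, ← pow_three', hR3, one_smul]
      rw [e] at h3; exact h3)
    have hne3 : R • R • P ≠ R • P := fun e => hne (smul_left_cancel R e)
    haveI := Fintype.ofFinite (MulAction.fixedPoints (zpowers Y) (Sylow 2 c.H))
    have hlt : 2 < N := by
      rw [hNdef, Nat.card_eq_fintype_card, Fintype.two_lt_card_iff]
      exact ⟨⟨P, (hcl _).2 hP⟩, ⟨R • P, (hcl _).2 (hmap hP)⟩, ⟨R • R • P, (hcl _).2 (hmap (hmap hP))⟩,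
        fun e => hne (congrArg Subtype.val e).symm, fun e => hne2 (congrArg Subtype.val e).symm,
        fun e => hne3 (congrArg Subtype.val e).symm⟩
    omega
  obtain ⟨g, hg⟩ := MulAction.exists_smul_eq c.H P c.P2
  have fix : ∀ X : c.H, X • P = P → (g : G) * X * (g : G)⁻¹ ∈ c.C.NS := by
    intro X hX
    have : (g * X * g⁻¹) • c.P2 = c.P2 := by rw [← hg, smul_smul, inv_mul_cancel_right, mul_smul, hX]
    have h := Sylow.smul_eq_iff_mem_normalizer.1 this
    rw [c.normalizer_P2, mem_subgroupOf] at h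
    exact h
  have hr := c.seven_three (fix Y hPy) (j := j) (by
      rw [show (g : G) * (Y : G) * (g : G)⁻¹ = MulAut.conj (g : G) y from rfl, MulEquiv.orderOf_eq, hy7])
    (fun h => hyP (by
      have e := c.mem_H.1 g.2 _ h
      rwa [show (g : G) * (Y : G) * (g : G)⁻¹ = (Y : G) from (mul_left_cancel (a := (g : G)) (b := (g : G) * Y * (g : G)⁻¹)
        (c := (Y : G)) (by rw [← e]; group))] at h)) (fix R hPr)
    (by show ((g : G) * c.r * (g : G)⁻¹) ^ 3 = 1; rw [conj_pow, c.r3, mul_one, mul_inv_cancel])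
    (by show (g : G) * y * (g : G)⁻¹ * ((g : G) * c.r * (g : G)⁻¹) = (g : G) * c.r * (g : G)⁻¹ * ((g : G) * y * (g : G)⁻¹)
        rw [show (g : G) * y * (g : G)⁻¹ * ((g : G) * c.r * (g : G)⁻¹) = (g : G) * (y * c.r) * (g : G)⁻¹ by group, hyr]
        group)
  apply c.r_not_Phi
  have h := c.mem_H.1 g.2 _ hr
  rw [show c.r = (g : G)⁻¹ * ((g : G) * (R : G) * (g : G)⁻¹) * g from
    (show c.r = (g : G)⁻¹ * ((g : G) * c.r * (g : G)⁻¹) * g by group), mul_assoc, h, inv_mul_cancel_left]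
  exact hr

/-- An element of `C(Φ)` normalising all nine Sylow subgroups lies in `Φ`. -/
theorem kernel_Phi [IsSimpleGroup G] (h9 : Nat.card (Sylow 2 c.H) = 9) {x : c.H}
    (hx : ∀ P : Sylow 2 c.H, x • P = P) : (x : G) ∈ c.C.PhiG := by
  classical
  haveI := Fact.mk Nat.prime_two
  set K : Subgroup c.H := (MulAction.toPermHom c.H (Sylow 2 c.H)).ker with hK
  have hxK : x ∈ K := MonoidHom.mem_ker.2 (Equiv.ext fun P => hx P)
  rcases Nat.even_or_odd (Nat.card K) with he | ho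
  · exfalso
    obtain ⟨⟨a, ha⟩, hoa⟩ := exists_prime_orderOf_dvd_card' (G := K) 2 (even_iff_two_dvd.1 he)
    rw [Subgroup.orderOf_mk] at hoa
    obtain ⟨h, eh⟩ := c.inv_conj a hoa
    have htK : ∀ P : Sylow 2 c.H, (⟨c.t, c.Syl_le (c.C.V_le_Syl c.C.t_mem_V)⟩ : c.H) • P = P := fun P => by
      have hm : h * a * h⁻¹ ∈ K := (MonoidHom.normal_ker _).conj_mem a ha h
      rw [show (⟨c.t, c.Syl_le (c.C.V_le_Syl c.C.t_mem_V)⟩ : c.H) = h * a * h⁻¹ from Subtype.ext eh.symm]
      exact Equiv.ext_iff.1 (MonoidHom.mem_ker.1 hm) P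
    have hS : ∀ s ∈ c.C.Syl, ∀ hs : s ∈ c.H, ∀ P : Sylow 2 c.H, (⟨s, hs⟩ : c.H) • P = P := by
      intro s hs hsH P
      by_cases hs1 : s = 1
      · subst hs1; exact one_smul _ P
      obtain ⟨n, hn, en⟩ := c.exists_to_t hs hs1
      rw [show (⟨s, hsH⟩ : c.H) = ⟨n, c.NS_le hn⟩⁻¹ * ⟨c.t, c.Syl_le (c.C.V_le_Syl c.C.t_mem_V)⟩ * ⟨n, c.NS_le hn⟩ from
        Subtype.ext (by simp only [Subgroup.coe_mul, Subgroup.coe_inv, ← en]; group),
        mul_smul, mul_smul, htK, inv_smul_smul]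
    have huniq : ∀ P : Sylow 2 c.H, P = c.P2 := fun P => by
      have hN : (c.P2 : Subgroup c.H) ≤ normalizer ((P : Sylow 2 c.H) : Set c.H) := fun s hs =>
        Sylow.smul_eq_iff_mem_normalizer.1 (hS s (c.mem_P2.1 hs) s.2 P)
      have hp : IsPGroup 2 ((c.P2 : Subgroup c.H) ⊔ P : Subgroup c.H) :=
        IsPGroup.to_sup_of_normal_right' c.P2.2 P.2 hN
      exact Sylow.ext ((P.3 hp le_sup_right).symm.trans (c.P2.3 hp le_sup_left))
    haveI : Subsingleton (Sylow 2 c.H) := ⟨fun P Q => (huniq P).trans (huniq Q).symm⟩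
    rw [Nat.card_of_subsingleton c.P2] at h9
    omega
  · exact c.mem_oddCore.1 (SEB.le_oddCore (N := K) ho hxK)

/-- The subgroups of odd order of `C(Φ) ∩ C(r)`. -/
theorem odd_cent_r [IsSimpleGroup G] {K : Subgroup G} (hK : K ≤ c.H) (hKr : K ≤ centralizer ({c.r} : Set G))
    (ho : Odd (Nat.card K)) : Nat.card K ∣ 9 * c.ee := by
  classical
  haveI := Fact.mk Nat.prime_two
  have hn := c.card_H_sylows
  haveI : Fact (Nat.Prime 7) := ⟨by norm_num⟩
  have h8 : Nat.Coprime (Nat.card K) 8 := by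
    rw [show (8 : ℕ) = 2 ^ 3 by norm_num]
    exact Nat.Coprime.pow_right 3 (Nat.coprime_two_right.2 ho)
  -- the elements of seven-power order of `K` lie in `Φ`
  have drop : ∀ {M : ℕ}, c.ee ∣ M → 0 < M → ¬ 7 ∣ M / c.ee → Nat.card K ∣ 7 * M → Nat.card K ∣ M := by
    intro M hM hM0 h7M hd
    obtain ⟨d, hd⟩ := hd
    by_cases h7d : 7 ∣ d
    · obtain ⟨d', rfl⟩ := h7d
      exact Dvd.intro d' (Nat.eq_of_mul_eq_mul_left (by norm_num : 0 < 7) (hd.trans (by ring))).symm
    exfalso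
    set v := M.factorization 7
    have hv : 7 ^ (v + 1) ∣ Nat.card K := by
      refine (Nat.Coprime.pow_left _ ((Nat.Prime.coprime_iff_not_dvd (by norm_num)).2 h7d)).dvd_of_dvd_mul_right ?_
      rw [← hd, pow_succ']
      exact Nat.mul_dvd_mul_left _ (Nat.ordProj_dvd M 7)
    obtain ⟨D, hD⟩ := Sylow.exists_subgroup_card_pow_prime 7 hv
    have hDP : D.map K.subtype ≤ c.C.PhiG := by
      rintro _ ⟨y, hy, rfl⟩
      have hdy : orderOf (y : G) ∣ 7 ^ (v + 1) := by
        rw [Subgroup.orderOf_coe, ← hD]; exact D.orderOf_dvd_natCard hy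
      obtain ⟨i, -, hi⟩ := (Nat.dvd_prime_pow (by norm_num)).1 hdy
      exact c.no_seven (hK y.2) (mem_centralizer_singleton_iff.1 (hKr y.2)) hi
    have hde := card_dvd_of_le hDP
    rw [card_map_of_injective K.subtype_injective, hD, c.C.card_PhiG, Frame.e, c.eq] at hde
    have := (Nat.Prime.pow_dvd_iff_le_factorization (by norm_num) hM0.ne').1 (hde.trans hM)
    omega
  have hdvd := (Nat.card_congr (subgroupOfEquivOfLe hK).toEquiv).symm.dvd.trans
    ((K.subgroupOf c.H).card_subgroup_dvd_card)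
  rw [hn] at hdvd
  rcases c.card_sylows with h1 | h9
  · rw [h1, mul_one, show 168 * c.ee = 8 * (7 * (3 * c.ee)) by ring] at hdvd
    refine (drop (dvd_mul_left _ _) (by have := c.ee_pos; omega) ?_ (h8.dvd_of_dvd_mul_left hdvd)).trans ⟨3, by ring⟩
    rw [Nat.mul_div_cancel _ c.ee_pos]; norm_num
  rw [h9, show 168 * c.ee * 9 = 8 * (7 * (27 * c.ee)) by ring] at hdvd
  have h27 : Nat.card K ∣ 27 * c.ee := by
    refine drop (dvd_mul_left _ _) (by have := c.ee_pos; omega) ?_ (h8.dvd_of_dvd_mul_left hdvd)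
    rw [Nat.mul_div_cancel _ c.ee_pos]; norm_num
  by_contra hndvd
  -- a Sylow 3-subgroup
  obtain ⟨j, hj⟩ : ∃ j, c.ee.factorization 3 = j := ⟨_, rfl⟩
  have ht3 : c.t3 = 3 ^ j := by rw [t3, hj]
  obtain ⟨K3, hK3, hK3card⟩ : ∃ K3 : Subgroup G, K3 ≤ K ∧ Nat.card K3 = 27 * c.t3 := by
    haveI := Fact.mk Nat.prime_three
    have h3d : 27 * c.t3 ∣ Nat.card K := by
      obtain ⟨d, hd⟩ := h27
      by_contra hn
      apply hndvd
      have hd3 : 3 ∣ d := by
        by_contra hd3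
        refine hn ((Nat.Coprime.dvd_mul_right (Nat.Coprime.symm ?_)).1 (hd ▸ Nat.mul_dvd_mul_left 27 c.t3_dvd))
        rw [ht3, show (27 : ℕ) * 3 ^ j = 3 ^ (j + 3) by ring]
        exact Nat.Coprime.pow_right _ ((Nat.Prime.coprime_iff_not_dvd Nat.prime_three).2 hd3).symm
      obtain ⟨d', rfl⟩ := hd3
      exact ⟨d', by linarith⟩
    obtain ⟨K3, h⟩ := Sylow.exists_subgroup_card_pow_prime 3 (n := j + 3) (G := K)
      (by rw [show 3 ^ (j + 3) = 27 * c.t3 by rw [ht3]; ring]; exact h3d)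
    exact ⟨K3.map K.subtype, map_subtype_le _, by rw [card_map_of_injective K.subtype_injective, h, ht3]; ring⟩
  replace hKr := hK3.trans hKr
  replace hK := hK3.trans hK
  clear h27 hndvd hdvd drop h8 ho
  rename' K3 => K0
  clear K hK3
  rename' K0 => K
  -- `K` is transitive on the nine Sylow subgroups
  set K' : Subgroup c.H := K.subgroupOf c.H
  have hK' : Nat.card K' = 27 * c.t3 := (Nat.card_congr (subgroupOfEquivOfLe hK).toEquiv).trans hK3card
  have htrans : MulAction.orbit K' c.P2 = Set.univ := by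
    rw [Set.eq_univ_iff_ncard, h9]
    have horb := MulAction.index_stabilizer K' c.P2
    have hmul := (MulAction.stabilizer K' c.P2).card_mul_index
    rw [horb, hK'] at hmul
    have hst : Nat.card (MulAction.stabilizer K' c.P2) ∣ 168 * c.ee := by
      rw [← c.card_NS]
      refine Subgroup.card_dvd_of_injective
        (MonoidHom.codRestrict (c.H.subtype.comp (K'.subtype.comp (MulAction.stabilizer K' c.P2).subtype)) c.C.NS
          fun a => by
            have h := Sylow.smul_eq_iff_mem_normalizer.1 (show ((a : K') : c.H) • c.P2 = c.P2 from a.2)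
            rw [c.normalizer_P2, mem_subgroupOf] at h
            exact h) fun a b e => Subtype.ext (Subtype.ext (Subtype.ext (congrArg Subtype.val e :)))
    have hle9 : (MulAction.orbit K' c.P2).ncard ≤ 9 := h9 ▸ Set.ncard_le_card _
    have hst3 : Nat.card (MulAction.stabilizer K' c.P2) ∣ 3 * c.t3 := by
      have h1 := Nat.dvd_gcd (Dvd.intro _ hmul) hst
      have e1 : Nat.gcd (27 * c.t3) (168 * c.ee) = c.t3 * Nat.gcd 27 (168 * c.mm) := by
        rw [← c.t3_mul_mm, show 27 * c.t3 = c.t3 * 27 by ring, show 168 * (c.t3 * c.mm) = c.t3 * (168 * c.mm) by ring,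
          Nat.gcd_mul_left]
      have e2 : Nat.gcd 27 (168 * c.mm) = 3 := by
        rw [Nat.Coprime.gcd_mul_right_cancel_right 168 (show Nat.Coprime c.mm 27 from
          (Nat.Coprime.pow_right 3 ((Nat.Prime.coprime_iff_not_dvd Nat.prime_three).2 c.not_three_mm).symm))]
        norm_num
      rwa [e1, e2, mul_comm] at h1
    obtain ⟨i, hi⟩ := hst3
    have hpos := c.t3_pos
    have : 9 * Nat.card (MulAction.stabilizer K' c.P2) ≤ 27 * c.t3 := by
      have := Nat.le_of_dvd (by omega) (Dvd.intro i hi.symm)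
      omega
    nlinarith
  have hrall : ∀ P : Sylow 2 c.H, (⟨c.r, c.r_H⟩ : c.H) • P = P := by
    intro P
    obtain ⟨k, rfl⟩ : P ∈ MulAction.orbit K' c.P2 := by rw [htrans]; trivial
    have hcomm : (⟨c.r, c.r_H⟩ : c.H) * (k : c.H) = (k : c.H) * ⟨c.r, c.r_H⟩ :=
      Subtype.ext (mem_centralizer_singleton_iff.1 (hKr (mem_subgroupOf.1 k.2))).symm
    show (⟨c.r, c.r_H⟩ : c.H) • (k : c.H) • c.P2 = (k : c.H) • c.P2
    rw [smul_smul, hcomm, mul_smul]
    congr 1
    rw [Sylow.smul_eq_iff_mem_normalizer, c.normalizer_P2]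
    exact mem_subgroupOf.2 c.r_NS
  exact c.r_not_Phi (c.kernel_Phi h9 hrall)

/-- Three-subgroups of `C(Φ)`. -/
theorem three_bound [IsSimpleGroup G] {P : Subgroup G} (hP : P ≤ c.H) (h3 : IsPGroup 3 P) :
    Nat.card P ∣ 27 * c.t3 := by
  haveI := Fact.mk Nat.prime_three
  obtain ⟨k, hk⟩ := IsPGroup.iff_card.1 h3
  have hdvd := (Nat.card_congr (subgroupOfEquivOfLe hP).toEquiv).symm.dvd.trans
    ((P.subgroupOf c.H).card_subgroup_dvd_card)
  rw [c.card_H_sylows] at hdvd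
  have hc : ∀ n : ℕ, ¬ 3 ∣ n → Nat.Coprime (Nat.card P) n := fun n hn => by
    rw [hk]; exact Nat.Coprime.pow_left k ((Nat.Prime.coprime_iff_not_dvd Nat.prime_three).2 hn)
  have hm : Nat.Coprime (Nat.card P) (56 * c.mm) := (hc 56 (by norm_num)).mul_right (hc _ c.not_three_mm)
  rw [← c.t3_mul_mm] at hdvd
  rcases c.card_sylows with h | h
  · rw [h, mul_one, show 168 * (c.t3 * c.mm) = 56 * c.mm * (3 * c.t3) by ring] at hdvd
    exact (hm.dvd_of_dvd_mul_left hdvd).trans ⟨9, by ring⟩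
  · rw [h, show 168 * (c.t3 * c.mm) * 9 = 56 * c.mm * (27 * c.t3) by ring] at hdvd
    exact hm.dvd_of_dvd_mul_left hdvd

end Cfg

end Cfsg.Agent.Walter.JR.Res3
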